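import Mathlib
import Cfsg.Agent.Lib.H83.CITM4a
import Cfsg.Agent.S0215
import Cfsg.Prelude.Def_LieExceptional

/-!
Team T-CIT, module M4 (Bender counting), second part: from the structure of `Sep` groups with
TI Sylow 2-subgroups (M3) to `H83.CITM4.Dat`, and the Zassenhaus property.
-/
set_option autoImplicit false
set_option linter.style.haveILetI false

namespace H83.CITM4

open Subgroup Lead.CIT H28.Cj H28.RelSyl H25.Isolated H25.StrEmb

universe u

theorem isSyl_normalizer {L : Type*} [Group L] [Finite L] (P : Sylow 2 L) :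
    IsSyl 2 (P : Subgroup L) (normalizer ((P : Subgroup L) : Set L)) :=
  (isSyl_top P).of_le_of_le Subgroup.le_normalizer le_top

theorem mem_of_mem_normalizer {L : Type*} [Group L] [Finite L] (P : Sylow 2 L) {t : L}
    (ht : orderOf t = 2) (htN : t ∈ normalizer ((P : Subgroup L) : Set L)) :
    t ∈ (P : Subgroup L) := by
  have h1 : IsPGroup 2 (zpowers t) := by
    apply IsPGroup.of_card (n := 1)
    rw [Nat.card_zpowers, ht, pow_one]
  exact (isSyl_normalizer P).le_of_normal le_rfl h1 (by rwa [zpowers_le]) (mem_zpowers t)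

theorem normalizer_ne_top {L : Type*} [Group L] [Finite L] [IsSimpleGroup L]
    (hna : ∃ a b : L, a * b ≠ b * a) (hev : 2 ∣ Nat.card L) (P : Sylow 2 L) :
    normalizer ((P : Subgroup L) : Set L) ≠ ⊤ := by
  intro h
  have hn : (P : Subgroup L).Normal := Subgroup.normalizer_eq_top_iff.mp h
  rcases hn.eq_bot_or_eq_top with h1 | h1
  · exact (isSyl_top P).ne_bot (by rwa [Subgroup.card_top]) h1
  · have hP : IsPGroup 2 L := by
      have := P.2
      rw [h1] at this
      exact this.of_equiv Subgroup.topEquiv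
    haveI : Group.IsNilpotent L := hP.isNilpotent
    obtain ⟨a, b, hab⟩ := hna
    exact hab ((IsSimpleGroup.comm_iff_isSolvable (G := L)).mpr inferInstance a b)

theorem strEmb {L : Type*} [Group L] [Finite L] [IsSimpleGroup L]
    (hna : ∃ a b : L, a * b ≠ b * a) (hev : 2 ∣ Nat.card L)
    (hTI : ∀ P Q : Sylow 2 L, P ≠ Q → (P : Subgroup L) ⊓ Q = ⊥) (P : Sylow 2 L) :
    Cfsg.IsStronglyEmbedded (normalizer ((P : Subgroup L) : Set L)) := by
  refine ⟨normalizer_ne_top hna hev P, ?_, ?_⟩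
  · rw [even_iff_two_dvd]
    exact ((isSyl_top P).dvd_card (by rwa [Subgroup.card_top])).trans
      (Subgroup.card_dvd_of_le Subgroup.le_normalizer)
  · intro g hg
    rw [← Nat.not_even_iff_odd, even_iff_two_dvd]
    intro hdvd
    obtain ⟨t, ht⟩ := exists_prime_orderOf_dvd_card' (G := ↥(normalizer ((P : Subgroup L) : Set L) ⊓
      (normalizer ((P : Subgroup L) : Set L)).map (MulAut.conj g).toMonoidHom)) 2 hdvd
    rw [← Subgroup.orderOf_coe] at ht
    obtain ⟨h1, h2⟩ := Subgroup.mem_inf.mp t.2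
    rw [mem_map_conj] at h2
    have h3 := mem_of_mem_normalizer P ht h1
    have ht' : orderOf (g⁻¹ * (t : L) * g) = 2 := by
      have := MulEquiv.orderOf_eq (MulAut.conj g⁻¹) (t : L)
      simpa [MulAut.conj_apply, ht] using this
    have h4 := mem_of_mem_normalizer P ht' h2
    have h5 : (t : L) ∈ ((g • P : Sylow 2 L) : Subgroup L) := by
      rw [Sylow.coe_subgroup_smul, Subgroup.mem_pointwise_smul_iff_inv_smul_mem]
      have : (MulAut.conj g)⁻¹ • (t : L) = g⁻¹ * (t : L) * g := by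
        rw [← map_inv, MulAut.smul_def, MulAut.conj_apply, inv_inv]
      rw [this]; exact h4
    have hne : P ≠ g • P := by
      intro h
      exact hg (Sylow.smul_eq_iff_mem_normalizer.mp h.symm)
    have h6 : (t : L) ∈ (P : Subgroup L) ⊓ ((g • P : Sylow 2 L) : Subgroup L) :=
      Subgroup.mem_inf.mpr ⟨h3, h5⟩
    rw [hTI P _ hne, Subgroup.mem_bot] at h6
    rw [h6, orderOf_one] at ht
    omega

theorem card_inv {L : Type*} [Group L] [Finite L] (P : Sylow 2 L) {q : ℕ}
    (hq : Nat.card (OZ (P : Subgroup L)) = q)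
    (hi : ∀ x ∈ (P : Subgroup L), x * x = 1 → x ∈ OZ (P : Subgroup L)) :
    Nat.card {t : L // orderOf t = 2 ∧ t ∈ normalizer ((P : Subgroup L) : Set L)} = q - 1 := by
  have e : {t : L | orderOf t = 2 ∧ t ∈ normalizer ((P : Subgroup L) : Set L)} =
      (OZ (P : Subgroup L) : Set L) \ {1} := by
    ext t
    simp only [Set.mem_setOf_eq, Set.mem_diff, SetLike.mem_coe, Set.mem_singleton_iff]
    constructor
    · rintro ⟨h1, h2⟩
      refine ⟨hi t (mem_of_mem_normalizer P h1 h2) (self_mul_self h1), ?_⟩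
      rintro rfl
      rw [orderOf_one] at h1
      omega
    · rintro ⟨h1, h2⟩
      exact ⟨(IsEA_OZ _).orderOf h1 h2, Subgroup.le_normalizer (OZ_le _ h1)⟩
  have h1 : Nat.card {t : L // orderOf t = 2 ∧ t ∈ normalizer ((P : Subgroup L) : Set L)} =
      Set.ncard {t : L | orderOf t = 2 ∧ t ∈ normalizer ((P : Subgroup L) : Set L)} := rfl
  rw [h1, e, Set.ncard_diff_singleton_of_mem (OZ (P : Subgroup L)).one_mem]
  have h2 : Set.ncard (OZ (P : Subgroup L) : Set L) = Nat.card (OZ (P : Subgroup L)) := rfl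
  rw [h2, hq]

/-- the case of a unique involution -/
theorem two_lt {L : Type*} [Group L] [Finite L] [IsSimpleGroup L]
    (hna : ∃ a b : L, a * b ≠ b * a) (hev : 2 ∣ Nat.card L) (P : Sylow 2 L) {q : ℕ} (hq2 : 2 ≤ q)
    (hq : Nat.card (OZ (P : Subgroup L)) = q)
    (hi : ∀ x ∈ (P : Subgroup L), x * x = 1 → x ∈ OZ (P : Subgroup L)) : 2 < q := by
  rcases Nat.lt_or_ge 2 q with h | h
  · exact h
  exfalso
  have hq' : q = 2 := le_antisymm h hq2
  rw [hq'] at hq
  obtain ⟨u, v, huv, huniv⟩ := Nat.card_eq_two_iff.mp hq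
  -- the involution
  obtain ⟨z, hz, hz1⟩ : ∃ z : L, z ∈ OZ (P : Subgroup L) ∧ z ≠ 1 := by
    by_contra hcon
    push Not at hcon
    exact huv (Subtype.ext ((hcon _ u.2).trans (hcon _ v.2).symm))
  have huniq : ∀ w ∈ OZ (P : Subgroup L), w ≠ 1 → w = z := by
    intro w hw hw1
    have h1 : (⟨w, hw⟩ : OZ (P : Subgroup L)) ∈ ({u, v} : Set _) := huniv ▸ Set.mem_univ _
    have h2 : (⟨z, hz⟩ : OZ (P : Subgroup L)) ∈ ({u, v} : Set _) := huniv ▸ Set.mem_univ _
    have h3 : (1 : OZ (P : Subgroup L)) ∈ ({u, v} : Set _) := huniv ▸ Set.mem_univ _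
    have n1 : (⟨w, hw⟩ : OZ (P : Subgroup L)) ≠ 1 := fun h => hw1 (congrArg Subtype.val h)
    have n2 : (⟨z, hz⟩ : OZ (P : Subgroup L)) ≠ 1 := fun h => hz1 (congrArg Subtype.val h)
    simp only [Set.mem_insert_iff, Set.mem_singleton_iff] at h1 h2 h3
    have : (⟨w, hw⟩ : OZ (P : Subgroup L)) = ⟨z, hz⟩ := by
      rcases h3 with h3 | h3
      · rcases h1 with h1 | h1
        · exact absurd (h1.trans h3.symm) n1
        · rcases h2 with h2 | h2
          · exact absurd (h2.trans h3.symm) n2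
          · exact h1.trans h2.symm
      · rcases h1 with h1 | h1
        · rcases h2 with h2 | h2
          · exact h1.trans h2.symm
          · exact absurd (h2.trans h3.symm) n2
        · exact absurd (h1.trans h3.symm) n1
    exact congrArg Subtype.val this
  have hzo : orderOf z = 2 := (IsEA_OZ _).orderOf hz hz1
  have hzP : z ∈ P := OZ_le _ hz
  obtain ⟨N, hN, hNodd, hcom⟩ := Cfsg.Agent.S0215.result P z hzo hzP (by
    intro g hg
    apply huniq
    · exact hi _ hg (sq_one_conj (self_mul_self hzo))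
    · intro h1
      apply hz1
      have := congrArg (fun x => g⁻¹ * x * g) h1
      simpa [mul_assoc] using this)
  rcases hN.eq_bot_or_eq_top with h1 | h1
  · -- `z` is central
    have hzc : z ∈ center L := by
      rw [Subgroup.mem_center_iff]
      intro g
      have := hcom g
      rw [h1, Subgroup.mem_bot] at this
      have h2 := congrArg (fun x => x * g * z) this
      simp only [one_mul] at h2
      rw [← h2]; group
    rcases (inferInstance : (center L).Normal).eq_bot_or_eq_top with h2 | h2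
    · rw [h2, Subgroup.mem_bot] at hzc
      exact hz1 hzc
    · obtain ⟨a, b, hab⟩ := hna
      apply hab
      have ha : b ∈ center L := by rw [h2]; trivial
      exact (Subgroup.mem_center_iff.mp ha a)
  · rw [h1, Subgroup.card_top] at hNodd
    exact (Nat.not_even_iff_odd.mpr hNodd) (even_iff_two_dvd.mpr hev)

theorem dat {L : Type*} [Group L] [Finite L] [IsSimpleGroup L]
    (hna : ∃ a b : L, a * b ≠ b * a) (hS : Sep L) (hev : 2 ∣ Nat.card L)
    (hTI : ∀ P Q : Sylow 2 L, P ≠ Q → (P : Subgroup L) ⊓ Q = ⊥) (P : Sylow 2 L) {q : ℕ}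
    (hq2 : 2 ≤ q) (hq : Nat.card (OZ (P : Subgroup L)) = q)
    (hi : ∀ x ∈ (P : Subgroup L), x * x = 1 → x ∈ OZ (P : Subgroup L))
    (hN : Nat.card (normalizer ((P : Subgroup L) : Set L)) = Nat.card P * (q - 1)) :
    Dat (P : Subgroup L) (normalizer ((P : Subgroup L) : Set L)) (q - 1) := by
  refine ⟨hS, strEmb hna hev hTI P, P.2, Subgroup.le_normalizer, le_rfl, hN, ?_, ?_,
    card_inv P hq hi⟩
  · rw [← Nat.not_even_iff_odd, even_iff_two_dvd]
    have h1 := (isSyl_normalizer P).not_dvd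
    have h2 := relIndex_mul_card (Subgroup.le_normalizer (H := (P : Subgroup L)))
    rw [hN, mul_comm] at h2
    have h3 := Nat.eq_of_mul_eq_mul_left Nat.card_pos h2
    rwa [h3] at h1
  · have := two_lt hna hev P hq2 hq hi
    omega

theorem card_sylow_of_dat {L : Type*} [Group L] [Finite L] (P : Sylow 2 L) {m : ℕ}
    (hd : Dat (P : Subgroup L) (normalizer ((P : Subgroup L) : Set L)) m) :
    Nat.card (Sylow 2 L) = 1 + Nat.card P := by
  have := card_points hd
  rw [← this, P.card_eq_index_normalizer]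
  rfl

theorem zassenhaus_of_dat {L : Type u} [Group L] [Finite L] [IsSimpleGroup L] (P M : Subgroup L)
    {m : ℕ} (hd : Dat P M m) : Cfsg.IsZassenhausGroup L (L ⧸ M) := by
  obtain ⟨a, ha⟩ : ∃ a : L, a ∉ M := by
    by_contra hcon
    push Not at hcon
    exact hd.emb.1 (eq_top_iff.mpr fun a _ => hcon a)
  have hy : (QuotientGroup.mk a : L ⧸ M) ≠ x0 M := by
    intro h
    rw [x0, eq_comm, QuotientGroup.eq] at h
    apply ha
    simpa using h
  have htr : ∀ x : L ⧸ M, ∃ g : L, g • x0 M = x := by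
    intro x
    obtain ⟨g, hg⟩ := MulAction.exists_smul_eq L (x0 M) x
    exact ⟨g, hg⟩
  refine ⟨?_, ?_, ?_, ?_, ?_⟩
  · refine ⟨fun {g h} hgh => ?_⟩
    have hker : g⁻¹ * h ∈ (MulAction.toPermHom L (L ⧸ M)).ker := by
      rw [MonoidHom.mem_ker]
      ext x
      simp only [MulAction.toPermHom_apply, MulAction.toPerm_apply, Equiv.Perm.coe_one, id_eq]
      rw [mul_smul, ← hgh x, inv_smul_smul]
    rcases (inferInstance : (MulAction.toPermHom L (L ⧸ M)).ker.Normal).eq_bot_or_eq_top with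
      h1 | h1
    · rw [h1, Subgroup.mem_bot] at hker
      exact inv_mul_eq_one.mp hker
    · exfalso
      apply ha
      have h2 : a ∈ (MulAction.toPermHom L (L ⧸ M)).ker := by rw [h1]; trivial
      rw [MonoidHom.mem_ker] at h2
      have h3 := congrArg (fun f : Equiv.Perm (L ⧸ M) => f (x0 M)) h2
      simp only [MulAction.toPermHom_apply, MulAction.toPerm_apply, Equiv.Perm.coe_one,
        id_eq] at h3
      exact smul_x0.mp h3
  · rw [MulAction.is_two_pretransitive_iff]
    intro x y z w hxy hzw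
    obtain ⟨g, hg⟩ := htr x
    obtain ⟨h, hh⟩ := htr z
    have h1 : g⁻¹ • y ≠ x0 M := by
      intro h; apply hxy; rw [← hg, ← h, smul_inv_smul]
    have h2 : h⁻¹ • w ≠ x0 M := by
      intro h'; apply hzw; rw [← hh, ← h', smul_inv_smul]
    obtain ⟨k, hk, hky⟩ := transitive hd h1 h2
    refine ⟨h * k * g⁻¹, ?_, ?_⟩
    · rw [mul_smul, mul_smul, ← hg, inv_smul_smul, smul_x0.mpr hk, hh]
    · rw [mul_smul, mul_smul, hky, smul_inv_smul]
  · intro g x y z hxy hyz hxz hx hy' hz
    obtain ⟨h, hh⟩ := htr x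
    have e : ∀ w : L ⧸ M, g • w = w → (h⁻¹ * g * h) • (h⁻¹ • w) = h⁻¹ • w := by
      intro w hw
      rw [mul_smul, mul_smul, smul_inv_smul, hw]
    have h1 : h⁻¹ * g * h ∈ M := by
      rw [← smul_x0]
      have := e x hx
      rwa [← hh, inv_smul_smul] at this
    have h2 : h⁻¹ • y ≠ x0 M := by
      intro h'; apply hxy; rw [← hh, ← h', smul_inv_smul]
    have h3 : h⁻¹ • z ≠ x0 M := by
      intro h'; apply hxz; rw [← hh, ← h', smul_inv_smul]
    have h4 := fix_three hd h1 h2 h3 (fun h' => hyz (smul_left_cancel _ h')) (e y hy') (e z hz)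
    have := congrArg (fun x => h * x * h⁻¹) h4
    simpa [mul_assoc] using this
  · have h1 := card_K hd hy
    have h2 : 1 < Nat.card (K M (QuotientGroup.mk a : L ⧸ M)) := by rw [h1]; exact hd.one
    obtain ⟨k, hk⟩ := (Subgroup.one_lt_card_iff_ne_bot _).mp h2 |> Subgroup.ne_bot_iff_exists_ne_one.mp
    refine ⟨k, fun h => hk (Subtype.ext h), x0 M, QuotientGroup.mk a, hy.symm, ?_, ?_⟩
    · exact smul_x0.mpr (mem_K.mp k.2).1
    · exact (mem_K.mp k.2).2
  · intro N hN htrN
    refine ⟨x0 M, ?_⟩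
    intro hbot
    have hfixN : ∀ n ∈ N, n • x0 M = x0 M → n = 1 := by
      intro n hn h
      have h1 : (⟨n, hn⟩ : N) ∈ (⊥ : Subgroup N) := by rw [← hbot]; exact h
      rw [Subgroup.mem_bot] at h1
      exact congrArg Subtype.val h1
    rcases hN.eq_bot_or_eq_top with h1 | h1
    · obtain ⟨g, hg⟩ := htrN.exists_smul_eq (x0 M) (QuotientGroup.mk a : L ⧸ M)
      apply hy
      rw [← hg]
      have h2 : (g : L) = 1 := by
        have h3 : N ≤ ⊥ := h1.le
        exact Subgroup.mem_bot.mp (h3 g.2)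
      change (g : L) • x0 M = x0 M
      rw [h2, one_smul]
    · obtain ⟨t, htM, ht⟩ := exists_involution hd.emb
      have h2 : t = 1 := hfixN t (by rw [h1]; exact Subgroup.mem_top t) (smul_x0.mpr htM)
      rw [h2, orderOf_one] at ht
      omega

/-- M4, first half, from the conclusion of M3 (`ti_struct`) -/
theorem ti_simple_of {L : Type*} [Group L] [Finite L] [IsSimpleGroup L]
    (hna : ∃ a b : L, a * b ≠ b * a) (hS : Sep L) (hev : 2 ∣ Nat.card L)
    (hTI : ∀ P Q : Sylow 2 L, P ≠ Q → (P : Subgroup L) ⊓ Q = ⊥) (P : Sylow 2 L)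
    (h3 : ∃ q c : ℕ, 2 ≤ q ∧ 1 ≤ c ∧ Nat.card (OZ (P : Subgroup L)) = q ∧
      (∀ x ∈ (P : Subgroup L), x * x = 1 → x ∈ OZ (P : Subgroup L)) ∧
      Nat.card (normalizer ((P : Subgroup L) : Set L)) = Nat.card P * (q - 1) ∧
      Nat.card (Sylow 2 L) = 1 + c * Nat.card P ∧
      (∀ s t : L, orderOf s = 2 → orderOf t = 2 → IsConj s t)) :
    Nat.card (Sylow 2 L) = 1 + Nat.card P := by
  obtain ⟨q, c, hq2, -, hq, hi, hN, -, -⟩ := h3
  exact card_sylow_of_dat P (dat hna hS hev hTI P hq2 hq hi hN)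

/-- M4, second half, from the conclusion of M3 (`ti_struct`) -/
theorem ti_zassenhaus_of {L : Type u} [Group L] [Finite L] [IsSimpleGroup L]
    (hna : ∃ a b : L, a * b ≠ b * a) (hS : Sep L) (hev : 2 ∣ Nat.card L)
    (hTI : ∀ P Q : Sylow 2 L, P ≠ Q → (P : Subgroup L) ⊓ Q = ⊥) (P : Sylow 2 L)
    (h3 : ∃ q c : ℕ, 2 ≤ q ∧ 1 ≤ c ∧ Nat.card (OZ (P : Subgroup L)) = q ∧
      (∀ x ∈ (P : Subgroup L), x * x = 1 → x ∈ OZ (P : Subgroup L)) ∧
      Nat.card (normalizer ((P : Subgroup L) : Set L)) = Nat.card P * (q - 1) ∧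
      Nat.card (Sylow 2 L) = 1 + c * Nat.card P ∧
      (∀ s t : L, orderOf s = 2 → orderOf t = 2 → IsConj s t)) :
    ∃ (Ω : Type u) (_ : MulAction L Ω) (_ : Finite Ω), Cfsg.IsZassenhausGroup L Ω := by
  obtain ⟨q, c, hq2, -, hq, hi, hN, -, -⟩ := h3
  exact ⟨L ⧸ normalizer ((P : Subgroup L) : Set L), inferInstance, inferInstance,
    zassenhaus_of_dat _ _ (dat hna hS hev hTI P hq2 hq hi hN)⟩

end H83.CITM4
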