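import Mathlib
import Cfsg.Agent.Lib.Lead.CITM3
import Cfsg.Agent.Lib.H83.CITM4b

/-! Team T-CIT, module M4 (Bender counting): the interface statements. -/
set_option autoImplicit false

namespace H83.CITM4

open Subgroup Lead.CIT

universe u

theorem exists_two_sylow {L : Type*} [Group L] [Finite L] [IsSimpleGroup L]
    (hna : ∃ a b : L, a * b ≠ b * a) (hev : 2 ∣ Nat.card L) : ∃ P Q : Sylow 2 L, P ≠ Q := by
  by_contra hcon
  push Not at hcon
  haveI : Subsingleton (Sylow 2 L) := ⟨hcon⟩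
  obtain ⟨P⟩ : Nonempty (Sylow 2 L) := inferInstance
  exact normalizer_ne_top hna hev P (Subgroup.normalizer_eq_top_iff.mpr P.normal_of_subsingleton)

theorem ti_simple {L : Type u} [Group L] [Finite L] [IsSimpleGroup L]
    (hna : ∃ a b : L, a * b ≠ b * a) (hS : Sep L) (hev : 2 ∣ Nat.card L)
    (hTI : ∀ P Q : Sylow 2 L, P ≠ Q → (P : Subgroup L) ⊓ Q = ⊥) (P : Sylow 2 L) :
    Nat.card (Sylow 2 L) = 1 + Nat.card P :=
  ti_simple_of hna hS hev hTI P (Lead.CIT3.ti_struct hS hTI (exists_two_sylow hna hev) P)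

theorem ti_zassenhaus {L : Type u} [Group L] [Finite L] [IsSimpleGroup L]
    (hna : ∃ a b : L, a * b ≠ b * a) (hS : Sep L) (hev : 2 ∣ Nat.card L)
    (hTI : ∀ P Q : Sylow 2 L, P ≠ Q → (P : Subgroup L) ⊓ Q = ⊥) :
    ∃ (Ω : Type u) (_ : MulAction L Ω) (_ : Finite Ω), Cfsg.IsZassenhausGroup L Ω := by
  obtain ⟨P, Q, hPQ⟩ := exists_two_sylow hna hev
  exact ti_zassenhaus_of hna hS hev hTI P (Lead.CIT3.ti_struct hS hTI ⟨P, Q, hPQ⟩ P)

end H83.CITM4
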