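import Cfsg.Agent.Lib.H5.TEo
import Cfsg.Agent.Lib.H7.QNum8

/-!
# Quaternion defect groups of order eight: the count
-/

set_option autoImplicit false
set_option linter.unusedSectionVars false
set_option linter.unusedVariables false

namespace H83.Q8At

open Cfsg H20.Loc H20.GA H80.GA H80.GB H80.GD H80.GE H80.GF H80.GJ H80.FS H80.FS3 H84.RG H18.CharBasic H18.CharOrtho H18.CharInd H84.TrR
open H20.Blk H20.Orth H20.Ind H20.Height H20.Defect H80.BR1 H80.BR2 H19.Second H19.Second3 H81.Section H81.Contrib H84.Star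
open H5.DBa H5.DBd H5.TBa H5.TBb H5.TBe H5.TBf H5.TBg H5.TBh H5.TBi H5.TBj H78.BlkCount H5.TCa
open H5.TBc H5.TBd H5.TDa H5.TDb H5.TDe H5.TDf H5.TDg H5.TDi H5.TDj H5.TDk H5.TDl H5.TDm H20.NormQ H5.TEa H5.TEb H5.TEc
open H5.TEd H5.TEg H5.TEx H5.TEf H5.TEh H5.TEi H5.TEj H5.TEk H5.TEn H5.TEo
open scoped ComplexConjugate

universe u

section int
variable {I V : Type*} [Fintype I] [DecidableEq I] [AddCommGroup V] [Module ℂ V]

/-- the regular relations exclude equal supports -/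
theorem hodd2 {a₁ a₂ : I → ℤ}
    (h1 : ∑ i, a₁ i * a₁ i = 2) (h2 : ∑ i, a₂ i * a₂ i = 2) (h12 : ∑ i, a₁ i * a₂ i = 0)
    {r : I → V} (hr : ∀ i, r i ≠ 0) (r1 : ∑ i, (a₁ i : ℂ) • r i = 0) (r2 : ∑ i, (a₂ i : ℂ) • r i = 0) :
    ∃ i, (a₁ i + a₂ i) % 2 = 1 := by
  by_contra hno
  push Not at hno
  set s : I → ℤ := fun i => (a₁ i - a₂ i) / 2 with hs
  have hs2 : ∀ i, 2 * s i = a₁ i - a₂ i := by
    intro i
    have := hno i
    simp only [hs]
    omega
  have h3 : ∑ i, s i * s i = 1 := by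
    have h4 : 4 * ∑ i, s i * s i = 4 := by
      calc 4 * ∑ i, s i * s i = ∑ i, (a₁ i * a₁ i + a₂ i * a₂ i - 2 * (a₁ i * a₂ i)) := by
            rw [Finset.mul_sum]
            refine Finset.sum_congr rfl fun i _ => ?_
            linear_combination (2 * s i + (a₁ i - a₂ i)) * hs2 i
        _ = 4 := by
            rw [Finset.sum_sub_distrib, Finset.sum_add_distrib, ← Finset.mul_sum, h1, h2, h12]; norm_num
    omega
  obtain ⟨v, hc⟩ := small (n := 1) (by norm_num) h3
  obtain ⟨i0, hi0⟩ := Finset.card_eq_one.1 hc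
  have hz : ∀ i, i ≠ i0 → s i = 0 := by
    intro i hi
    by_contra hne
    have : i ∈ Finset.univ.filter (fun i => s i ≠ 0) := by simp [hne]
    rw [hi0] at this
    exact hi (Finset.mem_singleton.1 this)
  have hs0 : s i0 ≠ 0 := by
    have : i0 ∈ Finset.univ.filter (fun i => s i ≠ 0) := by rw [hi0]; simp
    simpa using this
  have h5 : ∑ i, (s i : ℂ) • r i = 0 := by
    have h6 : (2 : ℂ) • ∑ i, (s i : ℂ) • r i = 0 := by
      rw [Finset.smul_sum]
      calc ∑ i, (2 : ℂ) • (s i : ℂ) • r i = ∑ i, ((a₁ i : ℂ) • r i - (a₂ i : ℂ) • r i) := by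
            refine Finset.sum_congr rfl fun i _ => ?_
            rw [smul_smul, ← sub_smul]
            congr 1
            exact_mod_cast hs2 i
        _ = 0 := by rw [Finset.sum_sub_distrib, r1, r2, sub_zero]
    exact (smul_eq_zero.1 h6).resolve_left two_ne_zero
  rw [Finset.sum_eq_single i0 (fun i _ hi => by rw [hz i hi]; simp) (fun h => absurd (Finset.mem_univ _) h)] at h5
  rcases smul_eq_zero.1 h5 with h6 | h6
  · exact hs0 (by exact_mod_cast h6)
  · exact hr _ h6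

theorem small4 {f : I → ℤ} (h : ∑ i, f i * f i = 4) {r : I → V} (hr : ∀ i, r i ≠ 0)
    (r1 : ∑ i, (f i : ℂ) • r i = 0) (i : I) : f i = 0 ∨ f i = 1 ∨ f i = -1 := by
  have h1 : f i * f i ≤ ∑ i, f i * f i :=
    Finset.single_le_sum (f := fun i => f i * f i) (fun j _ => mul_self_nonneg (f j)) (Finset.mem_univ i)
  rw [h] at h1
  have h2 : f i ≤ 2 := by nlinarith
  have h3 : -2 ≤ f i := by nlinarith
  by_contra hno
  push Not at hno
  have h4 : f i * f i = 4 := by
    have : f i = 2 ∨ f i = -2 := by omega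
    rcases this with h5 | h5 <;> rw [h5] <;> norm_num
  have h5 : ∀ j, j ≠ i → f j = 0 := by
    intro j hj
    have h6 : f i * f i + f j * f j ≤ ∑ i, f i * f i := by
      have h7 : ∑ l ∈ ({i, j} : Finset I), f l * f l ≤ ∑ l, f l * f l :=
        Finset.sum_le_sum_of_subset_of_nonneg (Finset.subset_univ _) (fun l _ _ => mul_self_nonneg _)
      rwa [Finset.sum_pair (Ne.symm hj)] at h7
    rw [h, h4] at h6
    have h7 : f j * f j = 0 := le_antisymm (by linarith) (mul_self_nonneg _)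
    exact mul_self_eq_zero.1 h7
  rw [Finset.sum_eq_single i (fun j _ hj => by rw [h5 j hj]; simp) (fun h => absurd (Finset.mem_univ _) h)] at r1
  rcases smul_eq_zero.1 r1 with h6 | h6
  · exact hno.1 (by exact_mod_cast h6)
  · exact hr _ h6

end int

attribute [local instance 2000] Fintype.ofFinite

variable {M : Ideal AlgInt} [M.IsMaximal] {G : Type u} [Group G] [Finite G] {z : G}
variable [CharP (ResF M) 2] [Algebra (ZMod 2) (ResF M)] [Algebra.IsAlgebraic (ZMod 2) (ResF M)]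
  [IsAlgClosed (ResF M)]
variable {B : Set (IrrCharacter G)} {b : Set (IrrCharacter (C z))}

theorem mz_fin (hM : IsPModular 2 M) (hz : orderOf z = 2) (hb : IsPBlock M b) {n : ℕ} (hr : blockRank 2 b = n)
    {Cm : Fin n → C z → ℂ} (cV : ∀ m, Cm m ∈ Vb 2 b)
    (cn : ∀ m m', classInner (Cm m) (Cm m') = if m = m' then 8 else 0) {c : Fin n → IrrCharacter G → ℤ}
    (hc : ∀ m (χ : IrrCharacter G), classInner (In z (sh (cy z) (Cm m))) (χ : G → ℂ) = c m χ) (i j : IrrCharacter G) :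
    (2 : ℂ) ^ 3 * classInner (comp 2 z b (i : G → ℂ)) (comp 2 z b (j : G → ℂ)) = ((∑ m, c m i * c m j : ℤ) : ℂ) := by
  have hne : ∀ m, Cm m ≠ 0 := by
    intro m h0
    have := cn m m
    rw [h0, H18.CharOrtho.inner_zero_left, if_pos rfl] at this
    norm_num at this
  have h1 := expand (W := Vb 2 b) (v := Cm) cV hne (fun i j hij => by rw [cn, if_neg hij])
    (by rw [← Nat.card_eq_fintype_card, Nat.card_fin]; exact hr.le) (comp_mem (p := 2) (y := z) (b := b) (i : G → ℂ))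
    (comp 2 z b (j : G → ℂ))
  rw [h1, Finset.mul_sum]
  push_cast
  refine Finset.sum_congr rfl fun m _ => ?_
  have h2 : classInner (comp 2 z b (i : G → ℂ)) (Cm m) = c m i := by
    rw [← H18.CharOrtho.inner_conj_symm, ← co_comp hM hz hb (cV m), hc, map_intCast]
  have h3 : classInner (Cm m) (comp 2 z b (j : G → ℂ)) = c m j := by rw [← co_comp hM hz hb (cV m), hc]
  rw [h2, h3, cn, if_pos rfl]
  ring

theorem val_of (hM : IsPModular 2 M) (hz : orderOf z = 2) (hind : IsInducedBlock M (C z) b B)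
    (hdb : blockDefect 2 b = 3) (hdB : blockDefect 2 B = 3) [DecidablePred (· ∈ B)]
    {Mz : IrrCharacter G → IrrCharacter G → ℤ}
    (hMz : ∀ i j : IrrCharacter G, (2 : ℂ) ^ 3 * classInner (comp 2 z b (i : G → ℂ)) (comp 2 z b (j : G → ℂ)) = Mz i j) :
    ∀ i ∈ Finset.univ.filter (· ∈ B), ∀ j ∈ Finset.univ.filter (· ∈ B), blockHeight 2 B (j : G → ℂ) = 0 →
      (2 : ℤ) ^ blockHeight 2 B (i : G → ℂ) ∣ Mz i j ∧ ¬ (2 : ℤ) ^ (blockHeight 2 B (i : G → ℂ) + 1) ∣ Mz i j := by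
  intro i hi j hj hj0
  rw [Finset.mem_filter] at hi hj
  have hzp : ∃ k : ℕ, orderOf z = 2 ^ k := ⟨1, by rw [hz, pow_one]⟩
  obtain ⟨v, v1, v2, v3⟩ := height_val2 hM hzp hind (hdb.trans hdB.symm) hi.2 hj.2 hj0
  rw [hdb, Nat.cast_ofNat, hMz] at v3
  have := int_val hM v1 v2 (h := blockHeight 2 B (i : G → ℂ)) (d := Mz i j) (by rw [v3]; norm_num)
  exact_mod_cast this

theorem ex0_of (hM : IsPModular 2 M) (hind : IsInducedBlock M (C z) b B) [DecidablePred (· ∈ B)] :
    ∃ j ∈ Finset.univ.filter (· ∈ B), blockHeight 2 B (j : G → ℂ) = 0 := by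
  obtain ⟨χ, hχ, h0⟩ := exists_height_zero hM hind.2.1
  exact ⟨χ, by rw [Finset.mem_filter]; exact ⟨Finset.mem_univ _, hχ⟩, h0⟩

theorem lo_of (hM : IsPModular 2 M) (hz : orderOf z = 2) (hind : IsInducedBlock M (C z) b B) {ι : Type} [Finite ι]
    {f : ι → C z → ℂ} (hab : ∀ i, Ab z (f i)) (hsp : ∀ i, f i ∈ spn b) (hne : ∀ i, f i ≠ 0)
    (ho : ∀ i j, i ≠ j → classInner (f i) (f j) = 0) : Nat.card ι + blockRank 2 B ≤ Nat.card B := by
  refine rank_add_le (p := 2) (B := B) (F := fun i => In z (f i)) ?_ (fun i => In_spn hM hz hind (hab i) (hsp i))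
    (fun i => In_reg0 hz (hab i))
  apply indep_of_orth
  · intro i h0
    have h3 := In_inner hz (hab i) (hab i)
    rw [h0, H18.CharOrtho.inner_zero_left] at h3
    exact hne i (inner_self_zero h3.symm)
  · intro i j hij
    rw [In_inner hz (hab i) (hab j), ho i j hij]

theorem at_of [DecidablePred (· ∈ B)] {l N : ℕ} (h1 : (Finset.univ.filter (· ∈ B)).card = N)
    (h2 : ((Finset.univ.filter (· ∈ B)).filter (fun χ : IrrCharacter G => blockHeight 2 B (χ : G → ℂ) = 0)).card = 4)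
    (h3 : ∀ i ∈ Finset.univ.filter (· ∈ B), blockHeight 2 B (i : G → ℂ) = 0 ∨ blockHeight 2 B (i : G → ℂ) = 1)
    (lo : 4 + blockRank 2 B ≤ Nat.card B) (up : N ≤ 4 + l) : AT B 2 l := by
  refine ⟨by simpa using lo, ?_, ?_, fun h => absurd h (by norm_num), ?_⟩
  · rw [card_B, h1]; simpa using up
  · rw [card_ht, h2]
  · intro χ hχ
    rcases h3 χ (Finset.mem_filter.2 ⟨Finset.mem_univ _, hχ⟩) with h | h
    · exact Or.inl h
    · exact Or.inr (Or.inl h)

theorem reg_ne (χ : IrrCharacter G) : pRegularPart 2 (χ : G → ℂ) ≠ 0 := by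
  intro h0
  have h1 := congrFun h0 1
  rw [H81.Contrib.pRegularPart_eq, reg_of (by rw [orderOf_one]; norm_num)] at h1
  exact irr_one_ne_zero χ.2 h1

theorem at_q8_one (hM : IsPModular 2 M) (hB : IsPBlock M B) (hz : orderOf z = 2) (hind : IsInducedBlock M (C z) b B)
    (hdb : blockDefect 2 b = 3) (hdB : blockDefect 2 B = 3) (hr : blockRank 2 b = 1) {C0 F₁ F₂ F₃ W : C z → ℂ}
    (cV : C0 ∈ Vb 2 b) (cg : IsGeneralizedCharacter (C z) C0) (cn : classInner C0 C0 = 8)
    (e1 : EvF b (cy z) F₁) (e2 : EvF b (cy z) F₂) (e3 : EvF b (cy z) F₃) (g1 : IsGeneralizedCharacter (C z) F₁)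
    (g2 : IsGeneralizedCharacter (C z) F₂) (n1 : classInner F₁ F₁ = 2) (n2 : classInner F₂ F₂ = 2)
    (n3 : classInner F₃ F₃ = 2) (i12 : classInner F₁ F₂ = 0) (i13 : classInner F₁ F₃ = -1) (i23 : classInner F₂ F₃ = -1)
    (gW : IsGeneralizedCharacter (C z) W) (hW : F₁ + F₂ + sh (cy z) C0 = (2 : ℂ) • W) : AT B 2 (blockRank 2 b) := by
  classical
  have ab1 := ab_of_ev e1
  have ab2 := ab_of_ev e2
  have ab3 := ab_of_ev e3
  obtain ⟨rC, cC⟩ := Vb_reg hM hind.1 cV
  have abC : Ab z (sh (cy z) C0) := ab_of_sh hz cC rC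
  have csp : sh (cy z) C0 ∈ spn b := sh_spn (cy_sq hz) (cy_cen z) (Vb_spn hM hind.1 cV)
  obtain ⟨f₁, hf1⟩ := exists_co (G := G) g1
  obtain ⟨f₂, hf2⟩ := exists_co (G := G) g2
  obtain ⟨c, hc⟩ := exists_co (G := G) (sh_gen (cy_sq hz) (cy_cen z) cg)
  obtain ⟨w, hw⟩ := exists_co (G := G) gW
  have h11 := sum_co hz ab1 ab1 hf1 hf1 (k := 2) (by rw [n1]; norm_num)
  have h22 := sum_co hz ab2 ab2 hf2 hf2 (k := 2) (by rw [n2]; norm_num)
  have h12 := sum_co hz ab1 ab2 hf1 hf2 (k := 0) (by rw [i12]; norm_num)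
  have hcc := sum_co hz abC abC hc hc (k := 8) (by rw [sh_inner2 (cy_sq hz), cn]; norm_num)
  have z1 : ∀ χ, χ ∉ B → f₁ χ = 0 := fun χ hχ => co_zero hM hz hind ab1 e1.mem hf1 hχ
  have z2 : ∀ χ, χ ∉ B → f₂ χ = 0 := fun χ hχ => co_zero hM hz hind ab2 e2.mem hf2 hχ
  have zc : ∀ χ, χ ∉ B → c χ = 0 := fun χ hχ => co_zero hM hz hind abC csp hc hχ
  have hpar : ∀ χ, f₁ χ + f₂ χ + c χ = 2 * w χ := by
    intro χ
    have h1 : ((f₁ χ + f₂ χ + c χ : ℤ) : ℂ) = ((2 * w χ : ℤ) : ℂ) := by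
      push_cast
      rw [← hf1, ← hf2, ← hc, ← hw, ← H18.CharOrtho.inner_add_left, ← H18.CharOrtho.inner_add_left, ← In_add, ← In_add,
        hW, In_smul, H18.CharOrtho.inner_smul_left]
    exact_mod_cast h1
  have hMz : ∀ i j : IrrCharacter G, (2 : ℂ) ^ 3 * classInner (comp 2 z b (i : G → ℂ)) (comp 2 z b (j : G → ℂ)) =
      ((c i * c j : ℤ) : ℂ) := by
    intro i j
    have := mz_fin hM hz hind.1 hr (Cm := fun _ => C0) (fun _ => cV)
      (fun m m' => by rw [Subsingleton.elim m m', if_pos rfl, cn]) (c := fun _ => c) (fun _ => hc) i j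
    rw [this]
    congr 1
    rw [Fin.sum_univ_one]
  obtain ⟨k1, k2, k3⟩ := H7.QNum8.q8_one (S := Finset.univ.filter (· ∈ B))
    (ht := fun i : IrrCharacter G => blockHeight 2 B (i : G → ℂ)) (Mz := fun i j => c i * c j) (c := c) (f₁ := f₁) (f₂ := f₂)
    (fun i j => rfl) (by rw [sum_S zc]; exact hcc) (by rw [sum_S z1]; exact h11) (by rw [sum_S z2]; exact h22)
    (by rw [sum_S z1]; exact h12)
    (by
      obtain ⟨i, hi⟩ := hodd2 h11 h22 h12 (reg_ne (G := G)) (rel_co hz ab1 hf1) (rel_co hz ab2 hf2)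
      refine ⟨i, ?_, hi⟩
      rw [Finset.mem_filter]
      refine ⟨Finset.mem_univ _, ?_⟩
      by_contra hno
      rw [z1 i hno, z2 i hno] at hi
      norm_num at hi)
    (fun i _ => by have := hpar i; omega)
    (val_of hM hz hind hdb hdB hMz) (ex0_of hM hind)
  refine at_of k1 k2 k3 ?_ (by omega)
  -- the lower bound
  set F4 : C z → ℂ := F₁ + F₂ + (2 : ℂ) • F₃ with hF4
  have i21 : classInner F₂ F₁ = 0 := zero_swap' i12
  have i31 : classInner F₃ F₁ = -1 := by rw [← H18.CharOrtho.inner_conj_symm, i13]; simp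
  have i32 : classInner F₃ F₂ = -1 := by rw [← H18.CharOrtho.inner_conj_symm, i23]; simp
  have ab4 : Ab z F4 := by
    refine ⟨?_, ?_⟩
    · intro g h
      simp only [hF4, Pi.add_apply, Pi.smul_apply, smul_eq_mul]
      rw [ab1.cl g h, ab2.cl g h, ab3.cl g h]
    · intro g hg
      by_contra hno
      apply hg
      have q1 : F₁ g = 0 := by
        by_contra h; exact hno (ab1.sup g h)
      have q2 : F₂ g = 0 := by
        by_contra h; exact hno (ab2.sup g h)
      have q3 : F₃ g = 0 := by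
        by_contra h; exact hno (ab3.sup g h)
      simp only [hF4, Pi.add_apply, Pi.smul_apply, smul_eq_mul, q1, q2, q3]
      norm_num
  have sp4 : F4 ∈ spn b := Submodule.add_mem _ (Submodule.add_mem _ e1.mem e2.mem) (Submodule.smul_mem _ _ e3.mem)
  have i14 : classInner F₁ F4 = 0 := by
    rw [hF4, H18.CharOrtho.inner_add_right, H18.CharOrtho.inner_add_right, H18.CharOrtho.inner_smul_right, n1, i12, i13,
      map_ofNat]
    norm_num
  have i24 : classInner F₂ F4 = 0 := by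
    rw [hF4, H18.CharOrtho.inner_add_right, H18.CharOrtho.inner_add_right, H18.CharOrtho.inner_smul_right, n2, i21, i23,
      map_ofNat]
    norm_num
  have i34 : classInner F₃ F4 = 2 := by
    rw [hF4, H18.CharOrtho.inner_add_right, H18.CharOrtho.inner_add_right, H18.CharOrtho.inner_smul_right, n3, i31, i32,
      map_ofNat]
    norm_num
  have n4 : classInner F4 F4 = 4 := by
    conv_lhs => rw [hF4]
    rw [H18.CharOrtho.inner_add_left, H18.CharOrtho.inner_add_left, H18.CharOrtho.inner_smul_left, ← hF4, i14, i24, i34]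
    norm_num
  have c1 := ev_sh hz e1 rC
  have c2 := ev_sh hz e2 rC
  have c3 := ev_sh hz e3 rC
  have c4 : classInner F4 (sh (cy z) C0) = 0 := by
    rw [hF4, H18.CharOrtho.inner_add_left, H18.CharOrtho.inner_add_left, H18.CharOrtho.inner_smul_left, c1, c2, c3]
    simp
  have c1' := zero_swap' c1
  have c2' := zero_swap' c2
  have c4' := zero_swap' c4
  have i41 := zero_swap' i14
  have i42 := zero_swap' i24
  have nC : classInner (sh (cy z) C0) (sh (cy z) C0) = 8 := by rw [sh_inner2 (cy_sq hz), cn]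
  have nz : ∀ {f : C z → ℂ} {m : ℂ}, classInner f f = m → m ≠ 0 → f ≠ 0 := by
    intro f m h1 h2 h0
    rw [h0, H18.CharOrtho.inner_zero_left] at h1
    exact h2 h1.symm
  have h5 := lo_of hM hz hind (f := ![sh (cy z) C0, F₁, F₂, F4])
    (fun i => by fin_cases i; exacts [abC, ab1, ab2, ab4])
    (fun i => by fin_cases i; exacts [csp, e1.mem, e2.mem, sp4])
    (fun i => by
      fin_cases i
      exacts [nz nC (by norm_num), nz n1 (by norm_num), nz n2 (by norm_num), nz n4 (by norm_num)])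
    (fun i j hij => by
      fin_cases i <;> fin_cases j <;>
        first | exact absurd rfl hij | exact c1' | exact c2' | exact c4' | exact c1 | exact c2 | exact c4 | exact i12
              | exact i21 | exact i14 | exact i41 | exact i24 | exact i42)
  rwa [Nat.card_fin] at h5

theorem at_q8_three (hM : IsPModular 2 M) (hB : IsPBlock M B) (hz : orderOf z = 2) (hind : IsInducedBlock M (C z) b B)
    (hdb : blockDefect 2 b = 3) (hdB : blockDefect 2 B = 3) (hr : blockRank 2 b = 3)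
    {Cm : Fin 3 → C z → ℂ} {F : C z → ℂ} {W : Fin 3 → C z → ℂ}
    (cV : ∀ m, Cm m ∈ Vb 2 b ∧ IsGeneralizedCharacter (C z) (Cm m))
    (cn : ∀ m m', classInner (Cm m) (Cm m') = if m = m' then 8 else 0) (e1 : EvF b (cy z) F)
    (g1 : IsGeneralizedCharacter (C z) F) (n1 : classInner F F = 4)
    (hW : ∀ m, IsGeneralizedCharacter (C z) (W m) ∧ F + sh (cy z) (Cm m) = (2 : ℂ) • W m) :
    AT B 2 (blockRank 2 b) := by
  classical
  have ab1 := ab_of_ev e1
  have hrg : ∀ m, reg 2 (Cm m) = Cm m := fun m => (Vb_reg hM hind.1 (cV m).1).1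
  have abC : ∀ m, Ab z (sh (cy z) (Cm m)) := fun m => ab_of_sh hz (Vb_reg hM hind.1 (cV m).1).2 (hrg m)
  have csp : ∀ m, sh (cy z) (Cm m) ∈ spn b := fun m => sh_spn (cy_sq hz) (cy_cen z) (Vb_spn hM hind.1 (cV m).1)
  obtain ⟨f, hf1⟩ := exists_co (G := G) g1
  choose c hc using fun m => exists_co (G := G) (sh_gen (cy_sq hz) (cy_cen z) (cV m).2)
  choose w hw using fun m => exists_co (G := G) (hW m).1
  have h11 := sum_co hz ab1 ab1 hf1 hf1 (k := 4) (by rw [n1]; norm_num)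
  have hfc : ∀ m, ∑ χ, f χ * c m χ = 0 := fun m =>
    sum_co hz ab1 (abC m) hf1 (hc m) (k := 0) (by rw [ev_sh hz e1 (hrg m)]; norm_num)
  have hcc : ∀ m m', ∑ χ, c m χ * c m' χ = if m = m' then 8 else 0 := fun m m' =>
    sum_co hz (abC m) (abC m') (hc m) (hc m') (by rw [sh_inner2 (cy_sq hz), cn]; split_ifs <;> norm_num)
  have z1 : ∀ χ, χ ∉ B → f χ = 0 := fun χ hχ => co_zero hM hz hind ab1 e1.mem hf1 hχ
  have zc : ∀ m χ, χ ∉ B → c m χ = 0 := fun m χ hχ => co_zero hM hz hind (abC m) (csp m) (hc m) hχ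
  have hpar : ∀ m χ, f χ + c m χ = 2 * w m χ := by
    intro m χ
    have h1 : ((f χ + c m χ : ℤ) : ℂ) = ((2 * w m χ : ℤ) : ℂ) := by
      push_cast
      rw [← hf1, ← hc, ← hw, ← H18.CharOrtho.inner_add_left, ← In_add,
        (hW m).2, In_smul, H18.CharOrtho.inner_smul_left]
    exact_mod_cast h1
  have hMz : ∀ i j : IrrCharacter G, (2 : ℂ) ^ 3 * classInner (comp 2 z b (i : G → ℂ)) (comp 2 z b (j : G → ℂ)) =
      ((c 0 i * c 0 j + c 1 i * c 1 j + c 2 i * c 2 j : ℤ) : ℂ) := by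
    intro i j
    have := mz_fin hM hz hind.1 hr (Cm := Cm) (fun m => (cV m).1) cn hc i j
    rw [this]
    congr 1
    rw [Fin.sum_univ_three]
  obtain ⟨k1, k2, k3⟩ := H7.QNum8.q8_three (S := Finset.univ.filter (· ∈ B))
    (ht := fun i : IrrCharacter G => blockHeight 2 B (i : G → ℂ))
    (Mz := fun i j => c 0 i * c 0 j + c 1 i * c 1 j + c 2 i * c 2 j) (c := c) (f := f)
    (fun i j => by rw [Fin.sum_univ_three]) (fun m m' => by rw [sum_S (zc m)]; exact hcc m m')
    (by rw [sum_S z1]; exact h11)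
    (fun i _ => small4 h11 (reg_ne (G := G)) (rel_co hz ab1 hf1) i)
    (fun m => by rw [sum_S z1]; exact hfc m)
    (fun m i _ => by have := hpar m i; omega)
    (val_of hM hz hind hdb hdB hMz) (ex0_of hM hind)
  refine at_of k1 k2 k3 ?_ (by omega)
  have h5 := lo_of hM hz hind (ι := Option (Fin 3)) (f := fun o => o.elim F (fun m => sh (cy z) (Cm m)))
    (fun i => by
      match i with
      | none => exact ab1
      | some m => exact abC m)
    (fun i => by
      match i with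
      | none => exact e1.mem
      | some m => exact csp m)
    (fun i => by
      match i with
      | none =>
        intro h0
        change F = 0 at h0
        rw [h0, H18.CharOrtho.inner_zero_left] at n1
        norm_num at n1
      | some m =>
        intro h0
        change sh (cy z) (Cm m) = 0 at h0
        have h1 := cn m m
        rw [← sh_inner2 (cy_sq hz), h0, H18.CharOrtho.inner_zero_left, if_pos rfl] at h1
        norm_num at h1)
    (fun i j hij => by
      match i, j with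
      | none, none => exact absurd rfl hij
      | none, some m => exact ev_sh hz e1 (hrg m)
      | some m, none => exact zero_swap' (ev_sh hz e1 (hrg m))
      | some m, some m' =>
        change classInner (sh (cy z) (Cm m)) (sh (cy z) (Cm m')) = 0
        rw [sh_inner2 (cy_sq hz), cn, if_neg]
        rintro rfl
        exact hij rfl)
  rwa [Finite.card_option, Nat.card_fin] at h5

theorem at_q8 (hM : IsPModular 2 M) (hB : IsPBlock M B) (hz : orderOf z = 2) (hind : IsInducedBlock M (C z) b B)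
    (hdb : blockDefect 2 b = 3) (hdB : blockDefect 2 B = 3)
    (pack : (blockRank 2 b = 1 ∧ ∃ C0 F₁ F₂ F₃ W : C z → ℂ, C0 ∈ Vb 2 b ∧ IsGeneralizedCharacter (C z) C0 ∧ classInner C0 C0 = 8 ∧
      EvF b (cy z) F₁ ∧ EvF b (cy z) F₂ ∧ EvF b (cy z) F₃ ∧ IsGeneralizedCharacter (C z) F₁ ∧ IsGeneralizedCharacter (C z) F₂ ∧
      classInner F₁ F₁ = 2 ∧ classInner F₂ F₂ = 2 ∧ classInner F₃ F₃ = 2 ∧ classInner F₁ F₂ = 0 ∧
      classInner F₁ F₃ = -1 ∧ classInner F₂ F₃ = -1 ∧ IsGeneralizedCharacter (C z) W ∧ F₁ + F₂ + sh (cy z) C0 = (2 : ℂ) • W) ∨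
    (blockRank 2 b = 3 ∧ ∃ (Cm : Fin 3 → C z → ℂ) (F : C z → ℂ) (W : Fin 3 → C z → ℂ),
      (∀ m, Cm m ∈ Vb 2 b ∧ IsGeneralizedCharacter (C z) (Cm m)) ∧
      (∀ m m', classInner (Cm m) (Cm m') = if m = m' then 8 else 0) ∧ EvF b (cy z) F ∧ IsGeneralizedCharacter (C z) F ∧
      classInner F F = 4 ∧ ∀ m, IsGeneralizedCharacter (C z) (W m) ∧ F + sh (cy z) (Cm m) = (2 : ℂ) • W m)) :
    AT B 2 (blockRank 2 b) := by
  rcases pack with ⟨hr, C0, F₁, F₂, F₃, W, p1, p2, p3, p4, p5, p6, p7, p8, p9, p10, p11, p12, p13, p14, p15, p16⟩ |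
    ⟨hr, Cm, F, W, p1, p2, p3, p4, p5, p6⟩
  · exact at_q8_one hM hB hz hind hdb hdB hr p1 p2 p3 p4 p5 p6 p7 p8 p9 p10 p11 p12 p13 p14 p15 p16
  · exact at_q8_three hM hB hz hind hdb hdB hr p1 p2 p3 p4 p5 p6

end H83.Q8At
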