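import Cfsg.Agent.Lib.H5.TCb
import Cfsg.Agent.Lib.H5.TBj
import Cfsg.Agent.S4528
import Cfsg.Agent.Lib.H79.CentQ

/-!
# Blocks with a defect group having a central involution with dihedral quotient: the local set-up
-/

set_option autoImplicit false
set_option linter.unusedSectionVars false
set_option linter.unusedVariables false

namespace H83.SdSet

open Cfsg H20.Loc H20.GA H80.GA H80.GB H80.GD H80.GE H80.GF H80.GJ H80.FS H80.FS3 H84.RG H18.CharBasic H18.CharOrtho H18.CharInd H84.TrR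
open H20.Blk H20.Orth H20.Ind H20.Height H20.Defect H80.BR1 H80.BR2 H19.Second H19.Second3 H81.Section H81.Contrib H84.Star
open H5.DBa H5.DBd H5.TBa H5.TBb H5.TBe H5.TBf H5.TBg H5.TBh H5.TBi H5.TBj
open scoped ComplexConjugate

universe u

attribute [local instance 2000] Fintype.ofFinite

/-- the block of the quotient by a central `p`-subgroup -/
theorem exists_bar {G : Type u} [Group G] [Finite G] {p : ℕ} {M : Ideal AlgInt} (hM : IsPModular p M)
    {B : Set (IrrCharacter G)} (hB : IsPBlock M B) {D : Subgroup G}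
    (hD : IsDefectGroup p M B D) (Q : Subgroup G) [Q.Normal] (hQ : IsPGroup p Q) (hQc : Q ≤ Subgroup.center G) :
    ∃ B' : Set (IrrCharacter (G ⧸ Q)), IsPBlock M B' ∧ IsDefectGroup p M B' (D.map (QuotientGroup.mk' Q)) ∧
      (∀ ψ : IrrCharacter (G ⧸ Q), H20.NormQ.infl Q ψ ∈ B ↔ ψ ∈ B') ∧ blockRank p B = blockRank p B' := by
  haveI := pm_isPrime hM
  obtain ⟨B', h1, h2, h3⟩ := H77.DefQuot.exists_block Q hM hQ hB
  have hC : ∀ x : G, ¬ p ∣ orderOf x → x ∈ Subgroup.centralizer (Q : Set G) := by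
    intro x _
    rw [Subgroup.mem_centralizer_iff]
    intro y hy
    exact (Subgroup.mem_center_iff.1 (hQc hy) x).symm
  have hmem : ∀ ψ : IrrCharacter (G ⧸ Q), H20.NormQ.infl Q ψ ∈ B ↔ ψ ∈ B' := by
    intro ψ
    refine ⟨fun h => ?_, fun h => h2 ψ h⟩
    obtain ⟨χ, hχ⟩ := isPBlock_nonempty h1
    have h4 := isPBlock_sameBlock hB (h2 χ hχ) h
    have h5 := (H20.PC.sameBlock_infl_iff (P := Q) hM hQ hC χ ψ).2 h4
    exact (isPBlock_mem_iff h1 hχ ψ).2 h5
  exact ⟨B', h1, (h3 _).2 ⟨D, hD, rfl⟩, hmem, H5.TCb.rank_quot hM Q hQ hC hB hmem⟩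

section
variable {M : Ideal AlgInt} [M.IsMaximal] {G : Type u} [Group G] [Finite G]
variable [CharP (ResF M) 2] [Algebra (ZMod 2) (ResF M)] [Algebra.IsAlgebraic (ZMod 2) (ResF M)]
  [IsAlgClosed (ResF M)]

theorem exists_loc (hM : IsPModular 2 M) {B : Set (IrrCharacter G)} (hB : IsPBlock M B) {D : Subgroup G}
    (hD : IsDefectGroup 2 M B D) {n : ℕ} (hn : 3 ≤ n) (φ : D ≃* DihedralGroup (2 ^ (n - 1))) :
    ∃ (z : G) (b : Set (IrrCharacter (C z))) (P : Subgroup (C z)) (e : MonoidAlgebra (ResF M) (C z))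
      (S : Sylow 2 P) (σ : P) (ψ : IrrCharacter (C z)), z ∈ D ∧ (∀ d ∈ D, d * z = z * d) ∧
        Loc M B n z b P e S σ ψ := by
  obtain ⟨S0, σ0, h0, hS0, hφ⟩ := exists_ds hn φ
  set z : G := ((JJ σ0 n : D) : G) with hz
  have hzo : orderOf z = 2 := by rw [hz, Subgroup.orderOf_coe, h0.JJ_order]
  have hzD : z ∈ D := (JJ σ0 n : D).2
  have hzc : ∀ d ∈ D, d * z = z * d := by
    intro d hd
    have := h0.JJ_central (s := (⟨d, hd⟩ : D)) (memP hS0 _)
    exact congrArg Subtype.val this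
  have hDC : D ≤ C z := by
    intro d hd
    rw [Subgroup.mem_centralizer_singleton_iff]
    exact hzc d hd
  obtain ⟨b, hb, hind, hDb, hd⟩ := exists_local hM hB hD hzD hzc
  obtain ⟨e, hmax⟩ := exists_isMax_of_isDefectGroup hM hb hDb
  let eq : D.subgroupOf (C z) ≃* D := Subgroup.subgroupOfEquivOfLe hDC
  obtain ⟨S, σ, h, hS, hφ'⟩ := exists_ds hn (eq.trans φ)
  have hσ : eq σ = σ0 := by
    apply φ.injective
    rw [hφ]; exact hφ'
  have hw : ((JJ σ n : D.subgroupOf (C z)) : C z) = cy z := by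
    apply Subtype.ext
    change (((JJ σ n : D.subgroupOf (C z)) : C z) : G) = z
    have h1 : (eq (JJ σ n) : D) = JJ σ0 n := by
      unfold JJ
      rw [map_pow, hσ]
    have h2 : ((eq (JJ σ n) : D) : G) = (((JJ σ n : D.subgroupOf (C z)) : C z) : G) := rfl
    rw [← h2, h1]
  have hnil : Nilp 2 ⊤ (ebar M b) := nilp h hS (by
    intro g
    rw [hw]
    exact cy_comm z g) hmax
  obtain ⟨ψ, hψ, hψ0⟩ := exists_height_zero hM hb
  exact ⟨z, b, _, e, S, σ, ψ, hzD, hzc, ⟨hzo, hind, hd, hmax, hb, hnil, h, hS, hw, hψ, hψ0⟩⟩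

/-- the local set-up -/
theorem setup (hM : IsPModular 2 M) {B : Set (IrrCharacter G)} (hB : IsPBlock M B) {D : Subgroup G}
    (hD : IsDefectGroup 2 M B D) {k : ℕ} (hk : 3 ≤ k) (hcard : Nat.card D = 2 ^ (k + 1)) {z : G} (hzD : z ∈ D)
    (hzo : orderOf z = 2) (hzc : ∀ d ∈ D, d * z = z * d)
    (hsq : ∀ d ∈ D, d ≠ 1 → d ≠ z → (∀ x ∈ D, x * d * x⁻¹ = d ∨ x * d * x⁻¹ = d * z) → d * d = z)
    (hdih : ∀ (E : Type u) [Group E] (f : D →* E), Function.Surjective f →
      (∀ d : D, f d = 1 ↔ (d : G) = 1 ∨ (d : G) = z) → Nonempty (E ≃* DihedralGroup (2 ^ (k - 1)))) :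
    ∃ (b : Set (IrrCharacter (C z))) (Q : Subgroup (C z)) (_ : Q.Normal) (t : C z)
      (B' : Set (IrrCharacter (C z ⧸ Q))) (z' : C z ⧸ Q) (b' : Set (IrrCharacter (C z'))) (P : Subgroup (C z'))
      (e : MonoidAlgebra (ResF M) (C z')) (S : Sylow 2 P) (σ : P) (ψ : IrrCharacter (C z')),
      IsPBlock M b ∧ IsInducedBlock M (C z) b B ∧ IsDefectGroup 2 M b (D.subgroupOf (C z)) ∧
      blockDefect 2 b = k + 1 ∧ blockDefect 2 B = k + 1 ∧
      Nat.card Q = 2 ∧ Q ≤ Subgroup.center (C z) ∧ (∀ s ∈ Q, s * s = 1) ∧ (∀ s ∈ Q, s = 1 ∨ s = cy z) ∧ cy z ∈ Q ∧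
      t ∈ D.subgroupOf (C z) ∧ t * t = cy z ∧ z' = (t : C z ⧸ Q) ∧
      (∀ χ : IrrCharacter (C z ⧸ Q), H20.NormQ.infl Q χ ∈ b ↔ χ ∈ B') ∧ blockRank 2 b = blockRank 2 B' ∧
      blockDefect 2 B' = k ∧ Nat.card B' = 2 ^ (k - 2) + 3 ∧ H5.TBj.Loc M B' k z' b' P e S σ ψ := by
  have hDC : D ≤ C z := by
    intro d hd
    rw [Subgroup.mem_centralizer_singleton_iff]
    exact hzc d hd
  obtain ⟨b, hb, hind, hDb, hdef⟩ := exists_local hM hB hD hzD hzc
  have hdB : blockDefect 2 B = k + 1 := by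
    have h4 := card_defectGroup hM hB hD
    rw [hcard] at h4
    exact (Nat.pow_right_injective hM.1.two_le h4).symm
  have hcyo : orderOf (cy z) = 2 := by
    rw [← hzo, ← Subgroup.orderOf_coe]; rfl
  have hcyc : cy z ∈ Subgroup.center (C z) := by
    rw [Subgroup.mem_center_iff]
    exact fun g => cy_comm z g
  -- the central subgroup
  let Q : Subgroup (C z) := Subgroup.zpowers (cy z)
  have hQmem : ∀ g : C z, g ∈ Q ↔ g = 1 ∨ g = cy z := by
    intro g
    constructor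
    · rintro ⟨j, hj⟩
      have hj' : cy z ^ j = g := hj
      have h1 : cy z ^ 2 = 1 := by rw [← hcyo, pow_orderOf_eq_one]
      rcases Int.even_or_odd' j with ⟨c, hc | hc⟩
      · left
        rw [← hj', hc, zpow_mul]
        have : cy z ^ (2 : ℤ) = 1 := by exact_mod_cast h1
        rw [this, one_zpow]
      · right
        rw [← hj', hc, zpow_add, zpow_mul, zpow_one]
        have : cy z ^ (2 : ℤ) = 1 := by exact_mod_cast h1
        rw [this, one_zpow, one_mul]
    · rintro (rfl | rfl)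
      · exact Subgroup.one_mem _
      · exact Subgroup.mem_zpowers _
  have hQc : Q ≤ Subgroup.center (C z) := (Subgroup.zpowers_le).2 hcyc
  haveI hQn : Q.Normal := ⟨fun q hq g => by
    rw [Subgroup.mem_center_iff.1 (hQc hq) g, mul_inv_cancel_right]; exact hq⟩
  have hQcard : Nat.card Q = 2 := by rw [Nat.card_zpowers, hcyo]
  have hQ2 : IsPGroup 2 Q := IsPGroup.of_card (n := 1) (by rw [hQcard, pow_one])
  obtain ⟨B', hB', hD', hmem, hrk⟩ := exists_bar hM hb hDb Q hQ2 hQc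
  -- the quotient of the defect group
  let D0 : Subgroup (C z) := D.subgroupOf (C z)
  let π := QuotientGroup.mk' Q
  let eq : D0 ≃* D := Subgroup.subgroupOfEquivOfLe hDC
  let f0 : D0 →* D0.map π := π.subgroupMap D0
  have hf0s : Function.Surjective f0 := π.subgroupMap_surjective D0
  have hf0 : ∀ d : D0, f0 d = 1 ↔ (d : C z) ∈ Q := by
    intro d
    rw [← QuotientGroup.eq_one_iff]
    constructor
    · intro h2; exact congrArg Subtype.val h2
    · intro h2; exact Subtype.ext h2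
  let f : D →* D0.map π := f0.comp eq.symm.toMonoidHom
  have hfs : Function.Surjective f := by
    intro y
    obtain ⟨d, hd⟩ := hf0s y
    refine ⟨eq d, ?_⟩
    show f0 (eq.symm (eq d)) = y
    rw [MulEquiv.symm_apply_apply, hd]
  have hf1 : ∀ d : D, f d = 1 ↔ (d : G) = 1 ∨ (d : G) = z := by
    intro d
    have h1 : f d = 1 ↔ ((eq.symm d : D0) : C z) ∈ Q := hf0 _
    have h2 : (((eq.symm d : D0) : C z) : G) = (d : G) := rfl
    rw [h1, hQmem, ← h2]
    constructor
    · rintro (h3 | h3)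
      · left; rw [h3]; rfl
      · right; rw [h3]; rfl
    · rintro (h3 | h3)
      · exact Or.inl (Subtype.ext h3)
      · exact Or.inr (Subtype.ext h3)
  obtain ⟨φ⟩ := hdih (D0.map π) f hfs hf1
  haveI : NeZero (2 ^ (k - 1)) := ⟨by positivity⟩
  have hcard' : Nat.card (D0.map π) = 2 ^ k := by
    rw [Nat.card_congr φ.toEquiv, DihedralGroup.nat_card, ← pow_succ']
    congr 1
    omega
  have hdB' : blockDefect 2 B' = k := by
    have h4 := card_defectGroup hM hB' hD'
    change Nat.card (D0.map π) = _ at h4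
    rw [hcard'] at h4
    exact (Nat.pow_right_injective hM.1.two_le h4).symm
  have hB'card : Nat.card B' = 2 ^ (k - 2) + 3 :=
    (Cfsg.Agent.S4528.result M hM B' hB' _ hD' k hk ⟨φ⟩).1
  obtain ⟨z', b', P, e, S, σ, ψ, hz'D, hz'c, hloc⟩ := exists_loc hM hB' hD' hk φ
  obtain ⟨t, ht, htz⟩ := hz'D
  have htz' : z' = (t : C z ⧸ Q) := htz.symm
  have htD : (t : G) ∈ D := ht
  have htQ : t ∉ Q := by
    intro h1
    have h2 : (t : C z ⧸ Q) = 1 := (QuotientGroup.eq_one_iff t).2 h1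
    have h3 := hloc.hz
    rw [htz', h2, orderOf_one] at h3
    omega
  have htt : (t : G) * (t : G) = z := by
    apply hsq _ htD
    · intro h1
      apply htQ
      rw [hQmem]
      exact Or.inl (Subtype.ext h1)
    · intro h1
      apply htQ
      rw [hQmem]
      exact Or.inr (Subtype.ext h1)
    · intro x hx
      let x' : C z := ⟨x, hDC hx⟩
      have h1 : (x' : C z ⧸ Q) * z' = z' * (x' : C z ⧸ Q) := hz'c _ ⟨x', hx, rfl⟩
      rw [htz'] at h1
      have h2 : ((t * x' : C z) : C z ⧸ Q) = ((x' * t : C z) : C z ⧸ Q) := h1.symm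
      rw [QuotientGroup.eq, hQmem] at h2
      rcases h2 with h2 | h2
      · left
        have h3 : (t * x')⁻¹ * (x' * t) = 1 := h2
        have h4 : x' * t = t * x' := (inv_mul_eq_one.1 h3).symm
        have h5 : x * (t : G) = (t : G) * x := congrArg Subtype.val h4
        rw [h5, mul_inv_cancel_right]
      · right
        have h4 : x' * t = t * x' * cy z := by rw [← h2]; group
        have h5 : x * (t : G) = (t : G) * x * z := congrArg Subtype.val h4
        rw [h5, mul_assoc (t : G) x z, hzc x hx, ← mul_assoc, mul_inv_cancel_right]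
  refine ⟨b, Q, hQn, t, B', z', b', P, e, S, σ, ψ, hb, hind, hDb, hdef.trans hdB, hdB, hQcard, hQc, ?_,
    fun s hs => (hQmem s).1 hs, (hQmem _).2 (Or.inr rfl), ht, Subtype.ext htt, htz', hmem, hrk, hdB', hB'card, hloc⟩
  intro s hs
  rcases (hQmem s).1 hs with h1 | h1
  · rw [h1, mul_one]
  · rw [h1, ← pow_two, ← hcyo, pow_orderOf_eq_one]

end

end H83.SdSet
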