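import Cfsg.Agent.Lib.H83.SdSet

/-!
# Quaternion defect groups of order eight: the local set-up
-/

set_option autoImplicit false
set_option linter.unusedSectionVars false
set_option linter.unusedVariables false

namespace H83.SdSet3

open Cfsg H20.Loc H20.GA H80.GA H80.GB H80.GD H80.GE H80.GF H80.GJ H80.FS H80.FS3 H84.RG H18.CharBasic H18.CharOrtho H18.CharInd H84.TrR
open H20.Blk H20.Orth H20.Ind H20.Height H20.Defect H80.BR1 H80.BR2 H19.Second H19.Second3 H81.Section H81.Contrib H84.Star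
open H5.DBa H5.DBd H5.TBa H5.TBb H5.TBe H5.TBf H5.TBg H5.TBh H5.TBi H5.TBj
open scoped ComplexConjugate

universe u

attribute [local instance 2000] Fintype.ofFinite

variable {M : Ideal AlgInt} [M.IsMaximal] {G : Type u} [Group G] [Finite G]
variable [CharP (ResF M) 2] [Algebra (ZMod 2) (ResF M)] [Algebra.IsAlgebraic (ZMod 2) (ResF M)]
  [IsAlgClosed (ResF M)]

/-- the local set-up -/
theorem setup3 (hM : IsPModular 2 M) {B : Set (IrrCharacter G)} (hB : IsPBlock M B) {D : Subgroup G}
    (hD : IsDefectGroup 2 M B D) (hcard : Nat.card D = 8) {z : G} (hzD : z ∈ D)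
    (hzo : orderOf z = 2) (hzc : ∀ d ∈ D, d * z = z * d) (hsq : ∀ d ∈ D, d ≠ 1 → d ≠ z → d * d = z) :
    ∃ (b : Set (IrrCharacter (C z))) (Q : Subgroup (C z)) (_ : Q.Normal)
      (B' : Set (IrrCharacter (C z ⧸ Q))) (D' : Subgroup (C z ⧸ Q)),
      IsPBlock M b ∧ IsInducedBlock M (C z) b B ∧ IsDefectGroup 2 M b (D.subgroupOf (C z)) ∧
      blockDefect 2 b = 3 ∧ blockDefect 2 B = 3 ∧
      Nat.card Q = 2 ∧ Q ≤ Subgroup.center (C z) ∧ (∀ s ∈ Q, s * s = 1) ∧ (∀ s ∈ Q, s = 1 ∨ s = cy z) ∧ cy z ∈ Q ∧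
      IsPBlock M B' ∧ IsDefectGroup 2 M B' D' ∧ Nat.card D' = 4 ∧ (∀ d ∈ D', d * d = 1) ∧
      (∀ χ : IrrCharacter (C z ⧸ Q), H20.NormQ.infl Q χ ∈ b ↔ χ ∈ B') ∧ blockRank 2 b = blockRank 2 B' ∧
      blockDefect 2 B' = 2 := by
  have hDC : D ≤ C z := by
    intro d hd
    rw [Subgroup.mem_centralizer_singleton_iff]
    exact hzc d hd
  obtain ⟨b, hb, hind, hDb, hdef⟩ := exists_local hM hB hD hzD hzc
  have hdB : blockDefect 2 B = 3 := by
    have h4 := card_defectGroup hM hB hD
    rw [hcard] at h4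
    have h5 : 2 ^ 3 = 2 ^ blockDefect 2 B := by rw [← h4]; norm_num
    exact (Nat.pow_right_injective hM.1.two_le h5).symm
  have hcyo : orderOf (cy z) = 2 := by
    rw [← hzo, ← Subgroup.orderOf_coe]; rfl
  have hcyc : cy z ∈ Subgroup.center (C z) := by
    rw [Subgroup.mem_center_iff]
    exact fun g => cy_comm z g
  -- the central subgroup
  let Q : Subgroup (C z) := Subgroup.zpowers (cy z)
  have hQmem : ∀ g : C z, g ∈ Q ↔ g = 1 ∨ g = cy z := by
    intro g
    constructor
    · rintro ⟨j, hj⟩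
      have hj' : cy z ^ j = g := hj
      have h1 : cy z ^ 2 = 1 := by rw [← hcyo, pow_orderOf_eq_one]
      rcases Int.even_or_odd' j with ⟨c, hc | hc⟩
      · left
        rw [← hj', hc, zpow_mul]
        have : cy z ^ (2 : ℤ) = 1 := by exact_mod_cast h1
        rw [this, one_zpow]
      · right
        rw [← hj', hc, zpow_add, zpow_mul, zpow_one]
        have : cy z ^ (2 : ℤ) = 1 := by exact_mod_cast h1
        rw [this, one_zpow, one_mul]
    · rintro (rfl | rfl)
      · exact Subgroup.one_mem _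
      · exact Subgroup.mem_zpowers _
  have hQc : Q ≤ Subgroup.center (C z) := (Subgroup.zpowers_le).2 hcyc
  have hQn : Q.Normal := ⟨fun q hq g => by
    rw [Subgroup.mem_center_iff.1 (hQc hq) g, mul_inv_cancel_right]; exact hq⟩
  have hQcard : Nat.card Q = 2 := by rw [Nat.card_zpowers, hcyo]
  have hQ2 : IsPGroup 2 Q := IsPGroup.of_card (n := 1) (by rw [hQcard, pow_one])
  obtain ⟨B', hB', hD', hmem, hrk⟩ := H83.SdSet.exists_bar hM hb hDb Q hQ2 hQc
  -- the quotient of the defect group
  let D0 : Subgroup (C z) := D.subgroupOf (C z)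
  let π := QuotientGroup.mk' Q
  let f0 : D0 →* D0.map π := π.subgroupMap D0
  have hf0s : Function.Surjective f0 := π.subgroupMap_surjective D0
  have hf0 : ∀ d : D0, f0 d = 1 ↔ (d : C z) ∈ Q := by
    intro d
    rw [← QuotientGroup.eq_one_iff]
    constructor
    · intro h2; exact congrArg Subtype.val h2
    · intro h2; exact Subtype.ext h2
  have hcard0 : Nat.card D0 = 8 := by
    rw [← hcard]
    exact Nat.card_congr (Subgroup.subgroupOfEquivOfLe hDC).toEquiv
  have hcyD : cy z ∈ D0 := Subgroup.mem_subgroupOf.2 hzD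
  have hker : f0.ker = Subgroup.zpowers (⟨cy z, hcyD⟩ : D0) := by
    apply le_antisymm
    · intro d hd'
      rcases (hQmem _).1 ((hf0 d).1 hd') with h1 | h1
      · have : d = 1 := Subtype.ext h1
        rw [this]; exact Subgroup.one_mem _
      · have : d = ⟨cy z, hcyD⟩ := Subtype.ext h1
        rw [this]; exact Subgroup.mem_zpowers _
    · rw [Subgroup.zpowers_le]
      exact (hf0 _).2 (Subgroup.mem_zpowers _)
  have hcard' : Nat.card (D0.map π) = 4 := by
    have h1 := Subgroup.card_mul_index f0.ker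
    rw [Subgroup.index_ker, MonoidHom.range_eq_top.2 hf0s, Subgroup.card_top, hker, Nat.card_zpowers, hcard0,
      Subgroup.orderOf_mk, hcyo] at h1
    omega
  have hdB' : blockDefect 2 B' = 2 := by
    have h4 := card_defectGroup hM hB' hD'
    change Nat.card (D0.map π) = _ at h4
    rw [hcard'] at h4
    have h5 : 2 ^ 2 = 2 ^ blockDefect 2 B' := by rw [← h4]; norm_num
    exact (Nat.pow_right_injective hM.1.two_le h5).symm
  refine ⟨b, Q, hQn, B', D0.map π, hb, hind, hDb, hdef.trans hdB, hdB, hQcard, hQc, ?_,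
    fun s hs => (hQmem s).1 hs, (hQmem _).2 (Or.inr rfl), hB', hD', hcard', ?_, hmem, hrk, hdB'⟩
  · intro s hs
    rcases (hQmem s).1 hs with h1 | h1
    · rw [h1, mul_one]
    · rw [h1, ← pow_two, ← hcyo, pow_orderOf_eq_one]
  · rintro _ ⟨d, hd, rfl⟩
    have hd' : (d : G) ∈ D := hd
    rw [← map_mul]
    have h1 : d * d ∈ Q := by
      rw [hQmem]
      by_cases h2 : (d : G) = 1
      · left
        apply Subtype.ext
        change (d : G) * (d : G) = 1
        rw [h2, mul_one]
      · by_cases h3 : (d : G) = z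
        · left
          apply Subtype.ext
          change (d : G) * (d : G) = 1
          rw [h3, ← pow_two, ← hzo, pow_orderOf_eq_one]
        · right
          exact Subtype.ext (hsq _ hd' h2 h3)
    exact (QuotientGroup.eq_one_iff (d * d)).2 h1

end H83.SdSet3
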