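import Mathlib
import Cfsg.Agent.Lib.H83.FSInd

/-!
Linear characters of a normal subgroup with complement: extension to the stabilizer and the
Frobenius–Schur indicator of the induced characters when a central involution of the complement
inverts the character.
-/

set_option autoImplicit false
set_option linter.unusedSectionVars false
set_option linter.style.haveILetI false

namespace H83.SemiLin

open Cfsg Representation H18.CharBasic H18.CharOrtho H18.CharInd H18.CharQuot H31.Clifford
  H83.FSMult H83.ExtInd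
open scoped ComplexConjugate

universe u v w

variable {G : Type u} [Group G]

/-- extension of a linear character of `N` to its stabilizer, trivial on the complement -/
theorem exists_ext {A : Type v} [CommGroup A] (N P T : Subgroup G) [hN : N.Normal] (hc : N.IsComplement' P)
    (hNT : N ≤ T) (lam : N →* A)
    (hT : ∀ g ∈ T, ∀ n : N, lam (MulAut.conjNormal g n) = lam n) :
    ∃ ξ : T →* A, (∀ n : N, ξ ⟨n, hNT n.2⟩ = lam n) ∧ ∀ s (_ : s ∈ P) (hs : s ∈ T), ξ ⟨s, hs⟩ = 1 := by
  classical
  let e := Subgroup.IsComplement.equiv hc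
  have he : ∀ g : G, ((e g).1 : G) * ((e g).2 : G) = g := fun g =>
    Subgroup.IsComplement.equiv_fst_mul_equiv_snd hc g
  have hsT : ∀ g ∈ T, ((e g).2 : G) ∈ T := by
    intro g hg
    have h1 : ((e g).2 : G) = ((e g).1 : G)⁻¹ * g := by
      rw [eq_inv_mul_iff_mul_eq, he]
    rw [h1]
    exact T.mul_mem (T.inv_mem (hNT (e g).1.2)) hg
  have huniq : ∀ (n : N) (s : P), e ((n : G) * s) = (n, s) := by
    intro n s
    have h1 : e.symm (n, s) = (n : G) * s := Subgroup.IsComplement.equiv_symm_apply hc (n, s)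
    rw [← h1, Equiv.apply_symm_apply]
  let F : T → A := fun g => lam (e (g : G)).1
  have hF : ∀ g h : T, F (g * h) = F g * F h := by
    intro g h
    have h1 : ((g * h : T) : G) = (((e g).1 * MulAut.conjNormal ((e (g : G)).2 : G) (e h).1 : N) : G) *
        (((e g).2 * (e h).2 : P) : G) := by
      rw [Subgroup.coe_mul, Subgroup.coe_mul, Subgroup.coe_mul, MulAut.conjNormal_apply]
      have h2 : (g : G) * h = (((e (g : G)).1 : G) * ((e (g : G)).2 : G)) *
          (((e (h : G)).1 : G) * ((e (h : G)).2 : G)) := by rw [he, he]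
      rw [h2]; group
    change lam (e ((g * h : T) : G)).1 = _
    rw [h1, huniq]
    change lam ((e g).1 * MulAut.conjNormal ((e (g : G)).2 : G) (e h).1) = _
    rw [map_mul, hT _ (hsT g g.2)]
  refine ⟨MonoidHom.mk' F hF, ?_, ?_⟩
  · intro n
    change lam (e (n : G)).1 = lam n
    have h1 := huniq n 1
    rw [Subgroup.coe_one, mul_one] at h1
    rw [h1]
  · intro s hsP hs
    change lam (e s).1 = 1
    have h1 := huniq 1 ⟨s, hsP⟩
    rw [Subgroup.coe_one, one_mul] at h1
    rw [h1, map_one]

/-- the indicator of an induced character -/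
theorem nu_indFun [Fintype G] (H : Subgroup G) (θ : H → ℂ) :
    nu (indFun H θ) = (Nat.card H : ℂ)⁻¹ * ∑ g : G, extendByZero H θ (g * g) := by
  rw [nu_eq]
  simp only [indFun_apply]
  rw [← Finset.mul_sum, Finset.sum_comm]
  have h1 : ∀ x : G, ∑ g : G, extendByZero H θ (x⁻¹ * (g * g) * x) = ∑ g : G, extendByZero H θ (g * g) := by
    intro x
    refine Fintype.sum_equiv (MulAut.conj x⁻¹).toEquiv _ _ ?_
    intro g
    congr 1
    simp only [MulEquiv.toEquiv_eq_coe, EquivLike.coe_coe, MulAut.conj_apply]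
    group
  rw [Finset.sum_congr rfl fun x _ => h1 x, Finset.sum_const, Finset.card_univ, nsmul_eq_mul,
    mul_left_comm, ← mul_assoc (Nat.card G : ℂ)⁻¹, ← Nat.card_eq_fintype_card,
    inv_mul_cancel₀ (card_ne_zero' (G := G)), one_mul]

theorem sum_hom [Finite G] (f : G →* ℂˣ) [Fintype G] [Decidable (f = 1)] :
    ∑ g : G, (f g : ℂ) = if f = 1 then (Nat.card G : ℂ) else 0 := by
  split_ifs with h
  · subst h; simp
  · obtain ⟨a, ha⟩ : ∃ a, f a ≠ 1 := by
      by_contra hcon
      push Not at hcon
      exact h (MonoidHom.ext hcon)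
    have h1 : (f a : ℂ) * ∑ g : G, (f g : ℂ) = ∑ g : G, (f g : ℂ) := by
      rw [Finset.mul_sum]
      refine Fintype.sum_equiv (Equiv.mulLeft a) _ _ fun g => ?_
      simp
    have h2 : ((f a : ℂ) - 1) * ∑ g : G, (f g : ℂ) = 0 := by rw [sub_mul, h1]; ring
    rcases mul_eq_zero.1 h2 with h3 | h3
    · exact absurd (Units.ext (sub_eq_zero.1 h3)) ha
    · exact h3

theorem nu_ind_compl [Fintype G] (N P T : Subgroup G) [hN : N.Normal] (hc : N.IsComplement' P)
    (hNT : N ≤ T) (lam : N →* ℂˣ)
    (hT : ∀ g, g ∈ T ↔ ∀ n : N, lam (MulAut.conjNormal g n) = lam n) (ξ : T →* ℂˣ)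
    (hξN : ∀ n : N, ξ ⟨n, hNT n.2⟩ = lam n)
    (hξP : ∀ s : G, ∀ (_ : s ∈ P) (hs : s ∈ T), ξ ⟨s, hs⟩ ^ 2 = 1)
    (z : G) (hz : z ∈ P) (hz2 : z * z = 1) (hzc : ∀ s ∈ P, s * z = z * s)
    (hzinv : ∀ n : N, lam (MulAut.conjNormal z n) = (lam n)⁻¹) :
    nu (indFun T (fun t => (ξ t : ℂ))) = 1 := by
  classical
  let e := Subgroup.IsComplement.equiv hc
  have hsum : ∀ F : G → ℂ, ∑ g : G, F g = ∑ s : P, ∑ n : N, F ((n : G) * s) := by
    intro F
    have h1 : ∑ x : N × P, F ((x.1 : G) * x.2) = ∑ g : G, F g := by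
      refine Fintype.sum_equiv e.symm _ _ ?_
      intro x
      rw [Subgroup.IsComplement.equiv_symm_apply hc x]
    rw [← h1, Fintype.sum_prod_type_right]
  have hzinv' : z⁻¹ = z := inv_eq_of_mul_eq_one_left hz2
  have hlamcomp : ∀ (a b : G) (n : N), lam (MulAut.conjNormal (a * b) n) =
      lam (MulAut.conjNormal a (MulAut.conjNormal b n)) := by
    intro a b n
    rw [map_mul]; rfl
  have hexp : ∀ (n : N) (s : G), ((n : G) * s) * ((n : G) * s) =
      ((n * MulAut.conjNormal s n : N) : G) * (s * s) := by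
    intro n s
    rw [Subgroup.coe_mul, MulAut.conjNormal_apply]
    group
  have hinner : ∀ s : P, ∑ n : N, extendByZero T (fun t => (ξ t : ℂ)) (((n : G) * s) * ((n : G) * s)) =
      if z⁻¹ * (s : G) ∈ T then (Nat.card N : ℂ) else 0 := by
    intro s
    split_ifs with ht
    · have hss : (s : G) * s = (z⁻¹ * s) * (z⁻¹ * s) := by
        rw [hzinv']
        have h1 : z * (s : G) * (z * s) = z * ((s : G) * z) * s := by group
        rw [h1, hzc s s.2, ← mul_assoc, hz2, one_mul]
      have hssT : (s : G) * s ∈ T := by rw [hss]; exact T.mul_mem ht ht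
      have hterm : ∀ n : N, extendByZero T (fun t => (ξ t : ℂ)) (((n : G) * s) * ((n : G) * s)) = 1 := by
        intro n
        have hmem : ((n * MulAut.conjNormal (s : G) n : N) : G) * ((s : G) * s) ∈ T :=
          T.mul_mem (hNT (Subtype.mem _)) hssT
        rw [hexp, ext_mem T _ hmem]
        have h1 : (⟨((n * MulAut.conjNormal (s : G) n : N) : G) * ((s : G) * s), hmem⟩ : T) =
            ⟨((n * MulAut.conjNormal (s : G) n : N) : G), hNT (Subtype.mem _)⟩ *
            (⟨z⁻¹ * s, ht⟩ * ⟨z⁻¹ * s, ht⟩) := by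
          apply Subtype.ext
          simp only [Subgroup.coe_mul]
          rw [hss]
        rw [h1, map_mul, map_mul, hξN, ← sq, hξP _ (P.mul_mem (P.inv_mem hz) s.2) ht, mul_one, map_mul]
        have h2 : lam (MulAut.conjNormal (s : G) n) = (lam n)⁻¹ := by
          have h3 : (s : G) = z * (z⁻¹ * s) := by group
          rw [h3, hlamcomp, hzinv, (hT _).1 ht]
        rw [h2, mul_inv_cancel, Units.val_one]
      rw [Finset.sum_congr rfl fun n _ => hterm n, Finset.sum_const, Finset.card_univ, nsmul_eq_mul,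
        mul_one, Nat.card_eq_fintype_card]
    · by_cases hssT : (s : G) * s ∈ T
      · let gs : N →* ℂˣ := lam * (lam.comp (MulAut.conjNormal (s : G)).toMonoidHom)
        have hgs : gs ≠ 1 := by
          intro h
          apply ht
          rw [hT]
          intro n
          have h1 : lam n * lam (MulAut.conjNormal (s : G) n) = 1 := DFunLike.congr_fun h n
          rw [hlamcomp, hzinv', hzinv]
          exact (eq_inv_of_mul_eq_one_left h1).symm
        have hterm : ∀ n : N, extendByZero T (fun t => (ξ t : ℂ)) (((n : G) * s) * ((n : G) * s)) =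
            (gs n : ℂ) * ξ ⟨(s : G) * s, hssT⟩ := by
          intro n
          have hmem : ((n * MulAut.conjNormal (s : G) n : N) : G) * ((s : G) * s) ∈ T :=
            T.mul_mem (hNT (Subtype.mem _)) hssT
          rw [hexp, ext_mem T _ hmem]
          have h1 : (⟨((n * MulAut.conjNormal (s : G) n : N) : G) * ((s : G) * s), hmem⟩ : T) =
              ⟨((n * MulAut.conjNormal (s : G) n : N) : G), hNT (Subtype.mem _)⟩ *
              ⟨(s : G) * s, hssT⟩ := rfl
          rw [h1, map_mul, hξN, Units.val_mul, map_mul]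
          rfl
        rw [Finset.sum_congr rfl fun n _ => hterm n, ← Finset.sum_mul, sum_hom, if_neg hgs, zero_mul]
      · refine Finset.sum_eq_zero fun n _ => ?_
        rw [hexp, ext_notMem]
        intro hmem
        apply hssT
        exact (Subgroup.mul_mem_cancel_left T (hNT (Subtype.mem _))).1 hmem
  have hT2 : ∑ s : P, (if z⁻¹ * (s : G) ∈ T then (Nat.card N : ℂ) else 0) = (Nat.card T : ℂ) := by
    have h1 : ∑ s : P, (if z⁻¹ * (s : G) ∈ T then (Nat.card N : ℂ) else 0) =
        ∑ s : P, (if (s : G) ∈ T then (Nat.card N : ℂ) else 0) := by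
      refine Fintype.sum_equiv (Equiv.mulLeft (⟨z, hz⟩⁻¹ : P)) _ _ ?_
      intro s
      rfl
    have h2 : ∑ g : G, (if g ∈ T then (1 : ℂ) else 0) = Nat.card T := by
      rw [Finset.sum_boole, Nat.card_eq_fintype_card, Fintype.card_subtype]
    rw [h1, ← h2, hsum]
    refine Finset.sum_congr rfl fun s _ => ?_
    have h3 : ∀ n : N, (if (n : G) * s ∈ T then (1 : ℂ) else 0) = if (s : G) ∈ T then (1 : ℂ) else 0 := by
      intro n
      congr 1
      exact propext (Subgroup.mul_mem_cancel_left T (hNT n.2))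
    rw [Finset.sum_congr rfl fun n _ => h3 n, Finset.sum_const, Finset.card_univ, nsmul_eq_mul,
      Nat.card_eq_fintype_card]
    split_ifs <;> simp
  rw [nu_indFun, hsum, Finset.sum_congr rfl fun s _ => hinner s, hT2]
  exact inv_mul_cancel₀ (card_ne_zero' (G := T))

end H83.SemiLin
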