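import Cfsg.Agent.Lib.H20.Kuls
import Cfsg.Agent.Lib.H83.Gallagher
import Cfsg.Agent.Lib.H18.DetChar
import Cfsg.Agent.S4551

/-!
# The principal block and sums over the p-regular elements (S4892)
-/

set_option autoImplicit false
set_option linter.unusedSectionVars false
set_option linter.unusedVariables false
set_option linter.style.haveILetI false

open Cfsg H18.CharBasic H18.CharOrtho H18.CharQuot H20.Loc H20.GA H20.Blk H20.Orth
open scoped ComplexConjugate

universe u v

namespace H83.ExtRat

section crit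

variable {G : Type u} [Group G] [Finite G] {M : Ideal AlgInt} {p : ℕ}

/-- the sum over the `p`-regular elements -/
noncomputable def rs (p : ℕ) (f : G → ℂ) : ℂ :=
  letI := Fintype.ofFinite G
  ∑ x : G, reg p f x

theorem rs_eq [Fintype G] (f : G → ℂ) : rs p f = ∑ x : G, reg p f x := by
  unfold rs
  congr!

theorem omega_Y_eq_rs (χ : IrrCharacter G) :
    omega χ (H20.Kuls.Y G p) = rs p (χ : G → ℂ) / (χ : G → ℂ) 1 := by
  classical
  letI := Fintype.ofFinite G
  rw [omega_eq_sum, rs_eq]
  congr 1
  refine Finset.sum_congr rfl fun x _ => ?_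
  by_cases h : p ∣ orderOf x
  · rw [H20.Kuls.zc_Y_not h, reg_not h, zero_mul]
  · rw [H20.Kuls.zc_Y_of h, reg_of h, one_mul]

/-- An irreducible character is in the principal block iff its sum over the `p`-regular elements
does not vanish. -/
theorem crit (hM : IsPModular p M) (χ : IrrCharacter G) :
    χ ∈ principalBlock M G ↔ rs p (χ : G → ℂ) ≠ 0 := by
  haveI := pm_isPrime hM
  have h1 := irr_one_ne_zero χ.2
  constructor
  · intro h h0
    have h' : SameBlock M (H20.NPC.one G : G → ℂ) (χ : G → ℂ) := h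
    have h2 := sameBlock_iff.1 h' (H20.Kuls.Y G p) H20.Kuls.Y_mem
    rw [omega_Y_eq_rs χ, h0, zero_div, sub_zero, H20.Kuls.omega_Y_one] at h2
    exact H20.Kuls.not_dvd_card_regular hM h2
  · intro h
    by_contra hn
    apply h
    have h2 : omega χ (H20.Kuls.Y G p) = 0 := by
      rw [H20.Kuls.omega_Y_eq, H20.Height.Q_eq_zero hM (ψ := H20.NPC.one G)]
      intro h'
      exact hn (sameBlock_symm h')
    rw [omega_Y_eq_rs] at h2
    exact (div_eq_zero_iff.1 h2).resolve_right h1

theorem rs_equiv {H : Type v} [Group H] [Finite H] (e : G ≃* H) (f : H → ℂ) :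
    rs p (fun g => f (e g)) = rs p f := by
  classical
  letI := Fintype.ofFinite G
  letI := Fintype.ofFinite H
  rw [rs_eq, rs_eq]
  refine Fintype.sum_equiv e.toEquiv _ _ fun x => ?_
  have h1 : orderOf (e x) = orderOf x := e.orderOf_eq x
  show reg p (fun g => f (e g)) x = reg p f (e x)
  by_cases h : p ∣ orderOf x
  · rw [reg_not h, reg_not (by rw [h1]; exact h)]
  · rw [reg_of h, reg_of (by rw [h1]; exact h)]

theorem principal_equiv (hM : IsPModular p M) {H : Type v} [Group H] [Finite H] (e : G ≃* H)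
    (χ : IrrCharacter H) :
    (⟨fun g => (χ : H → ℂ) (e g), (isIrrCharacter_mulEquiv e).1 χ.2⟩ : IrrCharacter G) ∈
      principalBlock M G ↔ χ ∈ principalBlock M H := by
  rw [crit hM, crit hM]
  show rs p (fun g => (χ : H → ℂ) (e g)) ≠ 0 ↔ _
  rw [rs_equiv]

end crit

section coset

variable {G : Type u} [Group G] [Finite G] {M : Ideal AlgInt} {p : ℕ}

/-- the sum over the `p`-regular elements of a coset -/
noncomputable def cs (N : Subgroup G) (p : ℕ) (f : G → ℂ) (g : G) : ℂ :=
  letI := Fintype.ofFinite N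
  ∑ n : N, reg p f (g * n)

theorem cs_eq (N : Subgroup G) [Fintype N] (f : G → ℂ) (g : G) :
    cs N p f g = ∑ n : N, reg p f (g * n) := by
  unfold cs
  congr!

theorem sum_cs [Fintype G] (N : Subgroup G) (f : G → ℂ) :
    ∑ g : G, cs N p f g = (Nat.card N : ℂ) * rs p f := by
  classical
  letI := Fintype.ofFinite N
  simp_rw [cs_eq]
  rw [Finset.sum_comm]
  have h2 : ∀ n : N, ∑ g : G, reg p f (g * n) = rs p f := fun n => by
    rw [rs_eq]
    exact Fintype.sum_equiv (Equiv.mulRight (n : G)) _ _ (fun g => rfl)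
  rw [Finset.sum_congr rfl (fun n _ => h2 n), Finset.sum_const, Finset.card_univ, nsmul_eq_mul,
      ← Nat.card_eq_fintype_card]

theorem cs_mul_right (N : Subgroup G) (f : G → ℂ) (g : G) {m : G} (hm : m ∈ N) :
    cs N p f (g * m) = cs N p f g := by
  classical
  letI := Fintype.ofFinite N
  rw [cs_eq, cs_eq]
  refine Fintype.sum_equiv (Equiv.mulLeft (⟨m, hm⟩ : N)) _ _ fun n => ?_
  simp [mul_assoc]

theorem cs_class (N : Subgroup G) [hN : N.Normal] {f : G → ℂ} (hf : IsClassFunction G f) :
    IsClassFunction G (cs N p f) := by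
  classical
  letI := Fintype.ofFinite N
  intro g x
  rw [cs_eq, cs_eq]
  let e : N ≃ N := (MulAut.conjNormal (x⁻¹ : G)).toEquiv
  refine Fintype.sum_equiv e _ _ fun n => ?_
  have he : ((e n : N) : G) = x⁻¹ * n * x := by
    have h5 := MulAut.conjNormal_apply (x⁻¹ : G) n
    rw [inv_inv] at h5
    exact h5
  have h3 : x * g * x⁻¹ * (n : G) = x * (g * (x⁻¹ * n * x)) * x⁻¹ := by group
  rw [he, h3, reg_class hf]

/-- multiplying by a function constant on the cosets -/
theorem cs_mul (N : Subgroup G) {f β : G → ℂ} (hβ : ∀ g : G, ∀ n ∈ N, β (g * n) = β g) (g : G) :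
    cs N p (fun x => β x * f x) g = β g * cs N p f g := by
  classical
  letI := Fintype.ofFinite N
  rw [cs_eq, cs_eq, Finset.mul_sum]
  refine Finset.sum_congr rfl fun n _ => ?_
  by_cases h : p ∣ orderOf (g * (n : G))
  · rw [reg_not h, reg_not h, mul_zero]
  · rw [reg_of h, reg_of h, hβ g n n.2]

theorem cs_ringHom (σ : ℂ →+* ℂ) (N : Subgroup G) (f : G → ℂ) (g : G) :
    cs N p (fun x => σ (f x)) g = σ (cs N p f g) := by
  classical
  letI := Fintype.ofFinite N
  rw [cs_eq, cs_eq, map_sum]
  refine Finset.sum_congr rfl fun n _ => ?_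
  by_cases h : p ∣ orderOf (g * (n : G))
  · rw [reg_not h, reg_not h, map_zero]
  · rw [reg_of h, reg_of h]

theorem cs_one (N : Subgroup G) (f : G → ℂ) : cs N p f 1 = rs p (fun n : N => f n) := by
  classical
  letI := Fintype.ofFinite N
  rw [cs_eq, rs_eq]
  refine Finset.sum_congr rfl fun n _ => ?_
  rw [one_mul]
  by_cases h : p ∣ orderOf (n : G)
  · rw [reg_not h, reg_not (by rwa [← Subgroup.orderOf_coe])]
  · rw [reg_of h, reg_of (by rwa [← Subgroup.orderOf_coe])]

/-- the average of an irreducible character over a normal subgroup outside of its kernel -/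
theorem inner_cs [Fintype G] (N : Subgroup G) {f : G → ℂ} {β : G → ℂ}
    (hβ : ∀ g : G, ∀ n ∈ N, β (g * n) = β g) :
    classInner (cs N p f) β = (Nat.card N : ℂ) * ((Nat.card G : ℂ)⁻¹ * rs p (fun g => conj (β g) * f g)) := by
  have h1 : ∀ g : G, cs N p f g * conj (β g) = cs N p (fun x => conj (β x) * f x) g := by
    intro g
    rw [cs_mul N (β := fun x => conj (β x)) (fun g n hn => by rw [hβ g n hn]), mul_comm]
  unfold classInner
  rw [Finset.sum_congr rfl (fun g _ => h1 g), sum_cs]
  ring

end coset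

end H83.ExtRat
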