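import Cfsg.Agent.Lib.H83.ExtRat
import Cfsg.Agent.Lib.H31.FunBasic

/-!
# Coset sums of characters in the principal block (S4892)
-/

set_option autoImplicit false
set_option linter.unusedSectionVars false
set_option linter.unusedVariables false
set_option linter.style.haveILetI false

open Cfsg H18.CharBasic H18.CharOrtho H18.CharQuot H20.Loc H20.GA H20.Blk H20.Orth
open scoped ComplexConjugate

universe u v

namespace H83.ExtRat

section cst

variable {K : Type u} [Group K] [Finite K] {M : Ideal AlgInt} {p : ℕ}

theorem isIrr_one {L : Type u} [Group L] : IsIrrCharacter L (fun _ => (1 : ℂ)) := by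
  have := isIrrCharacter_of_hom (1 : L →* ℂˣ)
  simpa using this

theorem cs_const [Fact p.Prime] (hM : IsPModular p M) (N : Subgroup K) [N.Normal]
    (hidx : ¬ p ∣ N.index) (P : Sylow p K)
    (hsup : N ⊔ Subgroup.centralizer ((P : Subgroup K) : Set K) = ⊤) {ψ : IrrCharacter K}
    (hψ : ψ ∈ principalBlock M K) (k : K) :
    cs N p (ψ : K → ℂ) k = cs N p (ψ : K → ℂ) 1 := by
  classical
  letI := Fintype.ofFinite K
  letI := Fintype.ofFinite (K ⧸ N)
  letI := Fintype.ofFinite N
  set F := cs N p (ψ : K → ℂ) with hF
  have hFN : ∀ g, ∀ n ∈ N, F (g * n) = F g := fun g n hn => cs_mul_right N _ g hn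
  have hFcl : IsClassFunction K F := cs_class N (isClassFunction_of_isIrr ψ.2)
  let D : K ⧸ N → ℂ := fun q => F q.out
  have hD : ∀ g : K, D (g : K ⧸ N) = F g := by
    intro g
    show F _ = _
    obtain ⟨n, hn⟩ := QuotientGroup.mk_out_eq_mul N g
    rw [hn]
    exact hFN g n n.2
  have hDcl : IsClassFunction (K ⧸ N) D := by
    intro q r
    obtain ⟨g, rfl⟩ := QuotientGroup.mk_surjective q
    obtain ⟨x, rfl⟩ := QuotientGroup.mk_surjective r
    rw [← QuotientGroup.mk_inv, ← QuotientGroup.mk_mul, ← QuotientGroup.mk_mul, hD, hD]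
    exact hFcl g x
  have hinn : ∀ β : K ⧸ N → ℂ, classInner D β = classInner F (fun g => β g) := by
    intro β
    unfold classInner
    have h1 := H31.FunBasic.sum_quotient N (fun q => D q * conj (β q))
    simp only [hD] at h1
    rw [h1, ← mul_assoc]
    congr 1
    have h2 : (Nat.card K : ℂ) = Nat.card (K ⧸ N) * Nat.card N := by
      rw [← Nat.cast_mul, ← Subgroup.card_eq_card_quotient_mul_card_subgroup]
    have h3 : (Nat.card N : ℂ) ≠ 0 := card_ne_zero'
    have h4 : (Nat.card (K ⧸ N) : ℂ) ≠ 0 := card_ne_zero'
    rw [h2]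
    field_simp
  obtain ⟨h1, h2⟩ := Cfsg.Agent.S4551.result p M hM N hidx P hsup
  obtain ⟨θ, hθ, hres⟩ := h1 ψ hψ
  have hresN : IsIrrCharacter N (fun n : N => (ψ : K → ℂ) n) := by
    have : (fun n : N => (ψ : K → ℂ) n) = θ := funext hres
    rw [this]
    exact θ.2
  let c := classInner D (fun _ => 1)
  have h0 : D - c • (fun _ => (1 : ℂ)) = 0 := by
    apply classFun_eq_zero (isClassFunction_sub hDcl (by intro g x; rfl))
    intro β hβ
    rw [H18.CharOrtho.inner_sub_left, H18.CharOrtho.inner_smul_left]
    by_cases hb : β = fun _ => 1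
    · subst hb
      rw [inner_irr_self isIrr_one, mul_one, sub_self]
    · rw [inner_irr_ne isIrr_one hβ (Ne.symm hb), mul_zero, sub_zero, hinn]
      have hβN : ∀ g : K, ∀ n ∈ N, β ((g * n : K) : K ⧸ N) = β (g : K ⧸ N) := by
        intro g n hn
        have h5 : ((g * n : K) : K ⧸ N) = (g : K ⧸ N) := by
          rw [QuotientGroup.mk_mul, (QuotientGroup.eq_one_iff n).2 hn, mul_one]
        rw [h5]
      rw [hF, inner_cs N (β := fun g => β g) hβN]
      have hβ' : IsIrrCharacter K (fun g : K => conj (β (g : K ⧸ N))) :=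
        isIrrCharacter_conj (isIrrCharacter_inflate N hβ)
      let η : IrrCharacter K := ⟨fun g => conj (β (g : K ⧸ N)) * (ψ : K → ℂ) g,
        H83.Gallagher.isIrr_mul ψ.2 N hresN hβ' (fun n hn => by
          have := hβN 1 n hn
          rw [one_mul] at this
          show conj _ = conj _
          rw [this])⟩
      have hη : η ∉ principalBlock M K := by
        intro hη
        obtain ⟨θ', hθ', hres'⟩ := h1 η hη
        have h6 : (θ' : N → ℂ) = conj (β ((1 : K) : K ⧸ N)) • (θ : N → ℂ) := by
          funext n
          rw [← hres' n]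
          show conj (β ((n : K) : K ⧸ N)) * (ψ : K → ℂ) n = _
          rw [hres, Pi.smul_apply, smul_eq_mul]
          have := hβN 1 n n.2
          rw [one_mul] at this
          rw [this]
        have h7 : θ' = θ := by
          by_contra hne
          have h8 : classInner (θ' : N → ℂ) (θ : N → ℂ) = 0 :=
            inner_irr_ne θ'.2 θ.2 (fun h => hne (Subtype.ext h))
          rw [h6, H18.CharOrtho.inner_smul_left, inner_irr_self θ.2, mul_one] at h8
          have h9 : β ((1 : K) : K ⧸ N) ≠ 0 := irr_one_ne_zero hβ
          exact h9 ((map_eq_zero _).1 h8)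
        rw [h7] at hres'
        have h8 : η = ψ := (h2 θ hθ).unique ⟨hη, hres'⟩ ⟨hψ, hres⟩
        apply hb
        have h9 : (fun g : K => conj (β (g : K ⧸ N))) = fun _ => 1 := by
          apply H83.Gallagher.mul_inj ψ.2 N hresN
          · intro g n hn
            show conj _ = conj _
            rw [hβN g n hn]
          · intro g n hn
            rfl
          · intro g
            rw [one_mul]
            exact congrFun (congrArg Subtype.val h8) g
        funext q
        obtain ⟨g, rfl⟩ := QuotientGroup.mk_surjective q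
        have h10 := congrFun h9 g
        have h11 := congrArg (starRingEnd ℂ) h10
        rwa [Complex.conj_conj, map_one] at h11
      have h12 : rs p (η : K → ℂ) = 0 := by
        by_contra h13
        exact hη ((crit hM η).2 h13)
      have h13 : rs p (fun g : K => conj (β (g : K ⧸ N)) * (ψ : K → ℂ) g) = 0 := h12
      rw [h13, mul_zero, mul_zero]
  have h3 : ∀ q, D q = c := by
    intro q
    have := congrFun h0 q
    simp only [Pi.sub_apply, Pi.smul_apply, smul_eq_mul, mul_one, Pi.zero_apply] at this
    exact sub_eq_zero.1 this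
  rw [← hD k, ← hD 1, h3, h3]

end cst

end H83.ExtRat
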