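import Cfsg.Agent.Lib.H83.ExtRat2
import Cfsg.Agent.Lib.H77.InvOver

/-!
# Extensions over p'-overgroups (S4892)
-/

set_option autoImplicit false
set_option linter.unusedSectionVars false
set_option linter.unusedVariables false
set_option linter.style.haveILetI false

open Cfsg H18.CharBasic H18.CharOrtho H18.CharQuot H20.Loc H20.GA H20.Blk H20.Orth
open scoped ComplexConjugate

universe u v

namespace H83.ExtRat

section grp

variable {G : Type u} [Group G] [Finite G] {p : ℕ} [Fact p.Prime]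

/-- the centralizer of the Sylow subgroup -/
def CQ {N : Subgroup G} (Q : Sylow p N) : Subgroup G :=
  Subgroup.centralizer (((Q : Subgroup N).map N.subtype : Subgroup G) : Set G)

theorem sup_normal (N : Subgroup G) [hN : N.Normal] (Q : Sylow p N) : (N ⊔ CQ Q).Normal := by
  rw [← Subgroup.normalizer_eq_top_iff, eq_top_iff, ← Sylow.normalizer_sup_eq_top Q]
  refine sup_le ?_ (le_sup_left.trans Subgroup.le_normalizer)
  intro x hx
  have hx' := Subgroup.mem_normalizer_iff.1 hx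
  have hxi := Subgroup.mem_normalizer_iff.1 (inv_mem hx)
  have key : ∀ y : G, y ∈ CQ Q → ∀ z : G, (∀ q : G, q ∈ (Q : Subgroup N).map N.subtype →
      z⁻¹ * q * z ∈ (Q : Subgroup N).map N.subtype) → z * y * z⁻¹ ∈ CQ Q := by
    intro y hy z hz
    rw [CQ, Subgroup.mem_centralizer_iff]
    intro q hq
    have h1 := (Subgroup.mem_centralizer_iff.1 hy) _ (hz q hq)
    calc q * (z * y * z⁻¹) = z * ((z⁻¹ * q * z) * y) * z⁻¹ := by group
      _ = z * (y * (z⁻¹ * q * z)) * z⁻¹ := by rw [h1]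
      _ = z * y * z⁻¹ * q := by group
  have h1 : ∀ z : G, (∀ q : G, q ∈ (Q : Subgroup N).map N.subtype →
      z⁻¹ * q * z ∈ (Q : Subgroup N).map N.subtype) → ∀ w ∈ N ⊔ CQ Q, z * w * z⁻¹ ∈ N ⊔ CQ Q := by
    intro z hz w hw
    have h2 : (N ⊔ CQ Q).map (MulAut.conj z).toMonoidHom ≤ N ⊔ CQ Q := by
      rw [Subgroup.map_sup]
      refine sup_le ?_ ?_
      · rintro _ ⟨n, hn, rfl⟩
        exact (le_sup_left : N ≤ N ⊔ CQ Q) (hN.conj_mem n hn z)
      · rintro _ ⟨c, hc, rfl⟩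
        exact (le_sup_right : CQ Q ≤ N ⊔ CQ Q) (key c hc z hz)
    exact h2 ⟨w, hw, rfl⟩
  rw [Subgroup.mem_normalizer_iff]
  intro w
  constructor
  · intro hw
    apply h1 x _ w hw
    intro q hq
    have := (hxi q).1 hq
    rwa [inv_inv] at this
  · intro hw
    have := h1 x⁻¹ (fun q hq => by rw [inv_inv]; exact (hx' q).1 hq) _ hw
    have h3 : x⁻¹ * (x * w * x⁻¹) * x⁻¹⁻¹ = w := by group
    rwa [h3] at this

theorem le_sup (N : Subgroup G) [hN : N.Normal] (Q : Sylow p N)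
    (hidx : ∃ a : ℕ, (N ⊔ CQ Q).index = p ^ a) (K : Subgroup G) (hNK : N ≤ K)
    (hK : ¬ p ∣ N.relIndex K) : K ≤ N ⊔ CQ Q := by
  obtain ⟨a, ha⟩ := hidx
  have hnorm := sup_normal N Q
  intro k hk
  have h1 : k ^ (p ^ a) ∈ N ⊔ CQ Q := by
    rw [← ha]
    exact Subgroup.pow_index_mem _ k
  have h2 : k ^ (N.relIndex K) ∈ N ⊔ CQ Q := by
    have h3 : (⟨k, hk⟩ : K) ^ (N.subgroupOf K).index ∈ N.subgroupOf K := Subgroup.pow_index_mem _ _
    have h4 := Subgroup.mem_subgroupOf.1 h3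
    exact (le_sup_left : N ≤ N ⊔ CQ Q) h4
  rw [← QuotientGroup.eq_one_iff] at h1 h2 ⊢
  rw [QuotientGroup.mk_pow] at h1 h2
  have hcop : Nat.Coprime (p ^ a) (N.relIndex K) :=
    Nat.Coprime.pow_left _ ((Nat.Prime.coprime_iff_not_dvd Fact.out).2 hK)
  have h5 := Nat.dvd_gcd (orderOf_dvd_of_pow_eq_one h1) (orderOf_dvd_of_pow_eq_one h2)
  rw [hcop] at h5
  exact orderOf_eq_one_iff.1 (Nat.dvd_one.1 h5)

theorem exists_sylow (N : Subgroup G) [hN : N.Normal] (Q : Sylow p N) (K : Subgroup G) (hNK : N ≤ K)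
    (hK : ¬ p ∣ N.relIndex K) : ∃ P : Sylow p K, (P : Subgroup K) =
      ((Q : Subgroup N).map N.subtype).subgroupOf K := by
  have h1 : IsPGroup p ↥(((Q : Subgroup N).map N.subtype).subgroupOf K) := by
    have h2 : IsPGroup p ↥((Q : Subgroup N).map N.subtype) := Q.isPGroup'.map _
    exact h2.comap_subtype
  have h3 : ¬ p ∣ (((Q : Subgroup N).map N.subtype).subgroupOf K).index := by
    have h4 : ((Q : Subgroup N).map N.subtype).relIndex N * N.relIndex K =
        ((Q : Subgroup N).map N.subtype).relIndex K :=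
      Subgroup.relIndex_mul_relIndex _ _ _ (Subgroup.map_subtype_le _) hNK
    have h5 : ((Q : Subgroup N).map N.subtype).relIndex N = (Q : Subgroup N).index := by
      rw [Subgroup.relIndex, Subgroup.subgroupOf, Subgroup.comap_map_eq_self_of_injective N.subtype_injective]
    show ¬ p ∣ ((Q : Subgroup N).map N.subtype).relIndex K
    rw [← h4, h5]
    intro h
    rcases (Nat.Prime.dvd_mul (Fact.out : p.Prime)).1 h with h | h
    · exact Q.not_dvd_index h
    · exact hK h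
  exact ⟨h1.toSylow h3, rfl⟩

theorem sup_centralizer_eq_top (N : Subgroup G) [hN : N.Normal] (Q : Sylow p N) (K : Subgroup G) (hNK : N ≤ K)
    (hKM : K ≤ N ⊔ CQ Q) : N.subgroupOf K ⊔
      Subgroup.centralizer ((((Q : Subgroup N).map N.subtype).subgroupOf K : Subgroup K) : Set K) = ⊤ := by
  rw [eq_top_iff]
  rintro k -
  have h1 := hKM k.2
  rw [Subgroup.mem_sup_of_normal_left] at h1
  obtain ⟨n, hn, c, hc, hnc⟩ := h1
  have hcK : c ∈ K := by
    have : c = n⁻¹ * k := by rw [← hnc]; group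
    rw [this]
    exact mul_mem (inv_mem (hNK hn)) k.2
  have h2 : k = (⟨n, hNK hn⟩ : K) * ⟨c, hcK⟩ := Subtype.ext hnc.symm
  rw [h2]
  apply mul_mem
  · exact (le_sup_left : N.subgroupOf K ≤ _) (Subgroup.mem_subgroupOf.2 hn)
  · apply (le_sup_right : _ ≤ N.subgroupOf K ⊔ _)
    rw [Subgroup.mem_centralizer_iff]
    intro q hq
    have h3 := (Subgroup.mem_centralizer_iff.1 hc) (q : G) hq
    exact Subtype.ext h3

end grp

section ext

variable {G : Type u} [Group G] [Finite G] {M : Ideal AlgInt} {p : ℕ} [Fact p.Prime]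

/-- Coset sums in a subgroup -/
theorem cs_sub (N K : Subgroup G) (hNK : N ≤ K) (f : G → ℂ) (k : K) :
    cs (N.subgroupOf K) p (fun x : K => f x) k = cs N p f k := by
  classical
  letI := Fintype.ofFinite N
  letI := Fintype.ofFinite (N.subgroupOf K)
  rw [cs_eq, cs_eq]
  refine Fintype.sum_equiv (Subgroup.subgroupOfEquivOfLe hNK).toEquiv _ _ fun n => ?_
  have h1 : (((Subgroup.subgroupOfEquivOfLe hNK).toEquiv n : N) : G) = ((n : K) : G) := rfl
  rw [h1]
  have h2 : orderOf (k * (n : K)) = orderOf ((k : G) * ((n : K) : G)) := by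
    rw [← Subgroup.orderOf_coe]
    rfl
  by_cases h : p ∣ orderOf ((k : G) * ((n : K) : G))
  · rw [reg_not h, reg_not (by rw [h2]; exact h)]
  · rw [reg_of h, reg_of (by rw [h2]; exact h)]
    rfl

theorem exists_sub (hM : IsPModular p M) (N : Subgroup G) [N.Normal] (θ : IrrCharacter N)
    (hθ : θ ∈ principalBlock M N) (Q : Sylow p N) (hidx : ∃ a : ℕ, (N ⊔ CQ Q).index = p ^ a)
    (K : Subgroup G) (hNK : N ≤ K) (hK : ¬ p ∣ N.relIndex K) :
    ∃ ψ : IrrCharacter K, ψ ∈ principalBlock M K ∧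
      (∀ n : N, (ψ : K → ℂ) ⟨n, hNK n.2⟩ = (θ : N → ℂ) n) ∧
      ∀ k : K, cs (N.subgroupOf K) p (ψ : K → ℂ) k = rs p (θ : N → ℂ) := by
  obtain ⟨P, hP⟩ := exists_sylow N Q K hNK hK
  have hsup := sup_centralizer_eq_top N Q K hNK (le_sup N Q hidx K hNK hK)
  rw [← hP] at hsup
  let e := Subgroup.subgroupOfEquivOfLe hNK
  let θ' : IrrCharacter (N.subgroupOf K) := ⟨fun g => (θ : N → ℂ) (e g), (isIrrCharacter_mulEquiv e).1 θ.2⟩
  have hθ' : θ' ∈ principalBlock M (N.subgroupOf K) := (principal_equiv hM e θ).2 hθ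
  obtain ⟨h1, h2⟩ := Cfsg.Agent.S4551.result p M hM (N.subgroupOf K) hK P hsup
  obtain ⟨ψ, ⟨hψ, hres⟩, -⟩ := h2 θ' hθ'
  refine ⟨ψ, hψ, fun n => ?_, fun k => ?_⟩
  · exact hres ⟨⟨n, hNK n.2⟩, Subgroup.mem_subgroupOf.2 n.2⟩
  · rw [cs_const hM (N.subgroupOf K) hK P hsup hψ k, cs_one]
    have h3 : (fun n : N.subgroupOf K => (ψ : K → ℂ) n) = fun g => (θ : N → ℂ) (e g) := funext hres
    rw [h3, rs_equiv]

theorem exists_lam (hM : IsPModular p M) (N : Subgroup G) [N.Normal] (θ : IrrCharacter N)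
    (hθ : θ ∈ principalBlock M N) (Q : Sylow p N) (hidx : ∃ a : ℕ, (N ⊔ CQ Q).index = p ^ a)
    (K : Subgroup G) (hNK : N ≤ K) (hK : ¬ p ∣ N.relIndex K) (χ : IrrCharacter G)
    (hχ : ∀ n : N, (χ : G → ℂ) n = (θ : N → ℂ) n) :
    ∃ lam : K →* ℂˣ, ∀ k : K, cs N p (χ : G → ℂ) k = lam k * rs p (θ : N → ℂ) := by
  obtain ⟨ψ, hψ, hres, hcs⟩ := exists_sub hM N θ hθ Q hidx K hNK hK
  let e := Subgroup.subgroupOfEquivOfLe hNK
  have hθ' : IsIrrCharacter (N.subgroupOf K) (fun g => (θ : N → ℂ) (e g)) :=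
    (isIrrCharacter_mulEquiv e).1 θ.2
  have hχK : IsIrrCharacter K (fun k : K => (χ : G → ℂ) k) := by
    apply H77.InvOver.irr_of_restrict (N.subgroupOf K).subtype
    · exact isCharacter_comp K.subtype (isCharacter_of_isIrr χ.2)
    · have : (fun x : N.subgroupOf K => (χ : G → ℂ) (((N.subgroupOf K).subtype x : K) : G)) =
          fun g => (θ : N → ℂ) (e g) := funext fun x => hχ (e x)
      show IsIrrCharacter _ (fun x : N.subgroupOf K => (χ : G → ℂ) (((N.subgroupOf K).subtype x : K) : G))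
      rw [this]
      exact hθ'
  obtain ⟨lam, hlam, h1⟩ := H18.DetChar.exists_linear_mul (N.subgroupOf K) hθ' ψ.2 hχK
    (fun n => hres (e n)) (fun n => hχ (e n))
  refine ⟨lam, fun k => ?_⟩
  rw [← cs_sub N K hNK, h1, cs_mul (N.subgroupOf K) (β := fun k => (lam k : ℂ))
    (fun g n hn => by rw [map_mul, hlam n hn, mul_one]), hcs]

end ext

end H83.ExtRat
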