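import Cfsg.Agent.Lib.H83.ExtRat3
import Cfsg.Agent.Lib.H20.BrT6

/-!
# The linear character correcting an extension (S4892)
-/

set_option autoImplicit false
set_option linter.unusedSectionVars false
set_option linter.unusedVariables false
set_option linter.style.haveILetI false

open Cfsg H18.CharBasic H18.CharOrtho H18.CharQuot H20.Loc H20.GA H20.Blk H20.Orth H20.BrT H84.Star
open scoped ComplexConjugate

universe u v

namespace H83.ExtRat

section lam

variable {G : Type u} [Group G] [Finite G] {M : Ideal AlgInt} {p : ℕ} [Fact p.Prime]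

theorem pr_mem_zpowers (g : G) : pr p g ∈ Subgroup.zpowers g := by
  have hp : p.Prime := Fact.out
  obtain ⟨h1, h2, ⟨k, hk⟩, h4⟩ := pr_spec hp g
  have hcop : Nat.Coprime (orderOf (pPt p g)) (orderOf (pr p g)) := by
    rw [hk]
    exact Nat.Coprime.pow_left _ ((Nat.Prime.coprime_iff_not_dvd hp).2 h4)
  obtain ⟨m, hm1, hm2⟩ := Nat.chineseRemainder hcop 0 1
  have h5 : g ^ m = pr p g := by
    conv_lhs => rw [← h1]
    rw [h2.mul_pow, pow_eq_pow_iff_modEq.2 hm1, pow_eq_pow_iff_modEq.2 hm2, pow_zero, pow_one, one_mul]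
  rw [← h5]
  exact Subgroup.npow_mem_zpowers g m

theorem rs_ne_zero (hM : IsPModular p M) {N : Subgroup G} {θ : IrrCharacter N}
    (hθ : θ ∈ principalBlock M N) : rs p (θ : N → ℂ) ≠ 0 := (crit hM θ).1 hθ

theorem relIndex_sup_ndvd (N T : Subgroup G) [N.Normal] (hT : ¬ p ∣ Nat.card T) :
    ¬ p ∣ N.relIndex (N ⊔ T) := by
  intro h
  apply hT
  have h1 : N.relIndex (N ⊔ T) = N.relIndex T := by
    rw [sup_comm, Subgroup.relIndex_sup_right]
  rw [h1] at h
  exact h.trans (Subgroup.relIndex_dvd_card N T)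

/-- linearity on a `p'`-subgroup -/
theorem lin_on (hM : IsPModular p M) (N : Subgroup G) [N.Normal] (θ : IrrCharacter N)
    (hθ : θ ∈ principalBlock M N) (Q : Sylow p N) (hidx : ∃ a : ℕ, (N ⊔ CQ Q).index = p ^ a)
    (χ : IrrCharacter G) (hχ : ∀ n : N, (χ : G → ℂ) n = (θ : N → ℂ) n) (T : Subgroup G)
    (hT : ¬ p ∣ Nat.card T) :
    ∃ lam : T →* ℂˣ, ∀ t : T, cs N p (χ : G → ℂ) t / rs p (θ : N → ℂ) = lam t := by
  obtain ⟨lam, h⟩ := exists_lam hM N θ hθ Q hidx (N ⊔ T) le_sup_left (relIndex_sup_ndvd N T hT) χ hχ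
  refine ⟨lam.comp (Subgroup.inclusion le_sup_right), fun t => ?_⟩
  have h1 := h (Subgroup.inclusion le_sup_right t)
  rw [Subgroup.coe_inclusion] at h1
  rw [h1, mul_div_cancel_right₀ _ (rs_ne_zero hM hθ)]
  rfl

theorem exists_Lam (hM : IsPModular p M) (N : Subgroup G) [N.Normal] (θ : IrrCharacter N)
    (hθ : θ ∈ principalBlock M N) (Q : Sylow p N) (hidx : ∃ a : ℕ, (N ⊔ CQ Q).index = p ^ a)
    (χ : IrrCharacter G) (hχ : ∀ n : N, (χ : G → ℂ) n = (θ : N → ℂ) n) :
    ∃ f : G →* ℂˣ, (∀ n ∈ N, f n = 1) ∧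
      ∀ g : G, ¬ p ∣ orderOf g → cs N p (χ : G → ℂ) g = f g * rs p (θ : N → ℂ) := by
  classical
  have hp : p.Prime := Fact.out
  letI := Fintype.ofFinite G
  set T := rs p (θ : N → ℂ) with hTdef
  have hT0 : T ≠ 0 := rs_ne_zero hM hθ
  set F : G → ℂ := fun g => cs N p (χ : G → ℂ) (pr p g) / T with hF
  have hcl : IsClassFunction G F := by
    intro g h
    show cs N p (χ : G → ℂ) (pr p (h * g * h⁻¹)) / T = _
    rw [pr_conj hp, cs_class N (isClassFunction_of_isIrr χ.2)]
  have hgen : IsGeneralizedCharacter G F := by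
    apply isGen_of_linear hcl
    intro E _ q hq hE lam
    obtain ⟨Q', T', hQE, hTE, hQ, hT, hc, hbij⟩ := exists_QT (p := p) hq hE
    have := Fintype.ofFinite Q'
    have := Fintype.ofFinite T'
    set lamQ : Q' →* ℂˣ := lam.comp (Subgroup.inclusion hQE) with hlQ
    set lamT : T' →* ℂˣ := lam.comp (Subgroup.inclusion hTE) with hlT
    obtain ⟨mu, hmu⟩ := lin_on hM N θ hθ Q hidx χ hχ T' hT
    obtain ⟨n, hn⟩ := inner_gen_intCast (G := Q') (isGen_of_isIrr (isIrrCharacter_of_hom (1 : Q' →* ℂˣ)))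
      (isGen_of_isIrr (isIrrCharacter_of_hom lamQ))
    obtain ⟨n', hn'⟩ := inner_gen_intCast (G := T') (isGen_of_isIrr (isIrrCharacter_of_hom mu))
      (isGen_of_isIrr (isIrrCharacter_of_hom lamT))
    refine ⟨n * n', ?_⟩
    push_cast
    rw [← hn, ← hn']
    have hcard : Nat.card E = Nat.card Q' * Nat.card T' := by
      rw [← Nat.card_prod]
      exact (Nat.card_congr (Equiv.ofBijective _ hbij)).symm
    unfold classInner
    rw [← (Equiv.ofBijective _ hbij).sum_comp, Fintype.sum_prod_type, hcard, Nat.cast_mul, mul_inv]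
    have key : ∀ (x : Q') (y : T'), F ((Equiv.ofBijective _ hbij (x, y) : E) : G) *
        conj ((lam (Equiv.ofBijective _ hbij (x, y)) : ℂˣ) : ℂ) =
        (((1 : Q' →* ℂˣ) x : ℂ) * conj ((lamQ x : ℂˣ) : ℂ)) * ((mu y : ℂ) * conj ((lamT y : ℂˣ) : ℂ)) := by
      intro x y
      have h1 : lam (Equiv.ofBijective _ hbij (x, y)) = lamQ x * lamT y := by
        rw [hlQ, hlT, MonoidHom.comp_apply, MonoidHom.comp_apply, ← map_mul]
        rfl
      have h2 : pr p ((Equiv.ofBijective _ hbij (x, y) : E) : G) = y := by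
        obtain ⟨y', e1, e2, e3, e4⟩ := isPPart_mul hQ hp hT hc x.2 y.2
        have e5 : y' = y := mul_left_cancel e1
        subst e5
        exact pr_eq hp e1 e2 e3 e4
      have h3 : F ((Equiv.ofBijective _ hbij (x, y) : E) : G) = mu y := by
        show cs N p (χ : G → ℂ) (pr p _) / T = _
        rw [h2]
        exact hmu y
      rw [h1, h3, Units.val_mul, map_mul, MonoidHom.one_apply, Units.val_one]
      ring
    simp_rw [key]
    rw [← Finset.sum_mul_sum]
    ring
  -- absolute value one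
  have habs : ∀ g : G, F g * conj (F g) = 1 := by
    intro g
    have h1 : ¬ p ∣ Nat.card (Subgroup.zpowers (pr p g)) := by
      rw [Nat.card_zpowers]
      exact pr_reg hp g
    obtain ⟨mu, hmu⟩ := lin_on hM N θ hθ Q hidx χ hχ (Subgroup.zpowers (pr p g)) h1
    have h2 : F g = mu ⟨pr p g, Subgroup.mem_zpowers _⟩ := hmu ⟨pr p g, Subgroup.mem_zpowers _⟩
    rw [h2, Complex.mul_conj, Complex.normSq_eq_norm_sq, hom_norm_one]
    norm_num
  have hnorm : classInner F F = 1 := by
    unfold classInner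
    rw [Finset.sum_congr rfl (fun g _ => habs g), Finset.sum_const, Finset.card_univ, nsmul_eq_mul,
      mul_one, ← Nat.card_eq_fintype_card, inv_mul_cancel₀ card_ne_zero']
  have hF1 : F 1 = 1 := by
    show cs N p (χ : G → ℂ) (pr p 1) / T = 1
    rw [pr_one hp, cs_one]
    have : (fun n : N => (χ : G → ℂ) n) = θ := funext hχ
    rw [this, ← hTdef, div_self hT0]
  have hirr : IsIrrCharacter G F := isIrr_of_gen_norm_one hgen hnorm (by rw [hF1]; norm_num)
  obtain ⟨f, hf⟩ := exists_hom_of_degree_one (isCharacter_of_isIrr hirr) hF1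
  refine ⟨f, fun n hn => ?_, fun g hg => ?_⟩
  · have h1 : F n = 1 := by
      show cs N p (χ : G → ℂ) (pr p n) / T = 1
      have h2 : pr p n ∈ N := (Subgroup.zpowers_le.2 hn) (pr_mem_zpowers n)
      have h3 := cs_mul_right (p := p) N (χ : G → ℂ) 1 h2
      rw [one_mul] at h3
      rw [h3, ← pr_one (G := G) hp]
      exact hF1
    rw [hf] at h1
    exact Units.ext h1
  · have h1 : F g = (f g : ℂ) := congrFun hf g
    rw [← h1]
    show _ = cs N p (χ : G → ℂ) (pr p g) / T * T
    rw [pr_of_reg hp hg, div_mul_cancel₀ _ hT0]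

end lam

end H83.ExtRat
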