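import Cfsg.Agent.Lib.H83.ExtRat4
import Cfsg.Agent.Lib.H77.Canon
import Cfsg.Agent.Lib.H84.FixField
import Cfsg.Agent.S0888

/-!
# p-rational extensions in the principal block (S4892)
-/

set_option autoImplicit false
set_option linter.unusedSectionVars false
set_option linter.unusedVariables false
set_option linter.style.haveILetI false

open Cfsg H18.CharBasic H18.CharOrtho H18.CharQuot H20.Loc H20.GA H20.Blk H20.Orth
open scoped ComplexConjugate

universe u v

namespace H83.ExtRat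

section rat

variable {G : Type u} [Group G] [Finite G] {p : ℕ} [Fact p.Prime]

/-- the root of unity -/
noncomputable def zt (m : ℕ) : ℂ := Complex.exp (2 * Real.pi * Complex.I / m)

theorem zt_pow {m : ℕ} (hm : m ≠ 0) : zt m ^ m = 1 := (Complex.isPrimitiveRoot_exp m hm).pow_eq_one

theorem fix_roots {m : ℕ} (hm : m ≠ 0) (σ : ℂ ≃+* ℂ) (h : σ (zt m) = zt m) (z : ℂ) (hz : z ^ m = 1) :
    σ z = z := by
  have : NeZero m := ⟨hm⟩
  obtain ⟨i, _, rfl⟩ := (Complex.isPrimitiveRoot_exp m hm).eq_pow_of_pow_eq_one hz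
  rw [map_pow]
  congr 1

theorem fix_values {m0 m : ℕ} (hm0 : m0 ≠ 0) (hdvd : m0 ∣ m) (hm : m ≠ 0) (σ : ℂ ≃+* ℂ)
    (h : ∀ z : ℂ, z ^ m = 1 → σ z = z) {x : ℂ} (hx : x ∈ IntermediateField.adjoin ℚ ({zt m0} : Set ℂ)) :
    σ x = x := by
  apply H84.FixField.fix_adjoin σ _ x hx
  rintro z rfl
  apply h
  obtain ⟨c, rfl⟩ := hdvd
  rw [pow_mul, zt_pow hm0, one_pow]

/-- a `p`-rational character (`p` odd) has determinantal order prime to `p` -/
theorem detOrder_ndvd (hp2 : p ≠ 2) {χ : G → ℂ} (hχ : IsCharacter G χ) {m0 : ℕ} (hm0 : ¬ p ∣ m0)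
    (hv : ∀ g : G, χ g ∈ IntermediateField.adjoin ℚ ({zt m0} : Set ℂ)) : ¬ p ∣ detOrder χ := by
  have hp : p.Prime := Fact.out
  have hG : Nat.card G ≠ 0 := Nat.card_pos.ne'
  have hm00 : m0 ≠ 0 := by rintro rfl; exact hm0 (dvd_zero p)
  intro hdvd
  have hdG : detOrder χ ∣ Nat.card G := H77.Canon.detOrder_dvd_card hχ
  set a := (Nat.card G).factorization p with ha
  set m := Nat.card G / p ^ a with hm
  have hm' : ¬ p ∣ m := Nat.not_dvd_ordCompl hp hG
  have hmul : p ^ a * m = Nat.card G := Nat.ordProj_mul_ordCompl_eq_self _ _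
  have hm0' : m ≠ 0 := fun h => hm' (h ▸ dvd_zero p)
  have ha0 : a ≠ 0 := by
    intro h
    apply hm'
    rw [hm, h, pow_zero, Nat.div_one]
    exact hdvd.trans hdG
  have hpm : ¬ p ∣ m0 * m := by
    intro h
    rcases (Nat.Prime.dvd_mul hp).1 h with h | h
    · exact hm0 h
    · exact hm' h
  have hcop : Nat.Coprime (p ^ a) (m0 * m) := Nat.Coprime.pow_left _ ((Nat.Prime.coprime_iff_not_dvd hp).2 hpm)
  obtain ⟨k, hk1, hk2⟩ := Nat.chineseRemainder hcop 2 1
  have hkp : Nat.Coprime k (p ^ a) := by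
    apply Nat.Coprime.pow_right
    rw [Nat.coprime_comm, Nat.Prime.coprime_iff_not_dvd hp]
    intro h
    have h1 : k ≡ 2 [MOD p] := hk1.of_dvd (dvd_pow_self p ha0)
    have h2 : p ∣ 2 := (h1.dvd_iff (dvd_refl p)).1 h
    exact hp2 ((Nat.prime_dvd_prime_iff_eq hp Nat.prime_two).1 h2)
  have hkm : Nat.Coprime k (m0 * m) := by
    rw [Nat.Coprime, hk2.gcd_eq, Nat.gcd_one_left]
  obtain ⟨σ, hσ⟩ := H78.Galois.exists_ringEquiv (n := p ^ a * (m0 * m)) (k := k)
    (mul_ne_zero (pow_ne_zero _ hp.ne_zero) (mul_ne_zero hm00 hm0')) (Nat.Coprime.mul_right hkp hkm)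
  have hfix : ∀ z : ℂ, z ^ (m0 * m) = 1 → σ z = z := by
    intro z hz
    rw [hσ z (by rw [mul_comm, pow_mul, hz, one_pow])]
    have h1 : z ^ k = z ^ 1 := by
      have h2 : orderOf z ∣ m0 * m := orderOf_dvd_of_pow_eq_one hz
      rw [← pow_mod_orderOf, ← pow_mod_orderOf z 1, hk2.of_dvd h2]
    rw [h1, pow_one]
  have hχσ : (fun g => σ.toRingHom (χ g)) = χ :=
    funext fun g => fix_values hm00 (dvd_mul_right _ _) (mul_ne_zero hm00 hm0') σ hfix (hv g)
  have hdet : ∀ g : G, detChar χ g ^ k = detChar χ g := by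
    intro g
    have h1 := H77.Canon.detChar_ringHom σ.toRingHom hχ g
    rw [hχσ] at h1
    obtain ⟨f, hf⟩ := H18.DetChar.exists_detHom hχ
    have h2 : detChar χ g ^ (p ^ a * (m0 * m)) = 1 := by
      rw [hf]
      simp only
      rw [← Units.val_pow_eq_pow_val, ← map_pow]
      have : g ^ (p ^ a * (m0 * m)) = 1 := by
        have : p ^ a * (m0 * m) = Nat.card G * m0 := by rw [← hmul]; ring
        rw [this, pow_mul, pow_card_eq_one', one_pow]
      rw [this, map_one, Units.val_one]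
    have h3 := hσ _ h2
    rw [← h3]
    exact h1.symm
  have h5 : detChar χ ^ k = detChar χ ^ 1 := by
    rw [pow_one]
    exact funext hdet
  have hfin : IsOfFinOrder (detChar χ) := by
    rw [← orderOf_pos_iff]
    exact Nat.pos_of_dvd_of_pos hdG (Nat.pos_of_ne_zero hG)
  have hne : ∀ g, detChar χ g ≠ 0 := by
    intro g
    obtain ⟨f, hf⟩ := H18.DetChar.exists_detHom hχ
    rw [hf]
    exact (f g).ne_zero
  obtain ⟨f, hf⟩ := H18.DetChar.exists_detHom hχ
  have hof : detOrder χ = orderOf f := by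
    rw [detOrder, hf, H18.LinExt.orderOf_coe]
  have h6 : f ^ k = f ^ 1 := by
    rw [pow_one]
    ext g
    have := hdet g
    rw [hf] at this
    exact this
  have h7 : k ≡ 1 [MOD orderOf f] := (pow_eq_pow_iff_modEq (x := f)).1 h6
  rw [← hof] at h7
  have h8 : k ≡ 1 [MOD p] := h7.of_dvd hdvd
  have h9 : k ≡ 2 [MOD p] := hk1.of_dvd (dvd_pow_self p ha0)
  have h10 : 1 ≡ 2 [MOD p] := h8.symm.trans h9
  have h11 : p ∣ 2 - 1 := (Nat.modEq_iff_dvd' (by norm_num)).1 h10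
  exact hp.one_lt.ne' (Nat.dvd_one.1 h11)

end rat

section ext

variable {G : Type u} [Group G] [Finite G] {M : Ideal AlgInt} {p : ℕ} [Fact p.Prime]

theorem exists_over (N : Subgroup G) [N.Normal] (q : ℕ) [Fact q.Prime] :
    ∃ K : Subgroup G, N ≤ K ∧ Nat.Coprime K.index q ∧ ∃ k : ℕ, N.relIndex K = q ^ k := by
  obtain ⟨S⟩ : Nonempty (Sylow q (G ⧸ N)) := inferInstance
  refine ⟨(S : Subgroup (G ⧸ N)).comap (QuotientGroup.mk' N), ?_, ?_, ?_⟩
  · intro n hn
    show (n : G ⧸ N) ∈ (S : Subgroup (G ⧸ N))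
    rw [(QuotientGroup.eq_one_iff n).2 hn]
    exact one_mem _
  · rw [Subgroup.index_comap_of_surjective _ (QuotientGroup.mk'_surjective N), Nat.coprime_comm,
      Nat.Prime.coprime_iff_not_dvd Fact.out]
    exact S.not_dvd_index
  · have hle : N ≤ (S : Subgroup (G ⧸ N)).comap (QuotientGroup.mk' N) := by
      intro n hn
      show (n : G ⧸ N) ∈ (S : Subgroup (G ⧸ N))
      rw [(QuotientGroup.eq_one_iff n).2 hn]
      exact one_mem _
    have h1 := Subgroup.relIndex_mul_index hle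
    rw [Subgroup.index_comap_of_surjective _ (QuotientGroup.mk'_surjective N)] at h1
    have h2 : Nat.card (S : Subgroup (G ⧸ N)) * (S : Subgroup (G ⧸ N)).index = N.index :=
      (S : Subgroup (G ⧸ N)).card_mul_index
    rw [← h2] at h1
    have h3 := Nat.eq_of_mul_eq_mul_right (Nat.pos_of_ne_zero Subgroup.index_ne_zero_of_finite) h1
    obtain ⟨k, hk⟩ := IsPGroup.iff_card.1 S.isPGroup'
    exact ⟨k, h3.trans hk⟩

theorem exists_ext (hp2 : p ≠ 2) (hM : IsPModular p M) (N : Subgroup G) [hN : N.Normal] (θ : IrrCharacter N)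
    (hinv : ∀ g : G, ∀ n n' : ↥N, (n' : G) = g * (n : G) * g⁻¹ → (θ : ↥N → ℂ) n' = (θ : ↥N → ℂ) n)
    (hdeg : ¬ p ∣ charDegree (θ : ↥N → ℂ)) {m0 : ℕ} (hm0 : ¬ p ∣ m0)
    (hv : ∀ n : N, (θ : N → ℂ) n ∈ IntermediateField.adjoin ℚ ({zt m0} : Set ℂ))
    (hθ : θ ∈ principalBlock M N) (Q : Sylow p N) (hidx : ∃ a : ℕ, (N ⊔ CQ Q).index = p ^ a) :
    ∃ χ : IrrCharacter G, ∀ n : N, (χ : G → ℂ) n = (θ : N → ℂ) n := by
  have hp : p.Prime := Fact.out
  have hext := Cfsg.Agent.S0888.result N (θ : N → ℂ) θ.2 (fun g n => hinv g n _ rfl) (by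
    intro q hq
    have : Fact q.Prime := ⟨hq⟩
    obtain ⟨K, hNK, hKi, k, hk⟩ := exists_over N q
    by_cases hqp : q = p
    · subst hqp
      let e := Subgroup.subgroupOfEquivOfLe hNK
      have hθ' : IsIrrCharacter (N.subgroupOf K) (fun g => (θ : N → ℂ) (e g)) :=
        (isIrrCharacter_mulEquiv e).1 θ.2
      have hd : ¬ q ∣ detOrder (fun g => (θ : N → ℂ) (e g)) :=
        detOrder_ndvd hp2 (isCharacter_of_isIrr hθ') hm0 (fun g => hv (e g))
      obtain ⟨η, ⟨h1, h2, -⟩, -⟩ := Cfsg.Agent.S0867.result (N.subgroupOf K) (fun g => (θ : N → ℂ) (e g)) hθ'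
        (fun g n => hinv g _ _ rfl) (charDegree (θ : N → ℂ)) (by
          show (θ : N → ℂ) (e 1) = _
          rw [map_one]
          exact (H77.PQuot.cast_irr θ).symm) (by
          have h3 : (N.subgroupOf K).index = q ^ k := hk
          rw [h3]
          apply Nat.Coprime.pow_left
          rw [Nat.Prime.coprime_iff_not_dvd hq]
          intro h
          rcases (Nat.Prime.dvd_mul hq).1 h with h | h
          · exact hd h
          · exact hdeg h)
      exact ⟨K, hNK, η, hKi, ⟨k, hk⟩, h1, fun n => h2 ⟨⟨n, hNK n.2⟩, Subgroup.mem_subgroupOf.2 n.2⟩⟩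
    · obtain ⟨ψ, hψ, hres, -⟩ := exists_sub hM N θ hθ Q hidx K hNK (by
        rw [hk]
        intro h
        exact hqp ((Nat.prime_dvd_prime_iff_eq hp hq).1 (hp.dvd_of_dvd_pow h)).symm)
      exact ⟨K, hNK, ψ, hKi, ⟨k, hk⟩, ψ.2, hres⟩)
  obtain ⟨χ, h1, h2⟩ := hext
  exact ⟨⟨χ, h1⟩, h2⟩

end ext

end H83.ExtRat
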