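import Cfsg.Agent.Lib.H83.ExtRat5

/-!
# p-rational extensions in the principal block: the main theorem (S4892)
-/

set_option autoImplicit false
set_option linter.unusedSectionVars false
set_option linter.unusedVariables false
set_option linter.style.haveILetI false

open Cfsg H18.CharBasic H18.CharOrtho H18.CharQuot H20.Loc H20.GA H20.Blk H20.Orth
open scoped ComplexConjugate

universe u v

namespace H83.ExtRat

section main

variable {G : Type u} [Group G] [Finite G] {M : Ideal AlgInt} {p : ℕ} [Fact p.Prime]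

/-- all coset sums over the `p`-regular cosets are equal to `T` -/
def Good (N : Subgroup G) (p : ℕ) (T : ℂ) (χ : G → ℂ) : Prop :=
  ∀ g : G, ¬ p ∣ orderOf g → cs N p χ g = T

theorem mem_of_good (hM : IsPModular p M) (N : Subgroup G) {T : ℂ} (hT : T ≠ 0) {χ : IrrCharacter G}
    (hg : Good N p T (χ : G → ℂ)) : χ ∈ principalBlock M G := by
  classical
  letI := Fintype.ofFinite G
  letI := Fintype.ofFinite N
  rw [crit hM]
  intro h0
  have h1 := sum_cs N (χ : G → ℂ) (p := p)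
  rw [h0, mul_zero] at h1
  have h2 : ∀ g : G, cs N p (χ : G → ℂ) g = if (∃ n ∈ N, ¬ p ∣ orderOf (g * n)) then T else 0 := by
    intro g
    split_ifs with h
    · obtain ⟨n, hn, h3⟩ := h
      rw [← cs_mul_right N _ g hn, hg _ h3]
    · push Not at h
      rw [cs_eq]
      exact Finset.sum_eq_zero fun n _ => reg_not (h n n.2)
  simp_rw [h2] at h1
  rw [← Finset.sum_filter, Finset.sum_const, nsmul_eq_mul] at h1
  rcases mul_eq_zero.1 h1 with h3 | h3
  · have h4 : (1 : G) ∈ Finset.filter (fun g : G => ∃ n ∈ N, ¬ p ∣ orderOf (g * n)) Finset.univ := by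
      rw [Finset.mem_filter]
      refine ⟨Finset.mem_univ _, 1, one_mem _, ?_⟩
      rw [one_mul, orderOf_one]
      exact (Fact.out : p.Prime).not_dvd_one
    have h5 : (Finset.filter (fun g : G => ∃ n ∈ N, ¬ p ∣ orderOf (g * n)) Finset.univ).card = 0 := by
      exact_mod_cast h3
    rw [Finset.card_eq_zero] at h5
    rw [h5] at h4
    exact absurd h4 (Finset.notMem_empty _)
  · exact hT h3

theorem good_mul (N : Subgroup G) {T : ℂ} {χ : G → ℂ} (hg : Good N p T χ) (ν : G →* ℂˣ)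
    (hN : ∀ n ∈ N, ν n = 1) (hν : ∀ g : G, ¬ p ∣ orderOf g → ν g = 1) :
    Good N p T (fun g => (ν g : ℂ) * χ g) := by
  intro g h
  rw [cs_mul N (β := fun g => (ν g : ℂ)) (fun g n hn => by rw [map_mul, hN n hn, mul_one]), hν g h,
    Units.val_one, one_mul, hg g h]

theorem exists_good (hM : IsPModular p M) (N : Subgroup G) [hN : N.Normal] (θ : IrrCharacter N)
    (hθ : θ ∈ principalBlock M N) (Q : Sylow p N) (hidx : ∃ a : ℕ, (N ⊔ CQ Q).index = p ^ a)
    (χ : IrrCharacter G) (hχ : ∀ n : N, (χ : G → ℂ) n = (θ : N → ℂ) n) :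
    ∃ χ₁ : IrrCharacter G, (∀ n : N, (χ₁ : G → ℂ) n = (θ : N → ℂ) n) ∧
      Good N p (rs p (θ : N → ℂ)) (χ₁ : G → ℂ) := by
  obtain ⟨f, hfN, hf⟩ := exists_Lam hM N θ hθ Q hidx χ hχ
  refine ⟨⟨fun g => ((f⁻¹ : G →* ℂˣ) g : ℂ) * (χ : G → ℂ) g, isIrrCharacter_hom_mul f⁻¹ χ.2⟩, ?_, ?_⟩
  · intro n
    show ((f⁻¹ : G →* ℂˣ) n : ℂ) * (χ : G → ℂ) n = _
    rw [MonoidHom.inv_apply, hfN n n.2, inv_one, Units.val_one, one_mul, hχ]
  · intro g hg
    show cs N p (fun g => ((f⁻¹ : G →* ℂˣ) g : ℂ) * (χ : G → ℂ) g) g = _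
    rw [cs_mul N (β := fun g => ((f⁻¹ : G →* ℂˣ) g : ℂ)) (fun g n hn => by
      rw [map_mul, MonoidHom.inv_apply, MonoidHom.inv_apply, hfN n hn, inv_one, mul_one]), hf g hg,
      MonoidHom.inv_apply, ← mul_assoc, Units.inv_mul, one_mul]

theorem regular_pow_eq_one (g : G) (hg : ¬ p ∣ orderOf g) :
    g ^ (Nat.card G / p ^ (Nat.card G).factorization p) = 1 := by
  have hp : p.Prime := Fact.out
  have hG : Nat.card G ≠ 0 := Nat.card_pos.ne'
  have hmul := Nat.ordProj_mul_ordCompl_eq_self (Nat.card G) p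
  rw [← orderOf_dvd_iff_pow_eq_one]
  have h2 : orderOf g ∣ p ^ (Nat.card G).factorization p * (Nat.card G / p ^ (Nat.card G).factorization p) := by
    rw [hmul]; exact orderOf_dvd_natCard g
  exact (Nat.Coprime.pow_right _ ((Nat.Prime.coprime_iff_not_dvd hp).2 hg).symm).dvd_of_dvd_mul_left h2

/-- adjusting the determinant -/
theorem exists_det (N : Subgroup G) [hN : N.Normal] (θ : IrrCharacter N)
    (hdeg : ¬ p ∣ charDegree (θ : ↥N → ℂ)) (hdet : ¬ p ∣ detOrder (θ : N → ℂ)) {T : ℂ} (χ : IrrCharacter G)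
    (hχ : ∀ n : N, (χ : G → ℂ) n = (θ : N → ℂ) n) (hg : Good N p T (χ : G → ℂ)) :
    ∃ χ₁ : IrrCharacter G, (∀ n : N, (χ₁ : G → ℂ) n = (θ : N → ℂ) n) ∧
      Good N p T (χ₁ : G → ℂ) ∧
      ∀ g : G, detChar (χ₁ : G → ℂ) g ^ (Nat.card G / p ^ (Nat.card G).factorization p) = 1 := by
  have hp : p.Prime := Fact.out
  have hG : Nat.card G ≠ 0 := Nat.card_pos.ne'
  set a := (Nat.card G).factorization p with ha
  set m := Nat.card G / p ^ a with hm
  have hm' : ¬ p ∣ m := Nat.not_dvd_ordCompl hp hG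
  have hmul : p ^ a * m = Nat.card G := Nat.ordProj_mul_ordCompl_eq_self _ _
  set d := charDegree (θ : N → ℂ) with hd
  have hcop : Nat.Coprime (m * d) (p ^ a) := by
    apply Nat.Coprime.pow_right
    rw [Nat.coprime_comm, Nat.Prime.coprime_iff_not_dvd hp]
    intro h
    rcases (Nat.Prime.dvd_mul hp).1 h with h | h
    · exact hm' h
    · exact hdeg h
  -- t with m * d * t ≡ -1
  obtain ⟨t, ht⟩ : ∃ t : ℕ, p ^ a ∣ m * d * t + 1 := by
    have h0 : 0 < p ^ a := pow_pos hp.pos _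
    obtain ⟨t, ht⟩ := Nat.exists_mul_mod_eq_of_coprime (p ^ a - 1) hcop h0.ne'
    refine ⟨t, ?_⟩
    rw [Nat.dvd_iff_mod_eq_zero, Nat.add_mod, ht.2, ← Nat.add_mod]
    rw [Nat.sub_add_cancel h0, Nat.mod_self]
  obtain ⟨δ, hδ⟩ := H18.DetChar.exists_detHom (isCharacter_of_isIrr χ.2)
  have hδN : ∀ n : N, δ n ^ m = 1 := by
    intro n
    have h1 := H18.DetChar.detChar_comp N.subtype (isCharacter_of_isIrr χ.2) n
    have h2 : (fun y : N => (χ : G → ℂ) (N.subtype y)) = θ := funext hχ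
    rw [h2, hδ] at h1
    have h3 : detOrder (θ : N → ℂ) ∣ m := by
      have h4 : detOrder (θ : N → ℂ) ∣ p ^ a * m := by
        rw [hmul]
        exact (H77.Canon.detOrder_dvd_card (isCharacter_of_isIrr θ.2)).trans (Subgroup.card_subgroup_dvd_card N)
      exact (Nat.Coprime.pow_right _ ((Nat.Prime.coprime_iff_not_dvd hp).2 hdet).symm).dvd_of_dvd_mul_left h4
    have h5 : detChar (θ : N → ℂ) ^ m = 1 := orderOf_dvd_iff_pow_eq_one.1 h3
    have h6 : detChar (θ : N → ℂ) n ^ m = 1 := congrFun h5 n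
    rw [h1] at h6
    exact Units.ext (by rw [Units.val_pow_eq_pow_val]; exact h6)
  have hpw : ∀ (k : ℕ) (g : G), (δ ^ k) g = δ g ^ k := fun k g => MonoidHom.pow_apply _ _ _
  refine ⟨⟨fun g => ((δ ^ (m * t)) g : ℂ) * (χ : G → ℂ) g, isIrrCharacter_hom_mul _ χ.2⟩, ?_, ?_, ?_⟩
  · intro n
    show ((δ ^ (m * t)) n : ℂ) * (χ : G → ℂ) n = _
    rw [hpw, pow_mul, hδN, one_pow, Units.val_one, one_mul, hχ]
  · apply good_mul N hg
    · intro n hn
      rw [hpw, pow_mul, hδN ⟨n, hn⟩, one_pow]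
    · intro g hg
      rw [hpw, ← map_pow, pow_mul, regular_pow_eq_one g hg, one_pow, map_one]
  · intro g
    show detChar (fun g => ((δ ^ (m * t)) g : ℂ) * (χ : G → ℂ) g) g ^ m = 1
    rw [H18.DetChar.detChar_hom_mul _ (isCharacter_of_isIrr χ.2) (d := d) (by
      have h1 := hχ 1
      rw [hd, H77.PQuot.cast_irr θ]
      exact h1), hδ]
    simp only
    rw [hpw, ← Units.val_pow_eq_pow_val, ← Units.val_mul, ← Units.val_pow_eq_pow_val, ← pow_mul, ← pow_succ,
      ← pow_mul]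
    obtain ⟨c, hc⟩ := ht
    have h1 : (m * t * d + 1) * m = Nat.card G * c := by
      have : m * t * d + 1 = m * d * t + 1 := by ring
      rw [this, hc, ← hmul]
      ring
    rw [h1, pow_mul, ← map_pow, pow_card_eq_one', map_one, one_pow, Units.val_one]

/-- The main theorem -/
theorem main (hp2 : p ≠ 2) (hM : IsPModular p M) (N : Subgroup G) [hN : N.Normal] (θ : IrrCharacter N)
    (hinv : ∀ g : G, ∀ n n' : ↥N, (n' : G) = g * (n : G) * g⁻¹ → (θ : ↥N → ℂ) n' = (θ : ↥N → ℂ) n)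
    (hdeg : ¬ p ∣ charDegree (θ : ↥N → ℂ)) {m0 : ℕ} (hm0 : ¬ p ∣ m0)
    (hv : ∀ n : N, (θ : N → ℂ) n ∈ IntermediateField.adjoin ℚ ({zt m0} : Set ℂ))
    (hθ : θ ∈ principalBlock M N) (Q : Sylow p N) (hidx : ∃ a : ℕ, (N ⊔ CQ Q).index = p ^ a) :
    ∃ χ : IrrCharacter G, χ ∈ principalBlock M G ∧
      (∃ n : ℕ, ¬ p ∣ n ∧ ∀ g : G, (χ : G → ℂ) g ∈ IntermediateField.adjoin ℚ ({zt n} : Set ℂ)) ∧
      ∀ n : N, (χ : G → ℂ) n = (θ : N → ℂ) n := by
  have hp : p.Prime := Fact.out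
  have hG : Nat.card G ≠ 0 := Nat.card_pos.ne'
  obtain ⟨χ₀, hχ₀⟩ := exists_ext hp2 hM N θ hinv hdeg hm0 hv hθ Q hidx
  obtain ⟨χ₁, hχ₁, hg₁⟩ := exists_good hM N θ hθ Q hidx χ₀ hχ₀
  have hdet := detOrder_ndvd hp2 (isCharacter_of_isIrr θ.2) hm0 hv
  obtain ⟨χ, hχ, hg, hdχ⟩ := exists_det N θ hdeg hdet χ₁ hχ₁ hg₁
  have hT := rs_ne_zero hM hθ
  set T := rs p (θ : N → ℂ) with hTd
  refine ⟨χ, mem_of_good hM N hT hg, ?_, hχ⟩
  set a := (Nat.card G).factorization p with ha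
  set m := Nat.card G / p ^ a with hm
  have hm' : ¬ p ∣ m := Nat.not_dvd_ordCompl hp hG
  have hmul : p ^ a * m = Nat.card G := Nat.ordProj_mul_ordCompl_eq_self _ _
  have hm00 : m0 ≠ 0 := by rintro rfl; exact hm0 (dvd_zero p)
  have hmne : m ≠ 0 := fun h => hm' (h ▸ dvd_zero p)
  have hpm : ¬ p ∣ m0 * m := by
    intro h
    rcases (Nat.Prime.dvd_mul hp).1 h with h | h
    · exact hm0 h
    · exact hm' h
  refine ⟨m0 * m, hpm, ?_⟩
  have key : ∀ σ : ℂ ≃+* ℂ, σ (zt (m0 * m)) = zt (m0 * m) → ∀ g : G, σ ((χ : G → ℂ) g) = (χ : G → ℂ) g := by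
    intro σ hσ
    have hfix := fix_roots (mul_ne_zero hm00 hmne) σ hσ
    have hθσ : ∀ n : N, σ ((θ : N → ℂ) n) = (θ : N → ℂ) n :=
      fun n => fix_values hm00 (dvd_mul_right _ _) (mul_ne_zero hm00 hmne) σ hfix (hv n)
    have hTσ : σ T = T := by
      have h1 : rs p (fun n : N => σ.toRingHom ((θ : N → ℂ) n)) = σ.toRingHom T := by
        classical
        letI := Fintype.ofFinite N
        rw [hTd, rs_eq, rs_eq, map_sum]
        refine Finset.sum_congr rfl fun n _ => ?_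
        by_cases h : p ∣ orderOf n
        · rw [reg_not h, reg_not h, map_zero]
        · rw [reg_of h, reg_of h]
      have h2 : (fun n : N => σ.toRingHom ((θ : N → ℂ) n)) = θ := funext hθσ
      rw [h2] at h1
      exact h1.symm
    have hirr : IsIrrCharacter G (fun g => σ.toRingHom ((χ : G → ℂ) g)) := isIrrCharacter_ringHom _ χ.2
    obtain ⟨μ, hμN, hμ⟩ := H18.DetChar.exists_linear_mul N θ.2 χ.2 hirr hχ (fun n => by
      show σ ((χ : G → ℂ) n) = _
      rw [hχ, hθσ])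
    have hμreg : ∀ g : G, ¬ p ∣ orderOf g → μ g = 1 := by
      intro g hgr
      have h1 := cs_ringHom (p := p) σ.toRingHom N (χ : G → ℂ) g
      rw [hμ, cs_mul N (β := fun g => (μ g : ℂ)) (fun g n hn => by rw [map_mul, hμN n hn, mul_one]),
        hg g hgr] at h1
      have h2 : (μ g : ℂ) * T = 1 * T := by
        rw [h1, one_mul]
        exact hTσ
      exact Units.ext (mul_right_cancel₀ hT h2)
    have hμd : ∀ g : G, μ g ^ (charDegree (θ : N → ℂ)) = 1 := by
      intro g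
      have h1 := H77.Canon.detChar_ringHom σ.toRingHom (isCharacter_of_isIrr χ.2) g
      rw [hμ, H18.DetChar.detChar_hom_mul _ (isCharacter_of_isIrr χ.2) (d := charDegree (θ : N → ℂ)) (by
        have h1 := hχ 1
        rw [H77.PQuot.cast_irr θ]
        exact h1)] at h1
      have h2 : σ.toRingHom (detChar (χ : G → ℂ) g) = detChar (χ : G → ℂ) g := by
        apply hfix
        rw [mul_comm, pow_mul, hdχ g, one_pow]
      rw [h2] at h1
      have h3 : detChar (χ : G → ℂ) g ≠ 0 := by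
        obtain ⟨f, hf⟩ := H18.DetChar.exists_detHom (isCharacter_of_isIrr χ.2)
        rw [hf]
        exact (f g).ne_zero
      have h4 : ((μ g : ℂ)) ^ (charDegree (θ : N → ℂ)) = 1 := by
        apply mul_right_cancel₀ h3
        rw [one_mul]
        exact h1
      exact Units.ext (by rw [Units.val_pow_eq_pow_val]; exact h4)
    have hμ1 : ∀ g : G, μ g = 1 := by
      intro g
      have h1 : μ g ^ (p ^ a) = 1 := by
        rw [← map_pow]
        apply hμreg
        intro h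
        have h2 : orderOf (g ^ (p ^ a)) ∣ m := by
          apply orderOf_dvd_of_pow_eq_one
          rw [← pow_mul, hmul, pow_card_eq_one']
        exact hm' (h.trans h2)
      have h2 := Nat.dvd_gcd (orderOf_dvd_of_pow_eq_one h1) (orderOf_dvd_of_pow_eq_one (hμd g))
      have h3 : Nat.gcd (p ^ a) (charDegree (θ : N → ℂ)) = 1 :=
        Nat.Coprime.pow_left _ ((Nat.Prime.coprime_iff_not_dvd hp).2 hdeg)
      rw [h3] at h2
      exact orderOf_eq_one_iff.1 (Nat.dvd_one.1 h2)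
    intro g
    have := congrFun hμ g
    simp only [hμ1, Units.val_one, one_mul] at this
    exact this
  intro g
  have hle := H84.FixField.adjoin_le (S := {zt (m0 * m)}) (T := Set.range (χ : G → ℂ)) (by
      rintro z rfl
      have h1 : IsIntegral ℤ (zt (m0 * m)) :=
        (Complex.isPrimitiveRoot_exp (m0 * m) (mul_ne_zero hm00 hmne)).isIntegral
          (Nat.pos_of_ne_zero (mul_ne_zero hm00 hmne))
      exact h1.tower_top) (by
      rintro _ ⟨g, rfl⟩
      exact (char_isIntegral (isCharacter_of_isIrr χ.2) g).tower_top) (by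
      rintro σ h1 _ ⟨g, rfl⟩
      exact key σ (h1 _ rfl) g)
  exact hle (IntermediateField.subset_adjoin ℚ _ ⟨g, rfl⟩)

end main

end H83.ExtRat
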