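import Mathlib
import Cfsg.Agent.Lib.H77.CopSub
import Cfsg.Agent.Lib.H83.RealOver

/-!
Glauberman correspondence for `p`-groups of operators and real characters / classes.
-/

set_option autoImplicit false
set_option linter.unusedSectionVars false
set_option linter.style.haveILetI false

namespace H83.GlaubReal

open Cfsg H18.CharBasic H18.CharOrtho H77.Cong H77.GlaubP H83.RealOver H83.RealOrb
open scoped ComplexConjugate

universe u v w

variable {G : Type u} [Group G] [Fintype G] {S : Type v} [Group S]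
  {C : Type w} [Group C] [Fintype C]
variable {p : ℕ} [hp : Fact p.Prime] (φ : S →* MulAut G) (hS : IsPGroup p S) (ι : C →* G)
  (hι : Function.Injective ι) (hC : ∀ g : G, (∃ c, ι c = g) ↔ ∀ s, φ s g = g)

include hS hι hC

/-- fusion in the fixed points -/
theorem isConj_of_map (hG : ¬ p ∣ Nat.card G) (c d : C) (h : IsConj (ι c) (ι d)) : IsConj c d := by
  obtain ⟨y, hy⟩ := isConj_iff.1 h
  have h1 := card_modEq φ hS ι hι hC (fun x => x * ι c * x⁻¹ = ι d) (fun s x hx => by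
    have e1 : φ s (ι c) = ι c := (hC _).1 ⟨c, rfl⟩ s
    have e2 : φ s (ι d) = ι d := (hC _).1 ⟨d, rfl⟩ s
    rw [← e2, ← hx, map_mul, map_mul, map_inv, e1])
  rw [H77.CopChain.card_transporter hy] at h1
  have h2 : ¬ p ∣ Nat.card (Subgroup.centralizer ({ι c} : Set G)) := fun h => hG (h.trans (Subgroup.card_subgroup_dvd_card _))
  by_cases hne : Nonempty {x : C // ι x * ι c * (ι x)⁻¹ = ι d}
  · obtain ⟨x, hx⟩ := hne
    refine isConj_iff.2 ⟨x, hι ?_⟩
    rw [map_mul, map_mul, map_inv, hx]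
  · rw [not_nonempty_iff] at hne
    rw [Nat.card_of_isEmpty (α := {x : C // ι x * ι c * (ι x)⁻¹ = ι d})] at h1
    exact absurd ((Nat.modEq_zero_iff_dvd).1 h1) h2

/-- invariant classes contain fixed points -/
theorem exists_fixed_of_class (hG : ¬ p ∣ Nat.card G) (g : G) (h : ∀ s, IsConj g (φ s g)) :
    ∃ c : C, IsConj g (ι c) := by
  have h1 := card_modEq φ hS ι hι hC (fun x => IsConj g x) (fun s x hx => by
    exact (h s).trans (isConj_mulEquiv (φ s) hx))
  rw [H18.CharInd.card_isConj_eq_index g] at h1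
  have h2 : ¬ p ∣ (Subgroup.centralizer ({g} : Set G)).index := fun h =>
    hG (h.trans (Subgroup.index_dvd_card _))
  by_cases hne : Nonempty {x : C // IsConj g (ι x)}
  · obtain ⟨x, hx⟩ := hne
    exact ⟨x, hx⟩
  · rw [not_nonempty_iff] at hne
    rw [Nat.card_of_isEmpty (α := {x : C // IsConj g (ι x)})] at h1
    exact absurd ((Nat.modEq_zero_iff_dvd).1 h1) h2

omit hS hι hC in
theorem mult_conj (χ : IrrCharacter G) (β : IrrCharacter C) :
    mult ι (conjIrr χ) (conjIrr β) = mult ι χ β := by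
  have h1 := mult_spec ι (conjIrr χ) (conjIrr β)
  have h2 := mult_spec ι χ β
  have h3 := inner_conj_conj (fun c => (χ : G → ℂ) (ι c)) (β : C → ℂ)
  have h4 : classInner (fun c => (conjIrr χ : G → ℂ) (ι c)) (conjIrr β : C → ℂ) =
      conj (classInner (fun c => (χ : G → ℂ) (ι c)) (β : C → ℂ)) := h3
  rw [h1, h2, Complex.conj_natCast] at h4
  exact_mod_cast h4

omit hS hι hC hp in
theorem inv_conjIrr {χ : IrrCharacter G} (h : Inv φ χ.1) : Inv φ (conjIrr χ).1 := by
  intro s g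
  change conj (χ.1 (φ s g)) = conj (χ.1 g)
  rw [h s g]

/-- The Glauberman correspondence preserves reality. -/
theorem real_iff (hG : ¬ p ∣ Nat.card G) {χ : IrrCharacter G} (hχ : Inv φ χ.1)
    {β : IrrCharacter C} (h1 : ¬ p ∣ mult ι χ β) :
    (∀ g, ((χ : G → ℂ) g).im = 0) ↔ ∀ c, ((β : C → ℂ) c).im = 0 := by
  haveI := Fintype.ofFinite (IrrCharacter G)
  rw [← conjIrr_eq_iff, ← conjIrr_eq_iff]
  have h2 := mult_conj ι χ β
  constructor
  · intro h
    rw [h] at h2
    exact (corr_unique φ hS ι hι hC hG hχ h1 (by rw [h2]; exact h1)).symm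
  · intro h
    rw [h] at h2
    exact (inv_unique φ hS ι hι hC hG hχ (inv_conjIrr φ hχ) h1 (by rw [h2]; exact h1)).symm

theorem card_real_inv (hG : ¬ p ∣ Nat.card G) :
    Nat.card {χ : IrrCharacter G // (∀ g, ((χ : G → ℂ) g).im = 0) ∧ Inv φ (χ : G → ℂ)} =
      Nat.card {β : IrrCharacter C // ∀ c, ((β : C → ℂ) c).im = 0} := by
  haveI := Fintype.ofFinite (IrrCharacter G)
  choose f hf using fun χ : {χ : IrrCharacter G // (∀ g, ((χ : G → ℂ) g).im = 0) ∧ Inv φ (χ : G → ℂ)} =>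
    exists_mult_not_dvd φ hS ι hι hC hG χ.1
  refine Nat.card_congr (Equiv.ofBijective (fun χ => (⟨f χ, (real_iff φ hS ι hι hC hG χ.2.2 (hf χ)).1 χ.2.1⟩ :
    {β : IrrCharacter C // ∀ c, ((β : C → ℂ) c).im = 0})) ⟨?_, ?_⟩)
  · intro χ χ' h
    have h1 : f χ = f χ' := congrArg Subtype.val h
    apply Subtype.ext
    exact inv_unique φ hS ι hι hC hG χ.2.2 χ'.2.2 (hf χ) (by rw [h1]; exact hf χ')
  · intro β
    obtain ⟨χ, hχ, hm⟩ := exists_inv φ hS ι hι hC hG β.1
    have h2 := (real_iff φ hS ι hι hC hG hχ hm).2 β.2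
    refine ⟨⟨χ, h2, hχ⟩, ?_⟩
    apply Subtype.ext
    exact corr_unique φ hS ι hι hC hG hχ (hf ⟨χ, h2, hχ⟩) hm

theorem card_real_class (hG : ¬ p ∣ Nat.card G) :
    Nat.card {K : ConjClasses G // (∀ k, ConjClasses.mk k = K → IsConj k k⁻¹) ∧
        ∀ s, ConjClasses.map (φ s).toMonoidHom K = K} =
      Nat.card {K : ConjClasses C // ∀ k, ConjClasses.mk k = K → IsConj k k⁻¹} := by
  symm
  refine Nat.card_congr (Equiv.ofBijective (fun K => (⟨ConjClasses.map ι K.1, ?_, ?_⟩ :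
    {K : ConjClasses G // (∀ k, ConjClasses.mk k = K → IsConj k k⁻¹) ∧
        ∀ s, ConjClasses.map (φ s).toMonoidHom K = K})) ⟨?_, ?_⟩)
  · obtain ⟨K, hK⟩ := K
    obtain ⟨c, rfl⟩ := ConjClasses.exists_rep K
    intro k hk
    change ConjClasses.mk k = ConjClasses.mk (ι c) at hk
    have h1 : IsConj k (ι c) := ConjClasses.mk_eq_mk_iff_isConj.1 hk
    have h2 : IsConj (ι c) (ι c)⁻¹ := by
      obtain ⟨x, hx⟩ := isConj_iff.1 (hK c rfl)
      refine isConj_iff.2 ⟨ι x, ?_⟩
      rw [← map_inv, ← map_inv, ← map_mul, ← map_mul, hx]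
    exact (h1.trans h2).trans (isConj_inv h1).symm
  · obtain ⟨K, hK⟩ := K
    obtain ⟨c, rfl⟩ := ConjClasses.exists_rep K
    intro s
    change ConjClasses.mk (φ s (ι c)) = ConjClasses.mk (ι c)
    rw [(hC _).1 ⟨c, rfl⟩ s]
  · rintro ⟨K, hK⟩ ⟨L, hL⟩ h
    obtain ⟨c, rfl⟩ := ConjClasses.exists_rep K
    obtain ⟨d, rfl⟩ := ConjClasses.exists_rep L
    apply Subtype.ext
    have h1 : ConjClasses.mk (ι c) = ConjClasses.mk (ι d) := congrArg Subtype.val h
    exact ConjClasses.mk_eq_mk_iff_isConj.2 (isConj_of_map φ hS ι hι hC hG c d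
      (ConjClasses.mk_eq_mk_iff_isConj.1 h1))
  · rintro ⟨K, hK1, hK2⟩
    obtain ⟨g, rfl⟩ := ConjClasses.exists_rep K
    obtain ⟨c, hc⟩ := exists_fixed_of_class φ hS ι hι hC hG g (fun s => by
      have h1 := hK2 s
      change ConjClasses.mk (φ s g) = ConjClasses.mk g at h1
      exact (ConjClasses.mk_eq_mk_iff_isConj.1 h1).symm)
    refine ⟨⟨ConjClasses.mk c, ?_⟩, ?_⟩
    · intro k hk
      have h1 : IsConj k c := ConjClasses.mk_eq_mk_iff_isConj.1 hk
      have h2 : IsConj (ι c) (ι c)⁻¹ := by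
        have h3 := hK1 g rfl
        exact (hc.symm.trans h3).trans (isConj_inv hc)
      rw [← map_inv] at h2
      have h4 := isConj_of_map φ hS ι hι hC hG _ _ h2
      exact (h1.trans h4).trans (isConj_inv h1).symm
    · apply Subtype.ext
      change ConjClasses.mk (ι c) = ConjClasses.mk g
      exact ConjClasses.mk_eq_mk_iff_isConj.2 hc.symm

/-- P-invariant real characters and classes are equinumerous. -/
theorem card_real_eq (hG : ¬ p ∣ Nat.card G) :
    Nat.card {χ : IrrCharacter G // (∀ g, ((χ : G → ℂ) g).im = 0) ∧ Inv φ (χ : G → ℂ)} =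
    Nat.card {K : ConjClasses G // (∀ k, ConjClasses.mk k = K → IsConj k k⁻¹) ∧
        ∀ s, ConjClasses.map (φ s).toMonoidHom K = K} := by
  rw [card_real_inv φ hS ι hι hC hG, card_real_class φ hS ι hι hC hG, H4.FixedCount.card_real]

theorem exists_fixed_of_all (hG : ¬ p ∣ Nat.card G)
    (hall : ∀ χ : IrrCharacter G, (∀ g, ((χ : G → ℂ) g).im = 0) → Inv φ (χ : G → ℂ)) (g : G)
    (hg : IsConj g g⁻¹) : ∃ c : C, IsConj g (ι c) := by
  haveI : Finite (IrrCharacter G) := instFiniteIrr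
  have h1 := card_real_eq φ hS ι hι hC hG
  have h2 : Nat.card {χ : IrrCharacter G // (∀ g, ((χ : G → ℂ) g).im = 0) ∧ Inv φ (χ : G → ℂ)} =
      Nat.card {χ : IrrCharacter G // ∀ g, ((χ : G → ℂ) g).im = 0} :=
    Nat.card_congr (Equiv.subtypeEquivRight fun χ => ⟨fun h => h.1, fun h => ⟨h, hall χ h⟩⟩)
  rw [h2, H4.FixedCount.card_real] at h1
  -- inclusion between finite sets of the same cardinality
  let F : {K : ConjClasses G // (∀ k, ConjClasses.mk k = K → IsConj k k⁻¹) ∧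
        ∀ s, ConjClasses.map (φ s).toMonoidHom K = K} →
      {K : ConjClasses G // ∀ k, ConjClasses.mk k = K → IsConj k k⁻¹} := fun K => ⟨K.1, K.2.1⟩
  have hF : Function.Injective F := fun K L h => by
    have h1 := congrArg Subtype.val h
    exact Subtype.ext h1
  have hbij : Function.Bijective F := (Nat.bijective_iff_injective_and_card F).2 ⟨hF, h1.symm⟩
  have hgr : ∀ k, ConjClasses.mk k = ConjClasses.mk g → IsConj k k⁻¹ := by
    intro k hk
    have h3 : IsConj k g := ConjClasses.mk_eq_mk_iff_isConj.1 hk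
    exact (h3.trans hg).trans (isConj_inv h3).symm
  obtain ⟨K, hK⟩ := hbij.2 ⟨ConjClasses.mk g, hgr⟩
  have hK' : K.1 = ConjClasses.mk g := congrArg Subtype.val hK
  refine exists_fixed_of_class φ hS ι hι hC hG g (fun s => ?_)
  have h4 := K.2.2 s
  rw [hK'] at h4
  exact (ConjClasses.mk_eq_mk_iff_isConj.1 h4).symm

end H83.GlaubReal
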