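import Cfsg.Agent.Lib.H89.MX0

/-!
S5316, pieces EV and EV5: eigenvalues of an automorphism of a `p`-group of maximal class.
-/

set_option autoImplicit false

namespace H83.MXEV

open Subgroup Cfsg Cfsg.FusionSystem H67.HallPetrescu H57.Mc H89.MX
open scoped commutatorElement

theorem comm_calc {X : Type*} [Group X] {S Z U W : X} (hW : ∀ g, g * W = W * g)
    (hU : U * Z = Z * U) (hc : ∀ g, g * ⁅S, Z⁆ = ⁅S, Z⁆ * g) (m k : ℤ) :
    ⁅S ^ m * U, Z ^ k * W⁆ = ⁅S, Z⁆ ^ (m * k) := by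
  have hUk : U * Z ^ k * U⁻¹ = Z ^ k := by
    rw [mul_inv_eq_iff_eq_mul]
    exact ((show Commute U Z from hU).zpow_right k).eq
  have h1 : S * Z * S⁻¹ = ⁅S, Z⁆ * Z := by rw [commutatorElement_def]; group
  have h2 : S * Z ^ k * S⁻¹ = ⁅S, Z⁆ ^ k * Z ^ k := by
    rw [← conj_zpow, h1, (show Commute ⁅S, Z⁆ Z from (hc Z).symm).mul_zpow]
  have h3 : (Z ^ k)⁻¹ * S * Z ^ k = ⁅S, Z⁆ ^ k * S := by
    have h4 : S * Z ^ k = ⁅S, Z⁆ ^ k * Z ^ k * S := by rw [← h2]; group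
    have h5 : Commute ((Z ^ k)⁻¹) (⁅S, Z⁆ ^ k) :=
      (show Commute ((Z ^ k)⁻¹) ⁅S, Z⁆ from hc _).zpow_right k
    calc (Z ^ k)⁻¹ * S * Z ^ k = (Z ^ k)⁻¹ * (S * Z ^ k) := by group
      _ = (Z ^ k)⁻¹ * ⁅S, Z⁆ ^ k * (Z ^ k * S) := by rw [h4]; group
      _ = ⁅S, Z⁆ ^ k * (Z ^ k)⁻¹ * (Z ^ k * S) := by rw [h5.eq]
      _ = _ := by group
  have h6 : (Z ^ k)⁻¹ * S ^ m * Z ^ k = ⁅S, Z⁆ ^ (m * k) * S ^ m := by
    have h7 : (Z ^ k)⁻¹ * S ^ m * Z ^ k = ((Z ^ k)⁻¹ * S * (Z ^ k)⁻¹⁻¹) ^ m := by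
      rw [conj_zpow]; group
    have h8 : ((Z ^ k)⁻¹ * S * (Z ^ k)⁻¹⁻¹) = ⁅S, Z⁆ ^ k * S := by rw [← h3]; group
    rw [h7, h8, (show Commute (⁅S, Z⁆ ^ k) S from
      ((show Commute S ⁅S, Z⁆ from hc S).zpow_right k).symm).mul_zpow, ← zpow_mul, mul_comm k m]
  have h9 : Commute (Z ^ k) (⁅S, Z⁆ ^ (m * k)) :=
    (show Commute (Z ^ k) ⁅S, Z⁆ from hc _).zpow_right _
  calc ⁅S ^ m * U, Z ^ k * W⁆ = S ^ m * U * Z ^ k * (W * (U⁻¹ * (S ^ m)⁻¹)) * W⁻¹ * (Z ^ k)⁻¹ := by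
        rw [commutatorElement_def]; group
    _ = S ^ m * (U * Z ^ k * U⁻¹) * (S ^ m)⁻¹ * (Z ^ k)⁻¹ := by rw [← hW]; group
    _ = Z ^ k * ((Z ^ k)⁻¹ * S ^ m * Z ^ k) * (S ^ m)⁻¹ * (Z ^ k)⁻¹ := by rw [hUk]; group
    _ = Z ^ k * ⁅S, Z⁆ ^ (m * k) * (Z ^ k)⁻¹ := by rw [h6]; group
    _ = _ := by rw [h9.eq]; group

section G

variable {G : Type*} [Group G]

theorem aut_mem (σ : MulAut G) {i : ℕ} {z : G} (hz : z ∈ lcsF G i) : σ z ∈ lcsF G i := by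
  have h1 : (lcsF G i).map (σ : G →* G) = lcsF G i := by
    unfold lcsF
    rw [Subgroup.map_lowerCentralSeries]
    congr 1
    rw [← MonoidHom.range_eq_map, MonoidHom.range_eq_top]
    exact σ.surjective
  rw [← h1]
  exact ⟨z, hz, rfl⟩

theorem aut_TC (σ : MulAut G) {i : ℕ} {z : G} (hz : z ∈ TC G i) : σ z ∈ TC G i := by
  intro x hx
  have h1 : σ.symm x ∈ lcsF G i := aut_mem σ.symm hx
  have h2 := aut_mem σ (hz _ h1)
  rw [map_commutatorElement, MulEquiv.apply_symm_apply] at h2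
  exact h2

variable [Finite G] {p n : ℕ} [hp : Fact p.Prime]

theorem dvd_of (hG : IsPGroup p G) {A : Subgroup G} {z : G} (hz : z ∉ A) {j : ℤ}
    (hj : z ^ j ∈ A) : (p : ℤ) ∣ j := by
  by_contra hcon
  obtain ⟨r, hr⟩ := IsPGroup.iff_orderOf.mp hG z
  have hpp : Prime (p : ℤ) := Nat.prime_iff_prime_int.mp hp.out
  have h1 : IsCoprime (p : ℤ) j := (Prime.coprime_iff_not_dvd hpp).mpr hcon
  have h2 : IsCoprime ((p : ℤ) ^ r) j := h1.pow_left
  obtain ⟨u, v, huv⟩ := h2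
  apply hz
  have h3 : z = (z ^ orderOf z) ^ u * (z ^ j) ^ v := by
    rw [← zpow_natCast, ← zpow_mul, ← zpow_mul, ← zpow_add, hr]
    have : ((p ^ r : ℕ) : ℤ) * u + j * v = 1 := by
      push_cast; rw [mul_comm, mul_comm j v]; exact huv
    rw [this, zpow_one]
  rw [h3, pow_orderOf_eq_one, one_zpow, one_mul]
  exact zpow_mem hj v

theorem step_eig (h : MC p n G) (hn : 4 ≤ n) (σ : MulAut G) {s u z w : G} {m k : ℤ} {i : ℕ}
    (hi : 1 ≤ i) (hs : σ s = s ^ m * u) (hu : u ∈ TC G 2) (hz : z ∈ Q G i)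
    (hzk : σ z = z ^ k * w) (hw : w ∈ lcsF G (i + 1)) (hTC : 2 ≤ i → TC G 2 ≤ TC G i) :
    ∃ w' ∈ lcsF G (i + 2), σ ⁅s, z⁆ = ⁅s, z⁆ ^ (m * k) * w' := by
  set q := QuotientGroup.mk' (lcsF G (i + 2)) with hq
  have hq1 : ∀ a : G, a ∈ lcsF G (i + 2) → q a = 1 := fun a ha =>
    (QuotientGroup.eq_one_iff (N := lcsF G (i + 2)) a).mpr ha
  have hcent : ∀ a ∈ lcsF G (i + 1), ∀ g : G ⧸ lcsF G (i + 2), g * q a = q a * g := by
    intro a ha g
    obtain ⟨g, rfl⟩ := QuotientGroup.mk'_surjective _ g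
    have h1 := hq1 _ (comm_memK'' ha g)
    rw [map_commutatorElement, commutatorElement_eq_one_iff_mul_comm] at h1
    exact h1
  have hzi : z ∈ lcsF G i := Q_le hi hz
  have hzu : ⁅z, u⁆ ∈ lcsF G (i + 2) := by
    rcases Nat.lt_or_ge i 2 with h2 | h2
    · have : i = 1 := by omega
      subst this
      rw [Q_one] at hz
      exact K_anti (by omega) (h.P1_comm hn (commutator_mem_commutator hz hu))
    · exact hTC h2 hu z hzi
  have h1 := comm_calc (S := q s) (Z := q z) (U := q u) (W := q w) (hcent w hw)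
    (by
      have h2 := hq1 _ hzu
      rw [map_commutatorElement, commutatorElement_eq_one_iff_mul_comm] at h2
      exact h2.symm)
    (by
      have h2 : ⁅s, z⁆ ∈ lcsF G (i + 1) := comm_memK'' hzi s
      have h3 := hcent _ h2
      rwa [map_commutatorElement] at h3) m k
  have h2 : q (σ ⁅s, z⁆) = q (⁅s, z⁆ ^ (m * k)) := by
    rw [map_commutatorElement, hs, hzk, map_commutatorElement, map_mul, map_mul, map_zpow,
      map_zpow, h1, map_zpow, map_commutatorElement]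
  refine ⟨(⁅s, z⁆ ^ (m * k))⁻¹ * σ ⁅s, z⁆, QuotientGroup.eq.mp h2.symm, by group⟩

theorem exists_m (h : MC p n G) (hn : 4 ≤ n) (σ : MulAut G) {s : G} (hs : s ∉ TC G 2) :
    ∃ m : ℤ, ∃ u ∈ TC G 2, σ s = s ^ m * u := by
  have hN := h.normal_P1 hn
  have h1 : zpowers s ⊔ TC G 2 = ⊤ := h.eq_top_of hn le_rfl (by omega) le_sup_right hs
    (mem_sup_left (mem_zpowers s))
  have h2 : σ s ∈ zpowers s ⊔ TC G 2 := by rw [h1]; exact mem_top _
  obtain ⟨y, hy, u, hu, hyu⟩ := mem_sup_of_normal_right.mp h2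
  obtain ⟨m, rfl⟩ := mem_zpowers_iff.mp hy
  exact ⟨m, u, hu, hyu.symm⟩

theorem exists_nu (h : MC p n G) (hn : 4 ≤ n) (σ : MulAut G) {x : G} (hx : x ∈ TC G 2)
    (hx' : x ∉ lcsF G 2) : ∃ m : ℤ, ∃ u ∈ lcsF G 2, σ x = x ^ m * u := by
  have h1 : TC G 2 ≤ zpowers x ⊔ lcsF G 2 := h.le_of_P1 hn le_sup_right hx hx'
    (mem_sup_left (mem_zpowers x))
  have h2 : σ x ∈ zpowers x ⊔ lcsF G 2 := h1 (aut_TC σ hx)
  obtain ⟨y, hy, u, hu, hyu⟩ := mem_sup_of_normal_right.mp h2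
  obtain ⟨m, rfl⟩ := mem_zpowers_iff.mp hy
  exact ⟨m, u, hu, hyu.symm⟩

theorem chain (h : MC p n G) (hn : 4 ≤ n) (σ : MulAut G) {s x u : G} {m ν : ℤ}
    (hs : σ s = s ^ m * u) (hu : u ∈ TC G 2) (hx : x ∈ TC G 2)
    (hν : ∃ w ∈ lcsF G 2, σ x = x ^ ν * w) (N : ℕ)
    (hTC : ∀ i, 2 ≤ i → i < N → TC G 2 ≤ TC G i) {k : ℕ} (hk : 1 ≤ k) (hkN : k ≤ N) :
    ∃ w ∈ lcsF G (k + 1), σ (sig s x k) = sig s x k ^ (ν * m ^ (k - 1)) * w := by
  induction k, hk using Nat.le_induction with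
  | base => rw [sig_one]; simpa using hν
  | succ k hk ih =>
    obtain ⟨w, hw, hw'⟩ := ih (by omega)
    rw [sig_succ s x hk]
    obtain ⟨w2, hw2, hw2'⟩ := step_eig h hn σ hk hs hu (sig_memQ (s := s) hx hk) hw' hw
      (fun h2 => hTC k h2 (by omega))
    refine ⟨w2, hw2, ?_⟩
    rw [hw2']
    congr 2
    obtain ⟨r, rfl⟩ := Nat.exists_eq_add_of_le' hk
    simp only [Nat.add_sub_cancel]
    rw [pow_succ]; ring

theorem cmp (hG : IsPGroup p G) {A : Subgroup G} {z : G} (hz : z ∉ A) {j k : ℤ} {y w : G}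
    (h1 : z ^ (-j) * y ∈ A) (hw : w ∈ A) (h2 : y = z ^ k * w) : (p : ℤ) ∣ k - j := by
  apply dvd_of hG hz
  have h3 : z ^ (k - j) = z ^ (-j) * y * w⁻¹ := by
    rw [h2]; group
  rw [h3]
  exact mul_mem h1 (inv_mem hw)

theorem pm_eq (h5 : 5 ≤ p) {a b : ℤ} (ha : a = 1 ∨ a = -1) (hb : b = 1 ∨ b = -1)
    (h : (a : ZMod p) = b) : a = b := by
  have h1 := (ZMod.intCast_eq_intCast_iff_dvd_sub a b p).mp h
  have h2 : |b - a| < p := by
    have : (5 : ℤ) ≤ p := by exact_mod_cast h5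
    rcases ha with rfl | rfl <;> rcases hb with rfl | rfl <;> norm_num <;> omega
  have := Int.eq_zero_of_abs_lt_dvd h1 h2
  omega

theorem cast_eq {a b : ℤ} (h : (p : ℤ) ∣ a - b) : (a : ZMod p) = b :=
  ((ZMod.intCast_eq_intCast_iff_dvd_sub b a p).mpr h).symm

theorem sq_one {a : ℤ} (ha : a = 1 ∨ a = -1) : (a : ZMod p) * a = 1 := by
  rcases ha with rfl | rfl <;> simp

theorem even_of_exc (h : MC p n G) (h5 : 5 ≤ p) (hn : 5 ≤ n) (hex : ¬ TC G 2 ≤ TC G (n - 2)) :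
    Even n := by
  by_contra hc
  rw [Nat.not_even_iff_odd] at hc
  exact hex (h.thmB hn (by omega) hc (h.blackburn (by omega) (by omega)).1)

theorem eig (h : MC p n G) (h5 : 5 ≤ p) (hn : 6 ≤ n) (hex : ¬ TC G 2 ≤ TC G (n - 2)) (σ : MulAut G)
    {a b c : ℤ} (ha : a = 1 ∨ a = -1) (hb : b = 1 ∨ b = -1) (hc : c = 1 ∨ c = -1)
    (h1 : ∀ z ∈ lcsF G (n - 1), σ z = z ^ a) (h2 : ∀ z ∈ lcsF G (n - 2), z ^ (-b) * σ z ∈ lcsF G (n - 1))
    (h3 : ∀ z ∈ lcsF G (n - 3), z ^ (-c) * σ z ∈ lcsF G (n - 2)) : a = b * c := by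
  have hev := even_of_exc h h5 (by omega) hex
  have hbl := (h.blackburn (by omega) (by omega)).1
  obtain ⟨s, hs⟩ := h.exists_unif (by omega) (by omega)
  obtain ⟨x, hx, hx'⟩ := h.exists_P1 (by omega)
  obtain ⟨m, u, hu, hm⟩ := exists_m h (by omega) σ (hs 2 le_rfl (by omega))
  obtain ⟨ν, hν⟩ := exists_nu h (by omega) σ hx hx'
  have hG := h.isPGroup
  -- b
  obtain ⟨w1, hw1, hw1'⟩ := chain h (by omega) σ hm hu hx hν (n - 2) hbl
    (by omega : 1 ≤ n - 2) le_rfl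
  have hz1 := h.sig_not_mem (by omega) hs hx hx' (by omega : 1 ≤ n - 2) (by omega)
  rw [show n - 2 + 1 = n - 1 by omega] at hw1 hz1
  have e1 := cmp hG hz1 (h2 _ (sig_mem s x (by omega : 1 ≤ n - 2))) hw1 hw1'
  -- c
  obtain ⟨w2, hw2, hw2'⟩ := chain h (by omega) σ hm hu hx hν (n - 2) hbl
    (by omega : 1 ≤ n - 3) (by omega)
  have hz2 := h.sig_not_mem (by omega) hs hx hx' (by omega : 1 ≤ n - 3) (by omega)
  rw [show n - 3 + 1 = n - 2 by omega] at hw2 hz2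
  have e2 := cmp hG hz2 (h3 _ (sig_mem s x (by omega : 1 ≤ n - 3))) hw2 hw2'
  -- a
  set z := sig s x (n - 2) with hz
  have hzm : z ∈ lcsF G (n - 2) := sig_mem s x (by omega)
  have hKn := h.K_n (by omega) (le_refl n)
  have hne : ⁅x, z⁆ ≠ 1 := by
    intro hc0
    apply hex
    refine h.TC_le (by omega) (by omega) (by omega) hx hx' hzm ?_ (comm_symm ?_)
    · rw [show n - 2 + 1 = n - 1 by omega]; exact hz1
    · rw [hc0]; exact one_mem _
  have hmem : ⁅x, z⁆ ∈ lcsF G (n - 1) := by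
    have := comm_memK'' hzm x
    rwa [show n - 2 + 1 = n - 1 by omega] at this
  obtain ⟨wx, hwx, hwx'⟩ := hν
  have e3 : ⁅x, z⁆ ^ a = ⁅x, z⁆ ^ (ν * b) := by
    rw [← h1 _ hmem, map_commutatorElement, hwx']
    have h7 : σ z = z ^ b * (z ^ (-b) * σ z) := by group
    rw [h7]
    refine comm_calc (h.central (by omega) (h2 z hzm)) ?_ (h.central (by omega) hmem) ν b
    have h8 : ⁅wx, z⁆ ∈ lcsF G (2 + (n - 2)) := comm_memK hwx hzm
    rw [show 2 + (n - 2) = n by omega, hKn, mem_bot, commutatorElement_eq_one_iff_mul_comm] at h8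
    exact h8
  have e4 : (p : ℤ) ∣ a - ν * b := by
    apply dvd_of hG (A := ⊥) (z := ⁅x, z⁆) (by rw [mem_bot]; exact hne)
    rw [mem_bot, zpow_sub, e3, mul_inv_cancel]
  -- arithmetic
  have f1 := cast_eq e1
  have f2 := cast_eq e2
  have f3 := cast_eq e4
  push_cast at f1 f2 f3
  have ga := sq_one (p := p) ha
  have gb := sq_one (p := p) hb
  have gc := sq_one (p := p) hc
  have hbc : b * c = 1 ∨ b * c = -1 := by
    rcases hb with rfl | rfl <;> rcases hc with rfl | rfl <;> simp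
  apply pm_eq h5 ha hbc
  push_cast
  set A : ZMod p := (a : ZMod p)
  set Bb : ZMod p := (b : ZMod p)
  set Cc : ZMod p := (c : ZMod p)
  set M : ZMod p := (m : ZMod p)
  set N : ZMod p := (ν : ZMod p)
  rw [show n - 2 - 1 = n - 3 by omega] at f1
  rw [show n - 3 - 1 = n - 4 by omega] at f2
  have f4 : M ^ (n - 3) = M ^ (n - 4) * M := by
    rw [← pow_succ]; congr 1; omega
  have f5 : Bb = Cc * M := by rw [← f1, ← f2, f4]; ring
  have f6 : M = Bb * Cc := by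
    calc M = (Cc * Cc) * M := by rw [gc, one_mul]
      _ = Cc * (Cc * M) := by ring
      _ = Bb * Cc := by rw [← f5]; ring
  have f7 : M * M = 1 := by
    rw [f6]
    calc Bb * Cc * (Bb * Cc) = (Bb * Bb) * (Cc * Cc) := by ring
      _ = 1 := by rw [gb, gc, one_mul]
  have f8 : M ^ (n - 4) = 1 := by
    obtain ⟨r, hr⟩ := hev
    have : n - 4 = 2 * (r - 2) := by omega
    rw [this, pow_mul, pow_two, f7, one_pow]
  rw [f8, mul_one] at f2
  rw [f3, f2]; ring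

theorem eig5 (h : MC p 5 G) (h5 : 5 ≤ p) (σ : MulAut G)
    {a b c : ℤ} (ha : a = 1 ∨ a = -1) (hb : b = 1 ∨ b = -1) (hc : c = 1 ∨ c = -1)
    (h1 : ∀ z ∈ lcsF G 4, σ z = z ^ a) (h2 : ∀ z ∈ lcsF G 3, z ^ (-b) * σ z ∈ lcsF G 4)
    (h3 : ∀ z ∈ lcsF G 2, z ^ (-c) * σ z ∈ lcsF G 3) : a = c := by
  have hTC3 : TC G 2 ≤ TC G 3 := by
    by_contra hcon
    have := even_of_exc h h5 le_rfl hcon
    exact absurd this (by decide)
  obtain ⟨s, hs⟩ := h.exists_unif (by omega) (by omega)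
  obtain ⟨x, hx, hx'⟩ := h.exists_P1 (by omega)
  obtain ⟨m, u, hu, hm⟩ := exists_m h (by omega) σ (hs 2 le_rfl (by omega))
  have hG := h.isPGroup
  have hz2 : sig s x 2 ∈ lcsF G 2 := sig_mem s x (by omega)
  have hz3 : sig s x 3 ∈ lcsF G 3 := sig_mem s x (by omega)
  have hz4 : sig s x 4 ∈ lcsF G 4 := sig_mem s x (by omega)
  have hn3 := h.sig_not_mem (by omega) hs hx hx' (by omega : 1 ≤ 3) (by omega)
  have hn4 := h.sig_not_mem (by omega) hs hx hx' (by omega : 1 ≤ 4) (by omega)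
  obtain ⟨w1, hw1, hw1'⟩ := step_eig h (by omega) σ (z := sig s x 2) (w := sig s x 2 ^ (-c) * σ (sig s x 2))
    (k := c) (i := 2) (by omega) hm hu (by rw [Q_of le_rfl]; exact hz2) (by group) (h3 _ hz2)
    (fun _ => le_rfl)
  obtain ⟨w2, hw2, hw2'⟩ := step_eig h (by omega) σ (z := sig s x 3) (w := sig s x 3 ^ (-b) * σ (sig s x 3))
    (k := b) (i := 3) (by omega) hm hu (by rw [Q_of (by omega)]; exact hz3) (by group) (h2 _ hz3)
    (fun _ => hTC3)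
  rw [← sig_succ s x (by omega : 1 ≤ 2)] at hw1'
  rw [← sig_succ s x (by omega : 1 ≤ 3)] at hw2'
  have e1 := cmp hG hn3 (h2 _ hz3) hw1 hw1'
  have e2 := cmp (j := a) hG hn4 (by
    rw [h1 _ hz4, ← zpow_add, neg_add_cancel, zpow_zero]; exact one_mem _) hw2 hw2'
  have f1 := cast_eq e1
  have f2 := cast_eq e2
  push_cast at f1 f2
  have gc := sq_one (p := p) hc
  have gb := sq_one (p := p) hb
  apply pm_eq h5 ha hc
  rw [← f2, ← f1]
  have f3 : (m : ZMod p) * m = 1 := by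
    calc (m : ZMod p) * m = m * m * (c * c) := by rw [gc, mul_one]
      _ = (m * c) * (m * c) := by ring
      _ = 1 := by rw [f1, gb]
  rw [← mul_assoc, f3, one_mul]

end G

end H83.MXEV
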