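import Cfsg.Agent.S0205
import Cfsg.Agent.S0217
import Cfsg.Agent.S0223
import Cfsg.Agent.Lib.H25.StrEmb

set_option autoImplicit false
set_option linter.unusedVariables false
set_option linter.unusedSectionVars false
set_option linter.style.haveILetI false

/-!
# S3930, piece F: a solvability criterion (Burnside, signalizer functor, strong embedding)
-/

namespace H83.PyrF

open Subgroup
open scoped Pointwise

variable {X : Type*} [Group X] [Finite X]

theorem odd_index (M : Sylow 2 X) : Odd (M : Subgroup X).index := by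
  haveI : Fact (Nat.Prime 2) := ⟨Nat.prime_two⟩
  rw [← Nat.not_even_iff_odd, even_iff_two_dvd]
  exact M.not_dvd_index

/-- Burnside's normal complement theorem, odd order form -/
theorem burn (M : Sylow 2 X) (hM : ∀ a ∈ (M : Subgroup X), ∀ b ∈ (M : Subgroup X), a * b = b * a)
    (h : ∀ g ∈ normalizer ((M : Subgroup X) : Set X), Odd (orderOf g) → ∀ a ∈ (M : Subgroup X), g * a = a * g) :
    ∃ K : Subgroup X, K.Normal ∧ Odd (Nat.card K) ∧ (∀ g : X, Odd (orderOf g) → g ∈ K) ∧
      K ⊔ (M : Subgroup X) = ⊤ := by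
  classical
  haveI : Fact (Nat.Prime 2) := ⟨Nat.prime_two⟩
  have hle : normalizer ((M : Subgroup X) : Set X) ≤ centralizer ((M : Subgroup X) : Set X) := by
    intro g hg
    obtain ⟨a, n, hn, hord⟩ := Nat.exists_eq_two_pow_mul_odd (orderOf_pos g).ne'
    have hcop : Nat.Coprime n (2 ^ a) := (Nat.Coprime.pow_left a (Nat.coprime_two_left.2 hn)).symm
    have h1 : g ^ n ∈ (M : Subgroup X) := by
      have h2 : IsPGroup 2 (zpowers (g ^ n)) := by
        intro x
        obtain ⟨k, hk⟩ := mem_zpowers_iff.1 x.2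
        refine ⟨a, ?_⟩
        apply Subtype.ext
        rw [SubmonoidClass.coe_pow, ← hk, OneMemClass.coe_one, ← zpow_natCast, ← zpow_mul, mul_comm k, zpow_mul,
          zpow_natCast, ← pow_mul, mul_comm n, ← hord, pow_orderOf_eq_one, one_zpow]
      have h3 := h2.inf_normalizer_sylow M
      have h4 : g ^ n ∈ zpowers (g ^ n) ⊓ (M : Subgroup X) := by
        rw [← h3]
        exact mem_inf.2 ⟨mem_zpowers _, pow_mem hg n⟩
      exact (mem_inf.1 h4).2
    have h2 : g ^ n ∈ centralizer ((M : Subgroup X) : Set X) := by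
      rw [mem_centralizer_iff]
      intro b hb
      exact (hM _ h1 b hb).symm
    have h3 : g ^ (2 ^ a) ∈ centralizer ((M : Subgroup X) : Set X) := by
      rw [mem_centralizer_iff]
      intro b hb
      refine (h _ (pow_mem hg _) ?_ b hb).symm
      refine Odd.of_dvd_nat hn (orderOf_dvd_of_pow_eq_one ?_)
      rw [← pow_mul, ← hord, pow_orderOf_eq_one]
    have hbez := Nat.gcd_eq_gcd_ab n (2 ^ a)
    rw [hcop.gcd_eq_one] at hbez
    have h4 : g = (g ^ n) ^ (Nat.gcdA n (2 ^ a)) * (g ^ (2 ^ a)) ^ (Nat.gcdB n (2 ^ a)) := by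
      rw [← zpow_natCast g n, ← zpow_natCast g (2 ^ a), ← zpow_mul, ← zpow_mul, ← zpow_add, ← hbez]
      simp
    rw [h4]
    exact mul_mem (zpow_mem h2 _) (zpow_mem h3 _)
  set K := (MonoidHom.transferSylow M hle).ker with hK
  have hc : K.IsComplement' (M : Subgroup X) := MonoidHom.ker_transferSylow_isComplement' M hle
  have hcard : Nat.card K * Nat.card (M : Subgroup X) = Nat.card X := hc.card_mul_card
  have hidx : Odd (M : Subgroup X).index := odd_index M
  have hKodd : Odd (Nat.card K) := by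
    have h1 := (M : Subgroup X).card_mul_index
    rw [← hcard, mul_comm (Nat.card K)] at h1
    have h2 := Nat.eq_of_mul_eq_mul_left Nat.card_pos h1
    rwa [← h2]
  refine ⟨K, inferInstance, hKodd, ?_, hc.sup_eq_top⟩
  intro g hg
  rw [hK, MonoidHom.mem_ker]
  have h1 : orderOf (MonoidHom.transferSylow M hle g) ∣ orderOf g := orderOf_map_dvd _ g
  obtain ⟨k, hk⟩ := (IsPGroup.iff_orderOf.1 M.2) (MonoidHom.transferSylow M hle g)
  rw [hk] at h1
  rcases Nat.eq_zero_or_pos k with h0 | h0
  · rw [h0, pow_zero] at hk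
    exact orderOf_eq_one_iff.1 hk
  · exfalso
    have h2 : 2 ∣ orderOf g := (dvd_pow_self 2 h0.ne').trans h1
    exact (Nat.not_even_iff_odd.2 hg) (even_iff_two_dvd.2 h2)

/-- an extension of an abelian by an odd group is solvable, and a group with a normal odd subgroup `K` and an
abelian supplement is solvable -/
theorem solv_of_comm {Y : Type*} [Group Y] (h : ∀ a b : Y, a * b = b * a) : Group.IsSolvable Y := by
  letI : CommGroup Y := { (inferInstance : Group Y) with mul_comm := h }
  exact inferInstance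

theorem solv_quot (N : Subgroup X) [N.Normal] (h1 : Group.IsSolvable N) (h2 : Group.IsSolvable (X ⧸ N)) :
    Group.IsSolvable X := by
  haveI := h1
  haveI := h2
  exact Group.isSolvable_of_ker_le_range N.subtype (QuotientGroup.mk' N)
    (by rw [QuotientGroup.ker_mk', range_subtype])

theorem solv_burn (M : Sylow 2 X) (hM : ∀ a ∈ (M : Subgroup X), ∀ b ∈ (M : Subgroup X), a * b = b * a)
    (h : ∀ g ∈ normalizer ((M : Subgroup X) : Set X), Odd (orderOf g) → ∀ a ∈ (M : Subgroup X), g * a = a * g) :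
    Group.IsSolvable X := by
  obtain ⟨K, hKn, hKo, -, hsup⟩ := burn M hM h
  haveI := hKn
  refine solv_quot K (Cfsg.Agent.S0205.result hKo) ?_
  refine solv_of_comm ?_
  have key : ∀ a : X ⧸ K, ∃ m ∈ (M : Subgroup X), (m : X ⧸ K) = a := by
    intro a
    obtain ⟨x, rfl⟩ := QuotientGroup.mk_surjective a
    have h1 : x ∈ K ⊔ (M : Subgroup X) := hsup ▸ mem_top x
    rw [← SetLike.mem_coe, Subgroup.normal_mul, Set.mem_mul] at h1
    obtain ⟨k, hk, m, hm, rfl⟩ := h1
    refine ⟨m, hm, ?_⟩
    rw [QuotientGroup.mk_mul, (QuotientGroup.eq_one_iff k).2 hk, one_mul]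
  intro a b
  obtain ⟨m, hm, rfl⟩ := key a
  obtain ⟨n, hn, rfl⟩ := key b
  rw [← QuotientGroup.mk_mul, ← QuotientGroup.mk_mul, hM m hm n hn]

/-- the normalizer of an abelian Sylow 2-subgroup is solvable -/
theorem solv_norm (M : Sylow 2 X) (hM : ∀ a ∈ (M : Subgroup X), ∀ b ∈ (M : Subgroup X), a * b = b * a) :
    Group.IsSolvable (normalizer ((M : Subgroup X) : Set X)) := by
  classical
  haveI : Fact (Nat.Prime 2) := ⟨Nat.prime_two⟩
  set N := normalizer ((M : Subgroup X) : Set X) with hN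
  have hle : (M : Subgroup X) ≤ N := le_normalizer
  haveI : ((M : Subgroup X).subgroupOf N).Normal := normal_in_normalizer
  refine solv_quot ((M : Subgroup X).subgroupOf N) ?_ ?_
  · refine solv_of_comm ?_
    intro a b
    apply Subtype.ext
    apply Subtype.ext
    exact hM _ (mem_subgroupOf.1 a.2) _ (mem_subgroupOf.1 b.2)
  · apply Cfsg.Agent.S0205.result
    have h1 : Odd (M : Subgroup X).index := odd_index M
    have h2 : ((M : Subgroup X).subgroupOf N).index ∣ (M : Subgroup X).index := by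
      change (M : Subgroup X).relIndex N ∣ _
      exact Subgroup.relIndex_dvd_index_of_le hle
    exact Odd.of_dvd_nat h1 h2

/-- the solvability criterion -/
theorem xsol (M : Sylow 2 X) (hM : ∀ a ∈ (M : Subgroup X), ∀ b ∈ (M : Subgroup X), a * b = b * a)
    (hexp : ∀ a ∈ (M : Subgroup X), a * a = 1) (h8 : 8 ≤ Nat.card (M : Subgroup X))
    (h : ∀ g ∈ normalizer ((M : Subgroup X) : Set X), Odd (orderOf g) → ∀ a ∈ (M : Subgroup X), a ≠ 1 →
      g * a = a * g → ∀ b ∈ (M : Subgroup X), g * b = b * g)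
    (h3 : ∃ s t : X, orderOf s = 2 ∧ orderOf t = 2 ∧ ¬ IsConj s t) : Group.IsSolvable X := by
  classical
  haveI : Fact (Nat.Prime 2) := ⟨Nat.prime_two⟩
  -- the local structure
  have loc : ∀ a ∈ (M : Subgroup X), a ≠ 1 → ∃ K : Subgroup X, K ≤ centralizer {a} ∧ Odd (Nat.card K) ∧
      (∀ g ∈ centralizer ({a} : Set X), Odd (orderOf g) → g ∈ K) ∧
      centralizer ({a} : Set X) ≤ K ⊔ (M : Subgroup X) := by
    intro a ha ha1
    set C := centralizer ({a} : Set X) with hC
    have hMC : (M : Subgroup X) ≤ C := by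
      intro m hm
      rw [hC, mem_centralizer_singleton_iff]
      exact (hM a ha m hm).symm
    let M' : Sylow 2 C := M.subtype hMC
    have hM' : ∀ x : C, x ∈ (M' : Subgroup C) ↔ (x : X) ∈ (M : Subgroup X) := fun x => Iff.rfl
    obtain ⟨K, hKn, hKo, hKm, hsup⟩ := burn M'
      (fun x hx y hy => Subtype.ext (hM _ ((hM' x).1 hx) _ ((hM' y).1 hy)))
      (by
        intro g hg hodd b hb
        have hgN : (g : X) ∈ normalizer ((M : Subgroup X) : Set X) := by
          rw [mem_normalizer_iff]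
          intro x
          constructor
          · intro hx
            have h1 := (mem_normalizer_iff.1 hg ⟨x, hMC hx⟩).1 ((hM' _).2 hx)
            exact (hM' _).1 h1
          · intro hx
            have hxC : x ∈ C := by
              have h2 : (g : X) * x * (g : X)⁻¹ ∈ C := hMC hx
              have h3 := mul_mem (mul_mem (inv_mem g.2) h2) g.2
              have h4 : (g : X)⁻¹ * ((g : X) * x * (g : X)⁻¹) * (g : X) = x := by group
              rwa [h4] at h3
            have h1 := (mem_normalizer_iff.1 hg ⟨x, hxC⟩).2 ((hM' _).2 hx)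
            exact (hM' _).1 h1
        have hodd' : Odd (orderOf (g : X)) := by rwa [Subgroup.orderOf_coe]
        have hga : (g : X) * a = a * g := mem_centralizer_singleton_iff.1 g.2
        exact Subtype.ext (h g hgN hodd' a ha ha1 hga b ((hM' b).1 hb)))
    refine ⟨K.map C.subtype, map_subtype_le _, ?_, ?_, ?_⟩
    · rw [Subgroup.card_map_of_injective C.subtype_injective]; exact hKo
    · intro g hg hodd
      exact ⟨⟨g, hg⟩, hKm ⟨g, hg⟩ (by rwa [← Subgroup.orderOf_coe]), rfl⟩
    · intro g hg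
      have h1 : (⟨g, hg⟩ : C) ∈ K ⊔ (M' : Subgroup C) := hsup ▸ mem_top _
      have h2 : g ∈ (K ⊔ (M' : Subgroup C)).map C.subtype := ⟨⟨g, hg⟩, h1, rfl⟩
      rw [Subgroup.map_sup] at h2
      have h3 : K.map C.subtype ⊔ (M' : Subgroup C).map C.subtype ≤ K.map C.subtype ⊔ (M : Subgroup X) := by
        refine sup_le_sup_left ?_ _
        rintro _ ⟨y, hy, rfl⟩
        exact (hM' y).1 hy
      exact h3 h2
  choose! θ hθ1 hθ2 hθ3 hθ4 using loc
  have hθodd : ∀ a ∈ (M : Subgroup X), a ≠ 1 → ∀ x ∈ θ a, Odd (orderOf x) := by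
    intro a ha ha1 x hx
    have h1 : orderOf (⟨x, hx⟩ : θ a) ∣ Nat.card (θ a) := orderOf_dvd_natCard _
    rw [← Subgroup.orderOf_coe] at h1
    exact Odd.of_dvd_nat (hθ2 a ha ha1) h1
  have hodd_conj : ∀ c x : X, orderOf (c * x * c⁻¹) = orderOf x := by
    intro c x
    have := orderOf_injective (MulAut.conj c).toMonoidHom (MulAut.conj c).injective x
    simpa using this
  obtain ⟨hWodd, -⟩ := Cfsg.Agent.S0217.result (p := 2) (M : Subgroup X) hM
    (fun a ha => by rw [pow_two]; exact hexp a ha) (by norm_num; exact h8) θ hθ1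
    (fun a ha ha1 hdvd => by
      exact (Nat.not_even_iff_odd.2 (hθ2 a ha ha1)) (even_iff_two_dvd.2 hdvd))
    (fun a ha ha1 b hb x hx => by
      refine hθ3 a ha ha1 _ ?_ (by rw [hodd_conj]; exact hθodd a ha ha1 x hx)
      have h1 : x * a = a * x := mem_centralizer_singleton_iff.1 (hθ1 a ha ha1 hx)
      have h2 : b * a = a * b := hM b hb a ha
      rw [mem_centralizer_singleton_iff]
      have h2' : b⁻¹ * a = a * b⁻¹ := by
        rw [inv_mul_eq_iff_eq_mul, ← mul_assoc, h2, mul_assoc, mul_inv_cancel, mul_one]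
      calc b * x * b⁻¹ * a = b * x * (b⁻¹ * a) := by group
        _ = b * (x * a) * b⁻¹ := by rw [h2']; group
        _ = b * a * x * b⁻¹ := by rw [h1]; group
        _ = a * (b * x * b⁻¹) := by rw [h2]; group)
    (fun a ha ha1 => Cfsg.Agent.S0205.result (hθ2 a ha ha1))
    (fun a ha ha1 b hb hb1 x hx => by
      rw [mem_inf] at hx
      exact hθ3 b hb hb1 x hx.2 (hθodd a ha ha1 x hx.1))
  set W : Subgroup X := ⨆ a : {a : X // a ∈ (M : Subgroup X) ∧ a ≠ 1}, θ a with hW
  have hθW : ∀ a ∈ (M : Subgroup X), a ≠ 1 → θ a ≤ W := fun a ha ha1 =>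
    le_iSup (fun a : {a : X // a ∈ (M : Subgroup X) ∧ a ≠ 1} => θ a) ⟨a, ha, ha1⟩
  set N := normalizer ((M : Subgroup X) : Set X) with hN
  -- N normalises W
  have hNW : ∀ n ∈ N, ∀ x ∈ W, n * x * n⁻¹ ∈ W := by
    intro n hn
    have h1 : W ≤ W.comap (MulAut.conj n).toMonoidHom := by
      rw [hW]
      refine iSup_le ?_
      rintro ⟨a, ha, ha1⟩
      intro x hx
      rw [mem_comap]
      have ha' : n * a * n⁻¹ ∈ (M : Subgroup X) := (mem_normalizer_iff.1 hn a).1 ha
      have ha1' : n * a * n⁻¹ ≠ 1 := by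
        intro h0
        apply ha1
        have : a = n⁻¹ * (n * a * n⁻¹) * n := by group
        rw [this, h0]; group
      refine hθW _ ha' ha1' ?_
      refine hθ3 _ ha' ha1' _ ?_ ?_
      · rw [mem_centralizer_singleton_iff]
        have h1 : x * a = a * x := mem_centralizer_singleton_iff.1 (hθ1 a ha ha1 hx)
        change n * x * n⁻¹ * (n * a * n⁻¹) = n * a * n⁻¹ * (n * x * n⁻¹)
        calc n * x * n⁻¹ * (n * a * n⁻¹) = n * (x * a) * n⁻¹ := by group
          _ = n * a * n⁻¹ * (n * x * n⁻¹) := by rw [h1]; group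
      · change Odd (orderOf (n * x * n⁻¹))
        rw [hodd_conj]; exact hθodd a ha ha1 x hx
    intro x hx
    exact h1 hx
  set H := W ⊔ N with hH
  have hMN : (M : Subgroup X) ≤ N := le_normalizer
  have hMH : (M : Subgroup X) ≤ H := hMN.trans le_sup_right
  have hcH : ∀ a ∈ (M : Subgroup X), a ≠ 1 → centralizer ({a} : Set X) ≤ H := fun a ha ha1 =>
    (hθ4 a ha ha1).trans (sup_le ((hθW a ha ha1).trans le_sup_left) hMH)
  have hMeven : Even (Nat.card (M : Subgroup X)) := by
    obtain ⟨k, hk⟩ := M.2.exists_card_eq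
    rcases Nat.eq_zero_or_pos k with h0 | h0
    · rw [hk, h0] at h8; norm_num at h8
    · rw [hk]; exact Nat.even_pow.mpr ⟨even_two, h0.ne'⟩
  have hHtop : H = ⊤ := by
    by_contra hne
    have heven : Even (Nat.card H) := by
      rw [even_iff_two_dvd] at hMeven ⊢
      exact hMeven.trans (card_dvd_of_le hMH)
    -- involutions of H are conjugate in H into M
    have hin : ∀ t ∈ H, orderOf t = 2 → ∃ g ∈ H, g * t * g⁻¹ ∈ (M : Subgroup X) := by
      intro t ht ht2
      let M' : Sylow 2 H := M.subtype hMH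
      have h2 : IsPGroup 2 (zpowers (⟨t, ht⟩ : H)) := by
        apply IsPGroup.of_card (n := 1)
        rw [Nat.card_zpowers, ← Subgroup.orderOf_coe, pow_one]; exact ht2
      obtain ⟨Q, hQ⟩ := h2.exists_le_sylow
      obtain ⟨g, hg⟩ := MulAction.exists_smul_eq H Q M'
      refine ⟨g, g.2, ?_⟩
      have h4 : (⟨t, ht⟩ : H) ∈ (Q : Subgroup H) := hQ (mem_zpowers _)
      have h5 : MulAut.conj g • (⟨t, ht⟩ : H) ∈ MulAut.conj g • (Q : Subgroup H) :=
        Subgroup.smul_mem_pointwise_smul _ _ _ h4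
      have h6 : (M' : Subgroup H) = MulAut.conj g • (Q : Subgroup H) := by
        rw [← hg]; rfl
      rw [← h6] at h5
      exact h5
    have hSE : Cfsg.IsStronglyEmbedded H := by
      rw [Cfsg.Agent.S0223.result H hne heven]
      constructor
      · intro t ht ht2
        obtain ⟨g, hg, hgM⟩ := hin t ht ht2
        have ht1 : g * t * g⁻¹ ≠ 1 := by
          intro h0
          have : t = 1 := by
            have h1 : t = g⁻¹ * (g * t * g⁻¹) * g := by group
            rw [h1, h0]; group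
          rw [this, orderOf_one] at ht2; omega
        intro c hc
        rw [mem_centralizer_singleton_iff] at hc
        have h1 : g * c * g⁻¹ ∈ centralizer ({g * t * g⁻¹} : Set X) := by
          rw [mem_centralizer_singleton_iff]
          calc g * c * g⁻¹ * (g * t * g⁻¹) = g * (c * t) * g⁻¹ := by group
            _ = g * t * g⁻¹ * (g * c * g⁻¹) := by rw [hc]; group
        have h2 := hcH _ hgM ht1 h1
        have h4 : c = g⁻¹ * (g * c * g⁻¹) * g := by group
        rw [h4]
        exact mul_mem (mul_mem (inv_mem hg) h2) hg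
      · intro t ht s hs ht2 hs2 hts
        obtain ⟨g, hg, hgM⟩ := hin t ht ht2
        obtain ⟨k, hk, hkM⟩ := hin s hs hs2
        obtain ⟨c, hc⟩ := isConj_iff.1 hts
        haveI : IsMulCommutative (M : Subgroup X) := ⟨⟨fun a b => Subtype.ext (hM _ a.2 _ b.2)⟩⟩
        have h1 : (k * c * g⁻¹)⁻¹⁻¹ * (g * t * g⁻¹) * (k * c * g⁻¹)⁻¹ ∈ (M : Subgroup X) := by
          have : (k * c * g⁻¹)⁻¹⁻¹ * (g * t * g⁻¹) * (k * c * g⁻¹)⁻¹ = k * (c * t * c⁻¹) * k⁻¹ := by group
          rw [this, hc]; exact hkM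
        obtain ⟨n, hn, hn2⟩ := M.conj_eq_normalizer_conj_of_mem (g * t * g⁻¹) ((k * c * g⁻¹)⁻¹) hgM h1
        have h5 : k * s * k⁻¹ = n⁻¹ * (g * t * g⁻¹) * n := by
          rw [← hn2, ← hc]; group
        refine ⟨k⁻¹ * n⁻¹ * g, ?_, ?_⟩
        · exact mul_mem (mul_mem (inv_mem hk) (inv_mem ((le_sup_right : N ≤ H) hn))) hg
        · have h6 : s = k⁻¹ * (k * s * k⁻¹) * k := by group
          rw [h6, h5]; group
    obtain ⟨s, t, hs, ht, hst⟩ := h3
    exact hst (H25.StrEmb.isConj_of_involutions hSE hs ht)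
  -- W is normal
  haveI hWn : W.Normal := by
    rw [← normalizer_eq_top_iff, eq_top_iff, ← hHtop]
    refine sup_le le_normalizer ?_
    intro n hn
    rw [mem_normalizer_iff]
    intro x
    refine ⟨hNW n hn x, fun hx => ?_⟩
    have := hNW n⁻¹ (inv_mem hn) _ hx
    have h4 : n⁻¹ * (n * x * n⁻¹) * n⁻¹⁻¹ = x := by group
    rwa [h4] at this
  have hWodd' : Odd (Nat.card W) := by
    rw [← Nat.not_even_iff_odd, even_iff_two_dvd]; exact hWodd
  refine solv_quot W (Cfsg.Agent.S0205.result hWodd') ?_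
  haveI := solv_norm M hM
  let f : N →* X ⧸ W := (QuotientGroup.mk' W).comp N.subtype
  have hf : Function.Surjective f := by
    intro y
    obtain ⟨x, rfl⟩ := QuotientGroup.mk_surjective y
    have h1 : x ∈ W ⊔ N := by rw [← hH, hHtop]; exact mem_top x
    rw [← SetLike.mem_coe, Subgroup.normal_mul, Set.mem_mul] at h1
    obtain ⟨w, hw, n, hn, rfl⟩ := h1
    refine ⟨⟨n, hn⟩, ?_⟩
    change (n : X ⧸ W) = ((w * n : X) : X ⧸ W)
    rw [QuotientGroup.mk_mul, (QuotientGroup.eq_one_iff w).2 hw, one_mul]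
  exact Group.isSolvable_of_surjective hf

end H83.PyrF
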