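import Mathlib

set_option autoImplicit false
set_option linter.unusedVariables false
set_option linter.unusedSectionVars false
set_option linter.style.haveILetI false

/-!
# S3930, piece F: the square map of a 2-group with `Z = {x | x ^ 2 = 1}`, `|T| = |Z| ^ 3`
-/

namespace H83.PyrF

open Subgroup

variable {T : Type*} [Group T]

/-- the squares are central and the elements with square 1 are exactly the central ones -/
structure QT (T : Type*) [Group T] : Prop where
  sq : ∀ x : T, x * x ∈ center T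
  inv : ∀ x : T, x * x = 1 ↔ x ∈ center T

/-- commutator -/
def cm (x y : T) : T := x * y * x⁻¹ * y⁻¹

theorem cm_def (x y : T) : cm x y = x * y * x⁻¹ * y⁻¹ := rfl

theorem cm_eq_one {x y : T} : cm x y = 1 ↔ x * y = y * x := by
  rw [cm_def]
  constructor
  · intro h
    have : x * y = x * y * x⁻¹ * y⁻¹ * (y * x) := by group
    rw [this, h, one_mul]
  · intro h
    rw [h]; group

namespace QT

variable (Q : QT T)

include Q

theorem com {z : T} (hz : z ∈ center T) (x : T) : z * x = x * z := (mem_center_iff.1 hz x).symm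

theorem cm_mem (x y : T) : cm x y ∈ center T := by
  have h1 := Q.sq (x * y)
  have h2 := Q.sq x⁻¹
  have h3 := Q.sq y⁻¹
  have h4 : cm x y = (x * y * (x * y)) * ((x⁻¹ * x⁻¹) * (y⁻¹ * y⁻¹)) := by
    have h5 : y⁻¹ * (x⁻¹ * x⁻¹) = (x⁻¹ * x⁻¹) * y⁻¹ := (Q.com h2 y⁻¹).symm
    calc cm x y = x * y * (x * y) * (y⁻¹ * (x⁻¹ * x⁻¹) * y⁻¹) := by rw [cm_def]; group
      _ = (x * y * (x * y)) * ((x⁻¹ * x⁻¹) * (y⁻¹ * y⁻¹)) := by rw [h5]; group
  rw [h4]
  exact mul_mem h1 (mul_mem h2 h3)

theorem cm_mul_right (x y z : T) : cm x (y * z) = cm x y * cm x z := by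
  have h := Q.com (Q.cm_mem x z) y⁻¹
  calc cm x (y * z) = x * y * x⁻¹ * (cm x z * y⁻¹) := by rw [cm_def, cm_def]; group
    _ = x * y * x⁻¹ * (y⁻¹ * cm x z) := by rw [h]
    _ = cm x y * cm x z := by rw [cm_def x y]; group

theorem cm_sq (x y : T) : cm x y * cm x y = 1 := (Q.inv _).2 (Q.cm_mem x y)

theorem cm_inv (x y : T) : (cm x y)⁻¹ = cm x y := by
  rw [inv_eq_iff_mul_eq_one]; exact Q.cm_sq x y

theorem cm_symm (x y : T) : cm y x = cm x y := by
  rw [← Q.cm_inv x y, cm_def, cm_def]; group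

theorem cm_mul_left (x y z : T) : cm (x * y) z = cm x z * cm y z := by
  rw [Q.cm_symm z (x * y), Q.cm_mul_right, Q.cm_symm x z, Q.cm_symm y z]

theorem cm_one (x : T) : cm x 1 = 1 := by rw [cm_def]; group

theorem cm_self (x : T) : cm x x = 1 := by rw [cm_def]; group

theorem cm_inv_self (x : T) : cm x x⁻¹ = 1 := by rw [cm_def]; group

theorem mul_sq (x y : T) : x * y * (x * y) = cm x y * ((x * x) * (y * y)) := by
  have h2 := Q.sq x
  have h5 : x * y * (x * y) = cm x y * (y * (x * x) * y) := by rw [cm_def]; group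
  rw [h5, ← Q.com h2 y]; group

theorem cm_center {z : T} (hz : z ∈ center T) (x : T) : cm x z = 1 := by
  rw [cm_eq_one]; exact (Q.com hz x).symm

end QT

/-- an index two subgroup of the centre -/
structure Hyp (T : Type*) [Group T] (E : Subgroup T) : Prop where
  le : E ≤ center T
  ne : ∃ z ∈ center T, z ∉ E
  two : ∀ a ∈ center T, ∀ b ∈ center T, a ∉ E → b ∉ E → a * b ∈ E

open Classical in
/-- the character with kernel `E` -/
noncomputable def lam (E : Subgroup T) (x : T) : ℤ := if x ∈ E then 1 else -1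

theorem lam_mul {E : Subgroup T} (h : Hyp T E) {a b : T} (ha : a ∈ center T) (hb : b ∈ center T) :
    lam E (a * b) = lam E a * lam E b := by
  unfold lam
  by_cases h1 : a ∈ E
  · rw [if_pos h1]
    by_cases h2 : b ∈ E
    · rw [if_pos h2, if_pos (mul_mem h1 h2)]; rfl
    · rw [if_neg h2, if_neg (fun h3 => h2 ((mul_mem_cancel_left h1).1 h3))]; rfl
  · rw [if_neg h1]
    by_cases h2 : b ∈ E
    · rw [if_pos h2, if_neg (fun h3 => h1 ((mul_mem_cancel_right h2).1 h3))]; rfl
    · rw [if_neg h2, if_pos (h.two a ha b hb h1 h2)]; rfl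

theorem lam_one (E : Subgroup T) : lam E (1 : T) = 1 := by
  unfold lam; rw [if_pos (one_mem E)]

theorem lam_eq (E : Subgroup T) (x : T) : lam E x = 1 ∨ lam E x = -1 := by
  unfold lam
  by_cases h1 : x ∈ E
  · left; rw [if_pos h1]
  · right; rw [if_neg h1]

theorem lam_one_iff {E : Subgroup T} {x : T} : lam E x = 1 ↔ x ∈ E := by
  unfold lam
  by_cases h1 : x ∈ E
  · simp [h1]
  · simp [h1]

section sums

variable [Fintype T]

open Classical Finset

theorem sum_cm (Q : QT T) {E : Subgroup T} (h : Hyp T E) (w : T) :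
    ∑ x : T, lam E (cm x w) = if ∀ x, cm x w ∈ E then (Fintype.card T : ℤ) else 0 := by
  by_cases h1 : ∀ x, cm x w ∈ E
  · rw [if_pos h1, Finset.sum_congr rfl (fun x _ => lam_one_iff.2 (h1 x))]
    simp
  · rw [if_neg h1]
    push Not at h1
    obtain ⟨x0, hx0⟩ := h1
    have h2 : lam E (cm x0 w) = -1 := by
      unfold lam; rw [if_neg hx0]
    have h3 : ∑ x : T, lam E (cm x w) = ∑ x : T, lam E (cm (x0 * x) w) :=
      (Fintype.sum_equiv (Equiv.mulLeft x0) _ _ (fun x => rfl)).symm
    have h4 : ∑ x : T, lam E (cm (x0 * x) w) = - ∑ x : T, lam E (cm x w) := by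
      rw [← Finset.sum_neg_distrib]
      refine Finset.sum_congr rfl (fun x _ => ?_)
      rw [Q.cm_mul_left, lam_mul h (Q.cm_mem _ _) (Q.cm_mem _ _), h2]; ring
    omega

theorem sum_sq (Q : QT T) {E : Subgroup T} (h : Hyp T E) :
    (∑ x : T, lam E (x * x)) ^ 2 =
      (Fintype.card T : ℤ) * ∑ w : T, if ∀ x, cm x w ∈ E then lam E (w * w) else 0 := by
  have h1 : (∑ x : T, lam E (x * x)) ^ 2 = ∑ x : T, ∑ w : T, lam E (cm x w) * lam E (w * w) := by
    rw [sq, Finset.sum_mul_sum]
    refine Finset.sum_congr rfl (fun x _ => ?_)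
    rw [← Fintype.sum_equiv (Equiv.mulLeft x⁻¹) (fun w => lam E (x * x) * lam E ((x⁻¹ * w) * (x⁻¹ * w)))
      (fun y => lam E (x * x) * lam E (y * y)) (fun w => rfl)]
    refine Finset.sum_congr rfl (fun w _ => ?_)
    rw [← lam_mul h (Q.sq _) (Q.sq _), ← lam_mul h (Q.cm_mem _ _) (Q.sq _)]
    congr 1
    have h2 := Q.mul_sq x (x⁻¹ * w)
    rw [Q.cm_mul_right, Q.cm_inv_self, one_mul, mul_inv_cancel_left] at h2
    rw [h2, ← mul_assoc (cm x w) (cm x w), Q.cm_sq, one_mul]
  rw [h1, Finset.sum_comm, Finset.mul_sum]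
  refine Finset.sum_congr rfl (fun w _ => ?_)
  rw [← Finset.sum_mul, sum_cm Q h w]
  split_ifs <;> ring

/-- number of square roots -/
noncomputable def nr (e : T) : ℕ := (univ.filter (fun x : T => x * x = e)).card

theorem sum_fib (Q : QT T) (f : T → ℤ) :
    ∑ x : T, f (x * x) = ∑ e ∈ univ.filter (fun e : T => e ∈ center T), (nr e : ℤ) * f e := by
  rw [← Finset.sum_fiberwise_of_maps_to (s := univ) (t := univ.filter (fun e : T => e ∈ center T))
    (g := fun x : T => x * x) (fun x _ => by simpa using Q.sq x)]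
  refine Finset.sum_congr rfl (fun e _ => ?_)
  rw [Finset.sum_congr rfl (g := fun _ => f e)]
  · rw [Finset.sum_const, nsmul_eq_mul]; rfl
  · intro x hx
    rw [(Finset.mem_filter.1 hx).2]

theorem nr_one (Q : QT T) : nr (1 : T) = (univ.filter (fun e : T => e ∈ center T)).card := by
  unfold nr
  congr 1
  ext x
  simp [Q.inv x]

theorem nr_aut (α : MulAut T) (e : T) : nr (α e) = nr e := by
  unfold nr
  symm
  refine Finset.card_bij (fun x _ => α x) ?_ ?_ ?_
  · intro x hx
    rw [Finset.mem_filter] at hx ⊢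
    refine ⟨mem_univ _, ?_⟩
    rw [← map_mul, hx.2]
  · intro x _ y _ hxy
    exact α.injective hxy
  · intro y hy
    rw [Finset.mem_filter] at hy
    refine ⟨α.symm y, ?_, by simp⟩
    rw [Finset.mem_filter]
    refine ⟨mem_univ _, ?_⟩
    apply α.injective
    rw [map_mul, MulEquiv.apply_symm_apply, hy.2]

theorem sum_lam_center {E : Subgroup T} (h : Hyp T E) :
    ∑ e ∈ univ.filter (fun e : T => e ∈ center T), lam E e = 0 := by
  obtain ⟨z, hz, hzE⟩ := h.ne
  have h2 : lam E z = -1 := by unfold lam; rw [if_neg hzE]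
  have h3 : ∑ e ∈ univ.filter (fun e : T => e ∈ center T), lam E e =
      ∑ e ∈ univ.filter (fun e : T => e ∈ center T), lam E (z * e) := by
    symm
    refine Finset.sum_bij (fun e _ => z * e) ?_ ?_ ?_ ?_
    · intro e he
      rw [Finset.mem_filter] at he ⊢
      exact ⟨mem_univ _, mul_mem hz he.2⟩
    · intro a _ b _ hab
      exact mul_left_cancel hab
    · intro b hb
      rw [Finset.mem_filter] at hb
      refine ⟨z⁻¹ * b, ?_, by group⟩
      rw [Finset.mem_filter]
      exact ⟨mem_univ _, mul_mem (inv_mem hz) hb.2⟩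
    · intro a _
      rfl
  have h4 : ∑ e ∈ univ.filter (fun e : T => e ∈ center T), lam E (z * e) =
      - ∑ e ∈ univ.filter (fun e : T => e ∈ center T), lam E e := by
    rw [← Finset.sum_neg_distrib]
    refine Finset.sum_congr rfl (fun x hx => ?_)
    rw [lam_mul h hz (Finset.mem_filter.1 hx).2, h2]; ring
  omega

theorem card_center' : (univ.filter (fun e : T => e ∈ center T)).card = Nat.card (center T) := by
  rw [Nat.card_eq_fintype_card, Fintype.card_subtype]

/-- the value of the sum -/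
theorem sum_val (Q : QT T) (hcard : Nat.card T = Nat.card (center T) ^ 3) (h4 : 2 ≤ Nat.card (center T))
    (hT : ∀ e ∈ center T, ∀ f ∈ center T, e ≠ 1 → f ≠ 1 → ∃ α : MulAut T, α e = f)
    {E : Subgroup T} (h : Hyp T E) :
    ∑ x : T, lam E (x * x) = - (Nat.card (center T) : ℤ) ^ 2 := by
  set q := Nat.card (center T) with hq
  obtain ⟨z, hz, hzE⟩ := h.ne
  have hz1 : z ≠ 1 := fun h0 => hzE (h0 ▸ one_mem E)
  set N := nr z with hN
  set s := univ.filter (fun e : T => e ∈ center T) with hs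
  have hsc : s.card = q := card_center'
  have h1s : (1 : T) ∈ s := by rw [hs, Finset.mem_filter]; exact ⟨mem_univ _, one_mem _⟩
  have hNe : ∀ e ∈ s.erase 1, nr e = N := by
    intro e he
    rw [Finset.mem_erase, hs, Finset.mem_filter] at he
    obtain ⟨α, hα⟩ := hT z hz e he.2.2 hz1 he.1
    rw [← hα, nr_aut]
  have hn1 : nr (1 : T) = q := by rw [nr_one Q]; exact hsc
  -- total
  have htot : (Nat.card T : ℤ) = q + (q - 1) * N := by
    have h5 := sum_fib Q (fun _ => 1)
    simp only [mul_one, Finset.sum_const, Finset.card_univ, nsmul_eq_mul] at h5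
    rw [← Finset.add_sum_erase s _ h1s, hn1] at h5
    rw [Nat.card_eq_fintype_card, h5]
    congr 1
    rw [Finset.sum_congr rfl (g := fun _ => (N : ℤ)) (fun e he => by rw [hNe e he]), Finset.sum_const,
      Finset.card_erase_of_mem h1s, hsc, nsmul_eq_mul, Nat.cast_sub (by omega)]
    push_cast; ring
  have hN' : (N : ℤ) = q * (q + 1) := by
    have h5 : ((q : ℤ) - 1) * N = (q - 1) * (q * (q + 1)) := by
      have h6 : (Nat.card T : ℤ) = (q : ℤ) ^ 3 := by exact_mod_cast hcard
      rw [h6] at htot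
      linear_combination -htot
    have h7 : ((q : ℤ) - 1) ≠ 0 := by
      have : (2 : ℤ) ≤ q := by exact_mod_cast h4
      omega
    exact mul_left_cancel₀ h7 h5
  rw [sum_fib Q, ← Finset.add_sum_erase s _ h1s, hn1, lam_one]
  have h8 : ∑ x ∈ s.erase 1, (nr x : ℤ) * lam E x = N * ∑ x ∈ s.erase 1, lam E x := by
    rw [Finset.mul_sum]
    exact Finset.sum_congr rfl (fun e he => by rw [hNe e he])
  have h9 : ∑ x ∈ s.erase 1, lam E x = -1 := by
    have h10 := sum_lam_center h
    rw [← hs, ← Finset.add_sum_erase s _ h1s, lam_one] at h10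
    omega
  rw [h8, h9, hN']
  ring

/-- the radical -/
theorem rad (Q : QT T) (hcard : Nat.card T = Nat.card (center T) ^ 3) (h4 : 2 ≤ Nat.card (center T))
    (hT : ∀ e ∈ center T, ∀ f ∈ center T, e ≠ 1 → f ≠ 1 → ∃ α : MulAut T, α e = f)
    {E : Subgroup T} (h : Hyp T E) {w : T} (hw : w ∉ center T) : ∃ x, cm x w ∉ E := by
  by_contra hcon
  push Not at hcon
  set q := Nat.card (center T) with hq
  have hq0 : (0 : ℤ) < q := by exact_mod_cast (by omega : 0 < q)
  have h1 := sum_sq Q h
  rw [sum_val Q hcard h4 hT h] at h1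
  have h2 : (Fintype.card T : ℤ) = (q : ℤ) ^ 3 := by
    rw [← Nat.card_eq_fintype_card]; exact_mod_cast hcard
  rw [h2] at h1
  set R := univ.filter (fun w : T => ∀ x, cm x w ∈ E) with hR
  rw [← Finset.sum_filter, ← hR] at h1
  have h3 : ∑ w ∈ R, lam E (w * w) = q := by
    have h5 : (q : ℤ) ^ 3 * (∑ w ∈ R, lam E (w * w)) = (q : ℤ) ^ 3 * q := by
      rw [← h1]; ring
    exact mul_left_cancel₀ (by positivity) h5
  have hRmul : ∀ u ∈ R, ∀ v ∈ R, u * v ∈ R := by
    intro u hu v hv
    rw [hR, Finset.mem_filter] at hu hv ⊢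
    refine ⟨mem_univ _, fun x => ?_⟩
    rw [Q.cm_mul_right]
    exact mul_mem (hu.2 x) (hv.2 x)
  have hRinv : ∀ u ∈ R, u⁻¹ ∈ R := by
    intro u hu
    rw [hR, Finset.mem_filter] at hu ⊢
    refine ⟨mem_univ _, fun x => ?_⟩
    have h6 : cm x u * cm x u⁻¹ = 1 := by rw [← Q.cm_mul_right, mul_inv_cancel, Q.cm_one]
    rw [← inv_eq_of_mul_eq_one_right h6]
    exact inv_mem (hu.2 x)
  by_cases h6 : ∃ u ∈ R, lam E (u * u) = -1
  · obtain ⟨u, hu, hu1⟩ := h6
    have h7 : ∑ w ∈ R, lam E (w * w) = ∑ w ∈ R, lam E (u * w * (u * w)) := by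
      symm
      refine Finset.sum_bij (fun e _ => u * e) ?_ ?_ ?_ ?_
      · intro e he
        exact hRmul u hu e he
      · intro a _ b _ hab
        exact mul_left_cancel hab
      · intro b hb
        exact ⟨u⁻¹ * b, hRmul _ (hRinv u hu) _ hb, by group⟩
      · intro a _
        rfl
    have h8 : ∑ w ∈ R, lam E (u * w * (u * w)) = - ∑ w ∈ R, lam E (w * w) := by
      rw [← Finset.sum_neg_distrib]
      refine Finset.sum_congr rfl (fun v hv => ?_)
      rw [Q.mul_sq, lam_mul h (Q.cm_mem _ _) (mul_mem (Q.sq _) (Q.sq _)), lam_mul h (Q.sq _) (Q.sq _), hu1]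
      rw [hR, Finset.mem_filter] at hv
      rw [lam_one_iff.2 (hv.2 u)]; ring
    omega
  · push Not at h6
    have h7 : ∑ w ∈ R, lam E (w * w) = R.card := by
      rw [Finset.sum_congr rfl (g := fun _ => (1 : ℤ))]
      · simp
      · intro u hu
        rcases lam_eq E (u * u) with h8 | h8
        · exact h8
        · exact absurd h8 (h6 u hu)
    have h8 : (univ.filter (fun e : T => e ∈ center T)) ⊂ R := by
      rw [Finset.ssubset_iff_of_subset]
      · refine ⟨w, ?_, ?_⟩
        · rw [hR, Finset.mem_filter]; exact ⟨mem_univ _, hcon⟩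
        · rw [Finset.mem_filter]; exact fun h => hw h.2
      · intro z hz
        rw [Finset.mem_filter] at hz
        rw [hR, Finset.mem_filter]
        refine ⟨mem_univ _, fun x => ?_⟩
        rw [Q.cm_center hz.2]; exact one_mem _
    have h9 := Finset.card_lt_card h8
    rw [card_center', ← hq] at h9
    rw [h7] at h3
    have : R.card = q := by exact_mod_cast h3
    omega

end sums

end H83.PyrF
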