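import Cfsg.Agent.Lib.H83.PyrF2

set_option autoImplicit false
set_option linter.unusedVariables false
set_option linter.unusedSectionVars false
set_option linter.style.haveILetI false

/-!
# S3930, piece F: automorphisms of odd order of such a 2-group
-/

namespace H83.PyrF

open Subgroup

variable {T : Type*} [Group T]

/-- a proper subgroup of the centre is contained in a subgroup of index two -/
theorem exists_hyp [Finite T] (Q : QT T) (K : Subgroup T) (hK : K ≤ center T) (hne : K ≠ center T) :
    ∃ E : Subgroup T, K ≤ E ∧ Hyp T E := by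
  have h1 : K.subgroupOf (center T) ≠ ⊤ := by
    rw [Ne, subgroupOf_eq_top]
    exact fun h => hne (le_antisymm hK h)
  rcases eq_top_or_exists_le_coatom (K.subgroupOf (center T)) with h2 | ⟨M, hM, hKM⟩
  · exact absurd h2 h1
  refine ⟨M.map (center T).subtype, ?_, ?_, ?_, ?_⟩
  · intro k hk
    exact ⟨⟨k, hK hk⟩, hKM (mem_subgroupOf.2 hk), rfl⟩
  · exact map_subtype_le _
  · have h3 : M ≠ ⊤ := hM.1
    obtain ⟨z, hz⟩ : ∃ z : center T, z ∉ M := by
      by_contra hcon
      push Not at hcon
      exact h3 (eq_top_iff.2 (fun z _ => hcon z))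
    refine ⟨z, z.2, ?_⟩
    rintro ⟨y, hy, hyz⟩
    have : y = z := Subtype.ext hyz
    rw [this] at hy
    exact hz hy
  · intro a ha b hb haM hbM
    have key : ∀ c : center T, c ∉ M → ∀ d : center T, d ∉ M → c * d ∈ M := by
      intro c hc d hd
      have h4 : M ⊔ zpowers c = ⊤ := by
        apply hM.2
        refine lt_of_le_of_ne le_sup_left ?_
        intro h5
        exact hc (h5 ▸ (le_sup_right : zpowers c ≤ M ⊔ zpowers c) (mem_zpowers c))
      have h5 : d ∈ M ⊔ zpowers c := h4 ▸ mem_top d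
      have hcomm : ∀ u v : center T, u * v = v * u := fun u v =>
        Subtype.ext (Q.com u.2 v)
      have hnor : M.Normal := ⟨fun n hn g => by rw [hcomm g n, mul_assoc, mul_inv_cancel, mul_one]; exact hn⟩
      rw [← SetLike.mem_coe, Subgroup.normal_mul, Set.mem_mul] at h5
      obtain ⟨m, hm, y, hy, rfl⟩ := h5
      have hcc : c * c = 1 := Subtype.ext ((Q.inv _).2 c.2)
      obtain ⟨k, rfl⟩ := mem_zpowers_iff.1 hy
      rcases Int.even_or_odd k with ⟨j, hj⟩ | ⟨j, hj⟩
      · exfalso
        apply hd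
        have : c ^ k = 1 := by
          rw [hj, ← two_mul, zpow_mul, zpow_two, hcc, one_zpow]
        rw [this, mul_one]; exact hm
      · have : c ^ k = c := by
          rw [hj, zpow_add, zpow_mul, zpow_two, hcc, one_zpow, one_mul, zpow_one]
        rw [this, hcomm m c, ← mul_assoc, hcc, one_mul]; exact hm
    have h6 := key ⟨a, ha⟩ (fun h => haM ⟨⟨a, ha⟩, h, rfl⟩) ⟨b, hb⟩ (fun h => hbM ⟨⟨b, hb⟩, h, rfl⟩)
    exact ⟨_, h6, rfl⟩

/-- `x ↦ [x, w]` as a homomorphism -/
def cmHom (Q : QT T) (w : T) : T →* T where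
  toFun x := cm x w
  map_one' := by rw [cm_def]; group
  map_mul' x y := Q.cm_mul_left x y w

theorem cmHom_apply (Q : QT T) (w x : T) : cmHom Q w x = cm x w := rfl

/-- assumptions of the case `|T| = |Z| ^ 3` -/
structure Cub (T : Type*) [Group T] : Prop extends QT T where
  card : Nat.card T = Nat.card (center T) ^ 3
  two : 2 ≤ Nat.card (center T)
  tr : ∀ e ∈ center T, ∀ f ∈ center T, e ≠ 1 → f ≠ 1 → ∃ α : MulAut T, α e = f

variable [Finite T]

theorem Cub.range (D : Cub T) {w : T} (hw : w ∉ center T) : (cmHom D.toQT w).range = center T := by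
  classical
  haveI : Fintype T := Fintype.ofFinite T
  by_contra hne
  have hle : (cmHom D.toQT w).range ≤ center T := by
    rintro _ ⟨x, rfl⟩
    exact D.toQT.cm_mem x w
  obtain ⟨E, hE, hyp⟩ := exists_hyp D.toQT _ hle hne
  obtain ⟨x, hx⟩ := rad D.toQT D.card D.two D.tr hyp hw
  exact hx (hE ⟨x, rfl⟩)

theorem Cub.card_ker (D : Cub T) {w : T} (hw : w ∉ center T) :
    Nat.card (cmHom D.toQT w).ker = Nat.card (center T) ^ 2 := by
  have h1 := (cmHom D.toQT w).ker.card_mul_index
  rw [Subgroup.index_ker, D.range hw, D.card] at h1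
  have h2 : 0 < Nat.card (center T) := Nat.card_pos
  have h3 : Nat.card (cmHom D.toQT w).ker * Nat.card (center T) =
      Nat.card (center T) ^ 2 * Nat.card (center T) := by rw [h1]; ring
  exact Nat.eq_of_mul_eq_mul_right h2 h3

/-- fixed points -/
def fixS (h : MulAut T) : Subgroup T where
  carrier := {x | h x = x}
  mul_mem' := by
    intro a b ha hb
    rw [Set.mem_ofPred_eq] at ha hb ⊢
    rw [map_mul, ha, hb]
  one_mem' := map_one h
  inv_mem' := by
    intro a ha
    rw [Set.mem_ofPred_eq] at ha ⊢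
    rw [map_inv, ha]

theorem mem_fixS {h : MulAut T} {x : T} : x ∈ fixS h ↔ h x = x := Iff.rfl

/-- the main point: an automorphism of odd prime order which fixes `Z` and a non-central element -/
theorem Cub.aut_prime (D : Cub T) (h2 : IsPGroup 2 T) {r : ℕ} (hr : r.Prime) (hr2 : r ≠ 2) (h : MulAut T)
    (hh : h ^ r = 1) (hZ : ∀ z ∈ center T, h z = z) {w : T} (hw : w ∉ center T) (hfw : h w = w) : h = 1 := by
  classical
  haveI : Fintype T := Fintype.ofFinite T
  haveI : Fact r.Prime := ⟨hr⟩
  haveI : Fact (Nat.Prime 2) := ⟨Nat.prime_two⟩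
  by_contra hne
  have Q := D.toQT
  -- an element moved outside the centre
  obtain ⟨t, ht⟩ : ∃ t : T, t⁻¹ * h t ∉ center T := by
    by_contra hcon
    push Not at hcon
    apply hne
    have hsq : h ^ 2 = 1 := by
      ext t
      rw [pow_two, MulAut.mul_apply, MulAut.one_apply]
      have h3 := hcon t
      have h4 : h t = t * (t⁻¹ * h t) := by group
      have h5 : (t⁻¹ * h t) * (t⁻¹ * h t) = 1 := (Q.inv _).2 h3
      have h6 : h (t⁻¹ * h t) = t⁻¹ * h t := hZ _ h3
      calc h (h t) = h (t * (t⁻¹ * h t)) := by rw [← h4]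
        _ = h t * (t⁻¹ * h t) := by rw [map_mul, h6]
        _ = t * (t⁻¹ * h t) * (t⁻¹ * h t) := by rw [← h4]
        _ = t := by rw [mul_assoc, h5, mul_one]
    have h3 : Nat.Coprime 2 r := (Nat.coprime_primes Nat.prime_two hr).2 (Ne.symm hr2)
    have h4 : orderOf h ∣ 1 := by
      rw [← h3]
      exact Nat.dvd_gcd (orderOf_dvd_of_pow_eq_one hsq) (orderOf_dvd_of_pow_eq_one hh)
    exact orderOf_eq_one_iff.1 (Nat.dvd_one.1 h4)
  set v := t⁻¹ * h t with hv
  set Y := fixS h with hY
  -- Y centralises v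
  have hcm : ∀ x y, h (cm x y) = cm x y := fun x y => hZ _ (Q.cm_mem x y)
  have hYv : Y ≤ (cmHom Q v).ker := by
    intro x hx
    rw [MonoidHom.mem_ker, cmHom_apply, hv, Q.cm_mul_right]
    have h3 : cm x (h t) = cm x t := by
      have h4 := hcm x t
      rw [cm_def, map_mul, map_mul, map_mul, map_inv, map_inv, mem_fixS.1 hx] at h4
      rw [cm_def, h4, cm_def]
    have h5 : cm x t⁻¹ * cm x t = 1 := by rw [← Q.cm_mul_right, inv_mul_cancel, Q.cm_one]
    rw [h3, h5]
  have hYcard : Nat.card Y ≤ Nat.card (center T) ^ 2 := by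
    rw [← D.card_ker ht]
    exact Nat.card_le_card_of_injective _ (Subgroup.inclusion_injective hYv)
  -- the fibres
  have hfib : ∀ z ∈ center T, ∃ y ∈ Y, cm y w = z := by
    intro z hz
    have hz' : z ∈ (cmHom Q w).range := by rw [D.range hw]; exact hz
    obtain ⟨x0, hx0⟩ := hz'
    rw [cmHom_apply] at hx0
    let F := {x : T // cm x w = z}
    let e : F ≃ (cmHom Q w).ker :=
      { toFun := fun x => ⟨x0⁻¹ * x.1, by
          rw [MonoidHom.mem_ker, map_mul, map_inv, cmHom_apply, cmHom_apply, hx0, x.2, inv_mul_cancel]⟩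
        invFun := fun y => ⟨x0 * y.1, by
          have := y.2
          rw [MonoidHom.mem_ker, cmHom_apply] at this
          rw [Q.cm_mul_left, this, hx0, mul_one]⟩
        left_inv := fun x => by apply Subtype.ext; simp
        right_inv := fun y => by apply Subtype.ext; simp }
    have hFc : Fintype.card F = Nat.card (center T) ^ 2 := by
      rw [← D.card_ker hw, Nat.card_eq_fintype_card]
      exact Fintype.card_congr e
    have hF2 : ¬ r ∣ Fintype.card F := by
      rw [hFc]
      intro h3
      have h4 := hr.dvd_of_dvd_pow h3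
      obtain ⟨k, hk⟩ := (h2.to_subgroup (center T)).exists_card_eq
      rw [hk] at h4
      have h5 := hr.dvd_of_dvd_pow h4
      exact hr2 ((Nat.prime_dvd_prime_iff_eq hr Nat.prime_two).1 h5)
    have hinv : ∀ (g : MulAut T), (∀ x y, g (cm x y) = cm x y) → g w = w → ∀ x, cm x w = z → cm (g x) w = z := by
      intro g hg hgw x hx
      have h4 := hg x w
      rw [cm_def, map_mul, map_mul, map_mul, map_inv, map_inv, hgw] at h4
      rw [cm_def, h4, ← cm_def]; exact hx
    have hinv' : ∀ x y, h⁻¹ (cm x y) = cm x y := by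
      intro x y
      have := hcm x y
      conv_lhs => rw [← this]
      exact MulAut.inv_apply_self T h _
    have hfw' : h⁻¹ w = w := by
      conv_lhs => rw [← hfw]
      exact MulAut.inv_apply_self T h _
    let σ : Equiv.Perm F :=
      { toFun := fun x => ⟨h x.1, hinv h hcm hfw x.1 x.2⟩
        invFun := fun x => ⟨h⁻¹ x.1, hinv h⁻¹ hinv' hfw' x.1 x.2⟩
        left_inv := fun x => by apply Subtype.ext; exact MulAut.inv_apply_self T h _
        right_inv := fun x => by apply Subtype.ext; exact MulAut.apply_inv_self T h _ }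
    have hσ : ∀ (n : ℕ) (x : F), ((σ ^ n) x).1 = (h ^ n) x.1 := by
      intro n
      induction n with
      | zero => intro x; rfl
      | succ n ih =>
        intro x
        rw [pow_succ, Equiv.Perm.mul_apply, ih, pow_succ, MulAut.mul_apply]
        rfl
    have hσ1 : σ ^ r ^ 1 = 1 := by
      ext x
      rw [pow_one, hσ, hh]; rfl
    obtain ⟨a, ha⟩ := Equiv.Perm.exists_fixed_point_of_prime hF2 hσ1
    refine ⟨a.1, ?_, a.2⟩
    rw [hY, mem_fixS]
    exact congrArg Subtype.val ha
  -- count in Y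
  let ψ : Y →* T := (cmHom Q w).comp Y.subtype
  have hψr : ψ.range = center T := by
    apply le_antisymm
    · rintro _ ⟨x, rfl⟩
      exact Q.cm_mem _ _
    · intro z hz
      obtain ⟨y, hy, hyz⟩ := hfib z hz
      exact ⟨⟨y, hy⟩, hyz⟩
  have hYc : Nat.card Y = Nat.card ψ.ker * Nat.card (center T) := by
    rw [← ψ.ker.card_mul_index, Subgroup.index_ker, hψr]
  have hZY : ∀ z ∈ center T, z ∈ Y := fun z hz => mem_fixS.2 (hZ z hz)
  have hinj : ∃ f : Option (center T) → ψ.ker, Function.Injective f := by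
    have hw0 : (⟨w, mem_fixS.2 hfw⟩ : Y) ∈ ψ.ker := by
      rw [MonoidHom.mem_ker]; exact Q.cm_self w
    have hz0 : ∀ z : center T, (⟨z.1, hZY z.1 z.2⟩ : Y) ∈ ψ.ker := by
      intro z
      rw [MonoidHom.mem_ker]
      change cm z.1 w = 1
      rw [cm_eq_one]; exact Q.com z.2 w
    refine ⟨fun o => match o with
      | none => ⟨⟨w, mem_fixS.2 hfw⟩, hw0⟩
      | some z => ⟨⟨z.1, hZY z.1 z.2⟩, hz0 z⟩, ?_⟩
    intro a b hab
    cases a with
    | none =>
      cases b with
      | none => rfl
      | some z =>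
        exfalso
        have : w = z.1 := congrArg (fun x : ψ.ker => (x.1.1 : T)) hab
        exact hw (this ▸ z.2)
    | some z =>
      cases b with
      | none =>
        exfalso
        have : z.1 = w := congrArg (fun x : ψ.ker => (x.1.1 : T)) hab
        exact hw (this ▸ z.2)
      | some z' =>
        have : z.1 = z'.1 := congrArg (fun x : ψ.ker => (x.1.1 : T)) hab
        rw [Subtype.ext this]
  obtain ⟨f, hf⟩ := hinj
  have h6 := Nat.card_le_card_of_injective f hf
  rw [Finite.card_option] at h6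
  have h7 : 0 < Nat.card (center T) := Nat.card_pos
  rw [hYc] at hYcard
  nlinarith

/-- an automorphism of odd order which fixes `Z` and a non-central element is trivial -/
theorem Cub.aut_odd (D : Cub T) (h2 : IsPGroup 2 T) (h : MulAut T) (hodd : Odd (orderOf h))
    (hZ : ∀ z ∈ center T, h z = z) {w : T} (hw : w ∉ center T) (hfw : h w = w) : h = 1 := by
  by_contra hne
  have h1 : orderOf h ≠ 1 := fun h0 => hne (orderOf_eq_one_iff.1 h0)
  obtain ⟨r, hr, hdvd⟩ := Nat.exists_prime_and_dvd h1
  have hr2 : r ≠ 2 := by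
    rintro rfl
    exact (Nat.not_even_iff_odd.2 hodd) (even_iff_two_dvd.2 hdvd)
  obtain ⟨m, hm⟩ := hdvd
  have hpos : 0 < orderOf h := hodd.pos
  have hfix : ∀ x, h x = x → ∀ n : ℕ, (h ^ n) x = x := by
    intro x hx n
    induction n with
    | zero => rfl
    | succ n ih => rw [pow_succ, MulAut.mul_apply, hx, ih]
  have h3 : h ^ m = 1 := by
    refine D.aut_prime h2 hr hr2 (h ^ m) ?_ (fun z hz => hfix z (hZ z hz) m) hw (hfix w hfw m)
    rw [← pow_mul, mul_comm m r, ← hm, pow_orderOf_eq_one]
  have h4 : orderOf h ∣ m := orderOf_dvd_of_pow_eq_one h3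
  have hm0 : 0 < m := by
    rcases Nat.eq_zero_or_pos m with h5 | h5
    · rw [h5] at hm; omega
    · exact h5
  have h5 := Nat.le_of_dvd hm0 h4
  have h6 := hr.two_le
  nlinarith

end H83.PyrF
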