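import Cfsg.Agent.S3776
import Cfsg.Agent.Lib.H16.Suz9
import Cfsg.Agent.Lib.H83.PyrF1
import Cfsg.Agent.Lib.H83.PyrF3

set_option autoImplicit false
set_option linter.unusedVariables false
set_option linter.unusedSectionVars false
set_option linter.style.haveILetI false

/-!
# S3930, piece F: the order of such a 2-group
-/

namespace H83.PyrF

open Subgroup
open scoped commutatorElement

theorem qt_of {T : Type*} [Group T] [Finite T] (h2 : IsPGroup 2 T) (hna : ∃ x y : T, x * y ≠ y * x)
    (htwo : ∃ x y : T, x ≠ y ∧ x ≠ 1 ∧ x * x = 1 ∧ y ≠ 1 ∧ y * y = 1) (β : MulAut T)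
    (htr : ∀ x y : T, x ≠ 1 → x * x = 1 → y ≠ 1 → y * y = 1 → ∃ k : ℤ, (β ^ k) x = y) : QT T := by
  obtain ⟨h3, h4, h5⟩ := Cfsg.Agent.S3776.result (G := T) h2
    (fun h => by
      obtain ⟨x, y, hxy⟩ := hna
      exact hxy (h.is_comm.comm x y))
    (by
      obtain ⟨x, y, h1, h2, h3, h4, h5⟩ := htwo
      exact ⟨x, y, h1, h2, by rw [pow_two]; exact h3, h4, by rw [pow_two]; exact h5⟩)
    ⟨zpowers β, solv_of_comm (fun a b => by
      obtain ⟨i, hi⟩ := mem_zpowers_iff.1 a.2
      obtain ⟨j, hj⟩ := mem_zpowers_iff.1 b.2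
      apply Subtype.ext
      change (a : MulAut T) * (b : MulAut T) = (b : MulAut T) * (a : MulAut T)
      rw [← hi, ← hj, ← zpow_add, ← zpow_add, add_comm]), fun x y hx hx2 hy hy2 => by
      obtain ⟨k, hk⟩ := htr x y hx (by rw [← pow_two]; exact hx2) hy (by rw [← pow_two]; exact hy2)
      exact ⟨β ^ k, zpow_mem (mem_zpowers β) k, hk⟩⟩
  have h6 : commutator T = center T := h3.trans h4
  have h7 : ∀ x : T, x * x = 1 ↔ x ∈ center T := fun x => by rw [h5 x, pow_two]
  refine ⟨?_, h7⟩
  intro x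
  rw [mem_center_iff]
  intro y
  have h8 : ⁅x, y⁆ ∈ center T := by
    rw [← h6]
    exact commutator_mem_commutator (mem_top x) (mem_top y)
  have h9 : ⁅x, y⁆ * ⁅x, y⁆ = 1 := (h7 _).2 h8
  have h10 : x * y * x⁻¹ = ⁅x, y⁆ * y := by rw [commutatorElement_def]; group
  have h11 : x * ⁅x, y⁆ = ⁅x, y⁆ * x := mem_center_iff.1 h8 x
  have h12 : x * x * y = y * (x * x) := by
    calc x * x * y = x * (x * y * x⁻¹) * x := by group
      _ = (x * ⁅x, y⁆) * y * x := by rw [h10]; group
      _ = ⁅x, y⁆ * (x * y * x⁻¹) * x * x := by rw [h11]; group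
      _ = (⁅x, y⁆ * ⁅x, y⁆) * y * x * x := by rw [h10]; group
      _ = y * (x * x) := by rw [h9]; group
  exact h12.symm

variable {T : Type*} [Group T] [Finite T]

theorem QT.card_le (Q : QT T) {n : ℕ} (hn : Nat.card (center T) = 2 ^ n) :
    Nat.card T ≤ (2 ^ n) ^ 3 := by
  classical
  have hsqV : ∀ v : T ⧸ center T, v * v = 1 := by
    intro v
    induction v using QuotientGroup.induction_on with
    | H x => exact (QuotientGroup.eq_one_iff _).mpr (Q.sq x)
  have hcomm : ∀ v w : T ⧸ center T, v * w = w * v := by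
    intro v w
    have h1 := hsqV (v * w)
    have h2 : v * w = (v * w)⁻¹ := eq_inv_of_mul_eq_one_left h1
    have h3 : v⁻¹ = v := inv_eq_of_mul_eq_one_left (hsqV v)
    have h4 : w⁻¹ = w := inv_eq_of_mul_eq_one_left (hsqV w)
    rw [h2, mul_inv_rev, h3, h4]
  let _ : CommGroup (T ⧸ center T) := { (inferInstance : Group (T ⧸ center T)) with mul_comm := hcomm }
  let _ : CommGroup (center T) :=
    { (inferInstance : Group (center T)) with mul_comm := fun a b => Subtype.ext (Q.com a.2 b) }
  let _ : Module (ZMod 2) (Additive (T ⧸ center T)) := AddCommGroup.zmodModule (fun v => by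
    rw [two_nsmul]
    exact congrArg Additive.ofMul (hsqV v.toMul))
  let _ : Module (ZMod 2) (Additive (center T)) := AddCommGroup.zmodModule (fun v => by
    rw [two_nsmul]
    exact congrArg Additive.ofMul (Subtype.ext ((Q.inv _).2 (v.toMul).2)))
  let q : T ⧸ center T → center T := Quotient.lift (fun x : T => (⟨x * x, Q.sq x⟩ : center T)) (by
    intro a b hab
    rw [← Quotient.eq_iff_equiv] at hab
    have h1 : a⁻¹ * b ∈ center T := (QuotientGroup.eq (s := center T)).mp hab
    apply Subtype.ext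
    change a * a = b * b
    have h2 : b = a * (a⁻¹ * b) := by group
    have h3 : (a⁻¹ * b) * (a⁻¹ * b) = 1 := (Q.inv _).2 h1
    rw [h2]
    calc a * a = a * 1 * a := by group
      _ = a * ((a⁻¹ * b) * (a⁻¹ * b)) * a := by rw [h3]
      _ = a * (a⁻¹ * b) * ((a⁻¹ * b) * a) := by group
      _ = a * (a⁻¹ * b) * (a * (a⁻¹ * b)) := by rw [Q.com h1 a])
  have hq : ∀ x : T, q (x : T ⧸ center T) = ⟨x * x, Q.sq x⟩ := fun x => rfl
  let Q0 : Additive (T ⧸ center T) → Additive (center T) := fun v => Additive.ofMul (q v.toMul)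
  have hQ0 : ∀ x : T, Q0 (Additive.ofMul (x : T ⧸ center T)) = Additive.ofMul ⟨x * x, Q.sq x⟩ := fun x => rfl
  have hrep : ∀ v : Additive (T ⧸ center T), ∃ x : T, v = Additive.ofMul (x : T ⧸ center T) := by
    intro v
    obtain ⟨x, hx⟩ := QuotientGroup.mk_surjective v.toMul
    exact ⟨x, by rw [hx]; rfl⟩
  have hpolar : ∀ x y : T, QuadraticMap.polar Q0 (Additive.ofMul (x : T ⧸ center T))
      (Additive.ofMul (y : T ⧸ center T)) = Additive.ofMul ⟨cm x y, Q.cm_mem x y⟩ := by
    intro x y
    have h1 : Q0 (Additive.ofMul (x : T ⧸ center T) + Additive.ofMul (y : T ⧸ center T)) =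
        Additive.ofMul ⟨cm x y, Q.cm_mem x y⟩ + (Additive.ofMul ⟨x * x, Q.sq x⟩ +
          Additive.ofMul ⟨y * y, Q.sq y⟩) := by
      change Additive.ofMul (⟨x * y * (x * y), Q.sq (x * y)⟩ : center T) = _
      rw [← ofMul_mul, ← ofMul_mul]
      congr 1
      apply Subtype.ext
      change x * y * (x * y) = cm x y * (x * x * (y * y))
      exact Q.mul_sq x y
    rw [QuadraticMap.polar, h1, hQ0, hQ0]
    abel
  have hpadd : ∀ x x' y : Additive (T ⧸ center T), QuadraticMap.polar Q0 (x + x') y =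
      QuadraticMap.polar Q0 x y + QuadraticMap.polar Q0 x' y := by
    intro v v' w
    obtain ⟨x, rfl⟩ := hrep v
    obtain ⟨x', rfl⟩ := hrep v'
    obtain ⟨y, rfl⟩ := hrep w
    rw [hpolar, hpolar]
    have h1 : Additive.ofMul (x : T ⧸ center T) + Additive.ofMul (x' : T ⧸ center T) =
      Additive.ofMul ((x * x' : T) : T ⧸ center T) := rfl
    rw [h1, hpolar, ← ofMul_mul]
    congr 1
    apply Subtype.ext
    change cm (x * x') y = cm x y * cm x' y
    exact Q.cm_mul_left x x' y
  have hQ00 : Q0 0 = 0 := by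
    have := hQ0 1
    have h1 : Additive.ofMul ((1 : T) : T ⧸ center T) = 0 := rfl
    rw [h1] at this
    rw [this]
    have h2 : (⟨(1 : T) * 1, Q.sq 1⟩ : center T) = 1 := Subtype.ext (one_mul 1)
    rw [h2]; rfl
  have hz2 : ∀ a : ZMod 2, a = 0 ∨ a = 1 := by decide
  let QQ : QuadraticMap (ZMod 2) (Additive (T ⧸ center T)) (Additive (center T)) := QuadraticMap.ofPolar Q0
    (by
      intro a x
      rcases hz2 a with rfl | rfl
      · rw [zero_smul, zero_mul, zero_smul, hQ00]
      · rw [one_smul, one_mul, one_smul])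
    hpadd
    (by
      intro a x y
      rcases hz2 a with rfl | rfl
      · rw [zero_smul, zero_smul]
        have := hpadd 0 0 y
        rw [add_zero] at this
        exact left_eq_add.mp this
      · rw [one_smul, one_smul])
  have hanis : ∀ v, QQ v = 0 → v = 0 := by
    intro v hv
    obtain ⟨x, rfl⟩ := hrep v
    have h1 : (⟨x * x, Q.sq x⟩ : center T) = 1 := hv
    have h2 : x * x = 1 := congrArg Subtype.val h1
    have h3 : (x : T ⧸ center T) = 1 := (QuotientGroup.eq_one_iff x).mpr ((Q.inv x).1 h2)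
    rw [h3]; rfl
  have hfd1 : Module.Finite (ZMod 2) (Additive (T ⧸ center T)) := Module.Finite.of_finite
  have hfd2 : Module.Finite (ZMod 2) (Additive (center T)) := Module.Finite.of_finite
  have hdim := H16.Suz.anis_dim QQ hanis
  have hc1 := Module.natCard_eq_pow_finrank (K := ZMod 2) (V := Additive (T ⧸ center T))
  have hc2 := Module.natCard_eq_pow_finrank (K := ZMod 2) (V := Additive (center T))
  rw [Nat.card_zmod] at hc1 hc2
  have hc1' : Nat.card (T ⧸ center T) = 2 ^ Module.finrank (ZMod 2) (Additive (T ⧸ center T)) := hc1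
  have hc2' : Nat.card (center T) = 2 ^ Module.finrank (ZMod 2) (Additive (center T)) := hc2
  have hn' : Module.finrank (ZMod 2) (Additive (center T)) = n := by
    rw [hn] at hc2'
    exact (Nat.pow_right_injective (le_refl 2) hc2').symm
  rw [(center T).card_eq_card_quotient_mul_card_subgroup, hc1', hc2', hn', ← pow_add, ← pow_mul]
  rw [hn'] at hdim
  exact Nat.pow_le_pow_right (by norm_num) (by omega)

/-- every nontrivial element of the centre is a square the same number of times -/
theorem QT.count (Q : QT T) (β : MulAut T)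
    (htr : ∀ x y : T, x ≠ 1 → x * x = 1 → y ≠ 1 → y * y = 1 → ∃ k : ℤ, (β ^ k) x = y) :
    (Nat.card (center T) - 1) ∣ (Nat.card T - Nat.card (center T)) := by
  classical
  haveI : Fintype T := Fintype.ofFinite T
  by_cases hz : ∃ z : T, z ∈ center T ∧ z ≠ 1
  · obtain ⟨z, hz, hz1⟩ := hz
    -- equal fibres
    have hfib : ∀ y ∈ (Finset.univ.filter (fun y : T => y ∈ center T ∧ y ≠ 1)),
        ((Finset.univ.filter (fun x : T => x ∉ center T)).filter (fun x => x * x = y)).card =
        ((Finset.univ.filter (fun x : T => x ∉ center T)).filter (fun x => x * x = z)).card := by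
      intro y hy
      rw [Finset.mem_filter] at hy
      obtain ⟨-, hy, hy1⟩ := hy
      obtain ⟨k, hk⟩ := htr z y hz1 ((Q.inv z).2 hz) hy1 ((Q.inv y).2 hy)
      have hcen : ∀ (γ : MulAut T) (x : T), γ x ∈ center T ↔ x ∈ center T := by
        intro γ x
        rw [← Q.inv, ← Q.inv, ← map_mul]
        constructor
        · intro h
          rw [← map_one γ] at h
          exact γ.injective h
        · intro h; rw [h, map_one]
      symm
      refine Finset.card_bij (fun x _ => (β ^ k) x) ?_ ?_ ?_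
      · intro x hx
        rw [Finset.mem_filter, Finset.mem_filter] at hx ⊢
        refine ⟨⟨Finset.mem_univ _, fun h => hx.1.2 ((hcen _ _).1 h)⟩, ?_⟩
        rw [← map_mul, hx.2, hk]
      · intro a _ b _ hab
        exact (β ^ k).injective hab
      · intro x hx
        rw [Finset.mem_filter, Finset.mem_filter] at hx
        refine ⟨(β ^ k).symm x, ?_, (β ^ k).apply_symm_apply x⟩
        rw [Finset.mem_filter, Finset.mem_filter]
        refine ⟨⟨Finset.mem_univ _, fun h => hx.1.2 ?_⟩, ?_⟩
        · have := (hcen (β ^ k) ((β ^ k).symm x)).2 h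
          rwa [MulEquiv.apply_symm_apply] at this
        · apply (β ^ k).injective
          rw [map_mul, MulEquiv.apply_symm_apply, hx.2, hk]
    have h1 := Finset.card_eq_sum_card_fiberwise (f := fun x : T => x * x)
      (s := Finset.univ.filter (fun x : T => x ∉ center T))
      (t := Finset.univ.filter (fun y : T => y ∈ center T ∧ y ≠ 1)) (by
        intro x hx
        rw [Finset.mem_coe, Finset.mem_filter] at hx ⊢
        exact ⟨Finset.mem_univ _, Q.sq x, fun h => hx.2 ((Q.inv x).1 h)⟩)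
    rw [Finset.sum_congr rfl hfib, Finset.sum_const, smul_eq_mul] at h1
    have h2 : (Finset.univ.filter (fun x : T => x ∉ center T)).card = Nat.card T - Nat.card (center T) := by
      have h3 : (Finset.univ.filter (fun x : T => x ∉ center T)) =
          (Finset.univ.filter (fun x : T => x ∈ center T))ᶜ := by
        ext x; simp
      rw [h3, Finset.card_compl, Nat.card_eq_fintype_card, Nat.card_eq_fintype_card]
      congr 1
      rw [Fintype.card_subtype]
    have h4 : (Finset.univ.filter (fun y : T => y ∈ center T ∧ y ≠ 1)).card = Nat.card (center T) - 1 := by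
      have h5 : (Finset.univ.filter (fun y : T => y ∈ center T ∧ y ≠ 1)) =
          (Finset.univ.filter (fun x : T => x ∈ center T)).erase 1 := by
        ext x; simp [and_comm]
      rw [h5, Finset.card_erase_of_mem (by simp), Nat.card_eq_fintype_card, Fintype.card_subtype]
    rw [h2, h4] at h1
    exact ⟨_, h1⟩
  · push Not at hz
    have h1 : ∀ x : T, x = 1 := fun x => by
      have h2 : x * x = 1 := hz _ (Q.sq x)
      exact hz x ((Q.inv x).1 h2)
    have h2 : Nat.card T = 1 := Nat.card_eq_one_iff_unique.2 ⟨⟨fun a b => by rw [h1 a, h1 b]⟩, ⟨1⟩⟩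
    have h3 : Nat.card (center T) = 1 :=
      Nat.card_eq_one_iff_unique.2 ⟨⟨fun a b => Subtype.ext (by rw [h1 a, h1 b])⟩, ⟨1⟩⟩
    rw [h2, h3]

/-- `|T| = |Z| ^ 2` or `|T| = |Z| ^ 3` -/
theorem QT.card_cases (Q : QT T) (h2 : IsPGroup 2 T) (hna : ∃ x y : T, x * y ≠ y * x) (β : MulAut T)
    (htr : ∀ x y : T, x ≠ 1 → x * x = 1 → y ≠ 1 → y * y = 1 → ∃ k : ℤ, (β ^ k) x = y)
    (h4 : 4 ≤ Nat.card (center T)) (hp : (Nat.card (center T) - 1).Prime) :
    Nat.card T = Nat.card (center T) ^ 2 ∨ Nat.card T = Nat.card (center T) ^ 3 := by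
  haveI : Fact (Nat.Prime 2) := ⟨Nat.prime_two⟩
  obtain ⟨n, hn⟩ := (h2.to_subgroup (center T)).exists_card_eq
  obtain ⟨k, hk⟩ := h2.exists_card_eq
  have hle := Q.card_le hn
  have hdvd := Q.count β htr
  rw [hn] at h4 hp hdvd ⊢
  rw [hk] at hle hdvd ⊢
  have hn2 : 2 ≤ n := by
    by_contra h
    have : n = 0 ∨ n = 1 := by omega
    rcases this with rfl | rfl <;> norm_num at h4
  have hnk : n < k := by
    have h5 : Nat.card (center T) ∣ Nat.card T := (center T).card_subgroup_dvd_card
    rw [hn, hk] at h5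
    have h6 := (Nat.pow_dvd_pow_iff_le_right (by norm_num)).1 h5
    refine lt_of_le_of_ne h6 ?_
    intro h7
    obtain ⟨x, y, hxy⟩ := hna
    have h8 : center T = ⊤ := by
      apply Subgroup.eq_top_of_card_eq
      rw [hn, hk, h7]
    have h9 : x ∈ center T := h8 ▸ mem_top x
    exact hxy (Q.com h9 y)
  rw [← pow_mul] at hle
  have hk3 : k ≤ n * 3 := (Nat.pow_le_pow_iff_right (by norm_num)).1 hle
  obtain ⟨m, rfl⟩ : ∃ m, k = n + m := ⟨k - n, by omega⟩
  have h5 : 2 ^ (n + m) - 2 ^ n = 2 ^ n * (2 ^ m - 1) := by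
    rw [Nat.mul_sub, ← pow_add, mul_one]
  rw [h5] at hdvd
  have h6 : (2 ^ n - 1) ∣ (2 ^ m - 1) := by
    refine (Nat.Coprime.dvd_mul_left ?_).1 hdvd
    have h7 : 2 ^ n = (2 ^ n - 1) + 1 := by omega
    rw [h7]
    simp
  have h7 : n ∣ m := by
    have h8 := Nat.gcd_eq_left h6
    rw [Nat.pow_sub_one_gcd_pow_sub_one] at h8
    have h9 : 2 ^ Nat.gcd n m = 2 ^ n := by
      have h10 : 0 < 2 ^ Nat.gcd n m := by positivity
      have h11 : 0 < 2 ^ n := by positivity
      omega
    have h10 := Nat.pow_right_injective (le_refl 2) h9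
    exact Nat.gcd_eq_left_iff_dvd.1 h10
  obtain ⟨c, rfl⟩ := h7
  have hc0 : c ≠ 0 := by rintro rfl; omega
  have hc2 : c ≤ 2 := by
    by_contra h
    have : 3 ≤ c := by omega
    nlinarith
  have : c = 1 ∨ c = 2 := by omega
  rcases this with rfl | rfl
  · left; rw [← pow_mul]; congr 1; ring
  · right; rw [← pow_mul]; congr 1; ring

end H83.PyrF
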