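import Cfsg.Agent.Lib.H83.PyrF4
import Cfsg.Agent.Lib.H59.GW4d

set_option autoImplicit false
set_option linter.unusedVariables false
set_option linter.unusedSectionVars false
set_option linter.style.haveILetI false

/-!
# S3930, piece F: solvability of a group all of whose involutions are central
-/

namespace H83.PyrF

open Subgroup

/-- the squaring map is injective modulo the centre if `|T| = |Z| ^ 2` -/
theorem QT.sq_inj {T : Type*} [Group T] [Finite T] (Q : QT T) (hna : ∃ x y : T, x * y ≠ y * x) (β : MulAut T)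
    (htr : ∀ x y : T, x ≠ 1 → x * x = 1 → y ≠ 1 → y * y = 1 → ∃ k : ℤ, (β ^ k) x = y)
    (hc : Nat.card T = Nat.card (center T) ^ 2) : ∀ x y : T, x * x = y * y → x⁻¹ * y ∈ center T := by
  classical
  obtain ⟨u, v, huv⟩ := hna
  have hu : u ∉ center T := fun h => huv (Q.com h v)
  let q : T ⧸ center T → center T := Quotient.lift (fun x : T => (⟨x * x, Q.sq x⟩ : center T)) (by
    intro a b hab
    rw [← Quotient.eq_iff_equiv] at hab
    have h1 : a⁻¹ * b ∈ center T := (QuotientGroup.eq (s := center T)).mp hab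
    apply Subtype.ext
    change a * a = b * b
    have h2 : b = a * (a⁻¹ * b) := by group
    have h3 : (a⁻¹ * b) * (a⁻¹ * b) = 1 := (Q.inv _).2 h1
    rw [h2]
    calc a * a = a * 1 * a := by group
      _ = a * ((a⁻¹ * b) * (a⁻¹ * b)) * a := by rw [h3]
      _ = a * (a⁻¹ * b) * ((a⁻¹ * b) * a) := by group
      _ = a * (a⁻¹ * b) * (a * (a⁻¹ * b)) := by rw [Q.com h1 a])
  have hq : ∀ x : T, q (x : T ⧸ center T) = ⟨x * x, Q.sq x⟩ := fun x => rfl
  have hsur : Function.Surjective q := by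
    intro z
    by_cases hz : z = 1
    · refine ⟨((1 : T) : T ⧸ center T), ?_⟩
      rw [hq, hz]
      exact Subtype.ext (one_mul 1)
    · have h1 : u * u ≠ 1 := fun h => hu ((Q.inv u).1 h)
      have h2 : (z : T) ≠ 1 := fun h => hz (Subtype.ext h)
      obtain ⟨k, hk⟩ := htr (u * u) z h1 ((Q.inv _).2 (Q.sq u)) h2 ((Q.inv _).2 z.2)
      refine ⟨(((β ^ k) u : T) : T ⧸ center T), ?_⟩
      rw [hq]
      apply Subtype.ext
      change (β ^ k) u * (β ^ k) u = z
      rw [← map_mul, hk]
  have hcard : Nat.card (T ⧸ center T) = Nat.card (center T) := by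
    have h1 := (center T).card_eq_card_quotient_mul_card_subgroup
    rw [hc, pow_two] at h1
    exact (Nat.eq_of_mul_eq_mul_right Nat.card_pos h1).symm
  have hbij : Function.Bijective q :=
    Function.Surjective.bijective_of_nat_card_le hsur (by rw [hcard])
  intro x y hxy
  have h1 : q (x : T ⧸ center T) = q (y : T ⧸ center T) := by
    rw [hq, hq]; exact Subtype.ext hxy
  exact (QuotientGroup.eq (s := center T)).mp (hbij.1 h1)

variable {C : Type*} [Group C] [Finite C]

/-- the odd order trick -/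
theorem odd_trick {g a d : C} (hg : Odd (orderOf g)) (hd : ∀ x : C, d * x = x * d) (hdd : d * d = 1)
    (h : g * a * g⁻¹ = a * d) : g * a = a * g := by
  have key : ∀ k : ℕ, g ^ k * a * (g ^ k)⁻¹ = a * d ^ k := by
    intro k
    induction k with
    | zero => simp
    | succ k ih =>
      have hdk : ∀ x : C, d ^ k * x = x * d ^ k := fun x => (Commute.pow_left (hd x) k).eq
      calc g ^ (k + 1) * a * (g ^ (k + 1))⁻¹ = g * (g ^ k * a * (g ^ k)⁻¹) * g⁻¹ := by
            rw [pow_succ']; group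
        _ = g * a * (d ^ k * g⁻¹) := by rw [ih]; group
        _ = (g * a * g⁻¹) * d ^ k := by rw [hdk]; group
        _ = a * d ^ (k + 1) := by rw [h, pow_succ', mul_assoc]
  obtain ⟨m, hm⟩ := hg
  have h1 := key (orderOf g)
  rw [pow_orderOf_eq_one, hm, pow_succ, pow_mul, pow_two, hdd, one_pow, one_mul] at h1
  have h2 : d = 1 := by
    have : a = a * d := by simpa using h1
    exact (mul_eq_left.1 this.symm)
  rw [h2, mul_one] at h
  have : g * a = g * a * g⁻¹ * g := by group
  rw [this, h]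

theorem solv_central (Z : Subgroup C) (hZc : ∀ z ∈ Z, ∀ x : C, z * x = x * z) (hsq : ∀ z ∈ Z, z * z = 1)
    (hinv : ∀ x : C, x * x = 1 → x ∈ Z) (h4 : 4 ≤ Nat.card Z) (hp : (Nat.card Z - 1).Prime) (T : Sylow 2 C)
    (β : MulAut (T : Subgroup C))
    (htr : ∀ x y : (T : Subgroup C), x ≠ 1 → x * x = 1 → y ≠ 1 → y * y = 1 → ∃ k : ℤ, (β ^ k) x = y) :
    Group.IsSolvable C := by
  classical
  haveI : Fact (Nat.Prime 2) := ⟨Nat.prime_two⟩
  haveI hZn : Z.Normal := ⟨fun z hz g => by rw [← hZc z hz g, mul_assoc, mul_inv_cancel, mul_one]; exact hz⟩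
  have hZT : Z ≤ (T : Subgroup C) := by
    have h1 : IsPGroup 2 Z := by
      intro z
      refine ⟨1, ?_⟩
      rw [pow_one, pow_two]
      exact Subtype.ext (hsq _ z.2)
    have h2 := h1.inf_normalizer_sylow T
    intro z hz
    have h3 : z ∈ Z ⊓ (T : Subgroup C) := by
      rw [← h2]
      refine mem_inf.2 ⟨hz, ?_⟩
      change z ∈ normalizer ((T : Subgroup C) : Set C)
      rw [mem_normalizer_iff]
      intro x
      rw [hZc z hz x, mul_assoc, mul_inv_cancel, mul_one]
    exact (mem_inf.1 h3).2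
  by_cases hab : ∀ a ∈ (T : Subgroup C), ∀ b ∈ (T : Subgroup C), a * b = b * a
  · -- abelian case
    refine solv_burn T hab ?_
    intro g hg hodd
    have key : ∀ n : ℕ, ∀ a ∈ (T : Subgroup C), orderOf a = n → g * a = a * g := by
      intro n
      induction n using Nat.strong_induction_on with
      | _ n ih =>
        intro a ha hn
        by_cases ha1 : a = 1
        · rw [ha1]; simp
        have hlt : orderOf (a * a) < n := by
          obtain ⟨k, hk⟩ := (IsPGroup.iff_orderOf.1 T.2) ⟨a, ha⟩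
          rw [← Subgroup.orderOf_coe] at hk
          have hk' : orderOf a = 2 ^ k := hk
          have hk0 : k ≠ 0 := by
            rintro rfl
            rw [pow_zero] at hk'
            exact ha1 (orderOf_eq_one_iff.1 hk')
          obtain ⟨j, rfl⟩ := Nat.exists_eq_succ_of_ne_zero hk0
          have h1 : (a * a) ^ (2 ^ j) = 1 := by
            rw [← pow_two, ← pow_mul, ← pow_succ', ← hk']
            exact pow_orderOf_eq_one a
          have h2 : orderOf (a * a) ≤ 2 ^ j := orderOf_le_of_pow_eq_one (by positivity) h1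
          rw [← hn, hk', pow_succ]
          have h3 : 0 < 2 ^ j := by positivity
          omega
        have h1 := ih _ hlt (a * a) (mul_mem ha ha) rfl
        have h2 : g * a * g⁻¹ ∈ (T : Subgroup C) := (mem_normalizer_iff.1 hg a).1 ha
        have h3 : (g * a * g⁻¹) * (g * a * g⁻¹) = a * a := by
          calc (g * a * g⁻¹) * (g * a * g⁻¹) = g * (a * a) * g⁻¹ := by group
            _ = a * a := by rw [h1]; group
        have h4 : a⁻¹ * (g * a * g⁻¹) ∈ Z := by
          apply hinv
          have h5 : a⁻¹ * (g * a * g⁻¹) = (g * a * g⁻¹) * a⁻¹ := hab _ (inv_mem ha) _ h2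
          calc a⁻¹ * (g * a * g⁻¹) * (a⁻¹ * (g * a * g⁻¹))
              = a⁻¹ * (g * a * g⁻¹) * ((g * a * g⁻¹) * a⁻¹) := by rw [← h5]
            _ = a⁻¹ * ((g * a * g⁻¹) * (g * a * g⁻¹)) * a⁻¹ := by group
            _ = 1 := by rw [h3]; group
        refine odd_trick hodd (hZc _ h4) (hsq _ h4) ?_
        group
    intro a ha
    exact key _ a ha rfl
  -- nonabelian case
  push Not at hab
  obtain ⟨u, hu, v, hv, huv⟩ := hab
  have hna : ∃ x y : (T : Subgroup C), x * y ≠ y * x :=
    ⟨⟨u, hu⟩, ⟨v, hv⟩, fun h => huv (congrArg Subtype.val h)⟩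
  have htwo : ∃ x y : (T : Subgroup C), x ≠ y ∧ x ≠ 1 ∧ x * x = 1 ∧ y ≠ 1 ∧ y * y = 1 := by
    haveI : Fintype Z := Fintype.ofFinite Z
    have h1 : 2 < Fintype.card Z := by rw [← Nat.card_eq_fintype_card]; omega
    obtain ⟨a, b, c, hab, hac, hbc⟩ := Fintype.two_lt_card_iff.1 h1
    have key : ∀ x y : Z, x ≠ y → x ≠ 1 → y ≠ 1 →
        ∃ x y : (T : Subgroup C), x ≠ y ∧ x ≠ 1 ∧ x * x = 1 ∧ y ≠ 1 ∧ y * y = 1 := by
      intro x y hxy hx hy
      refine ⟨⟨x, hZT x.2⟩, ⟨y, hZT y.2⟩, ?_, ?_, ?_, ?_, ?_⟩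
      · intro h
        have h0 : (x : C) = y := congrArg (fun t : (T : Subgroup C) => (t : C)) h
        exact hxy (Subtype.ext h0)
      · intro h
        have h0 : (x : C) = 1 := congrArg (fun t : (T : Subgroup C) => (t : C)) h
        exact hx (Subtype.ext h0)
      · exact Subtype.ext (hsq _ x.2)
      · intro h
        have h0 : (y : C) = 1 := congrArg (fun t : (T : Subgroup C) => (t : C)) h
        exact hy (Subtype.ext h0)
      · exact Subtype.ext (hsq _ y.2)
    by_cases ha : a = 1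
    · exact key b c hbc (fun h => hab (by rw [ha, h])) (fun h => hac (by rw [ha, h]))
    · by_cases hb : b = 1
      · exact key a c hac ha (fun h => hbc (by rw [hb, h]))
      · exact key a b hab ha hb
  have Q : QT (T : Subgroup C) := qt_of T.2 hna htwo β htr
  have hZcen : ∀ x : (T : Subgroup C), x ∈ center (T : Subgroup C) ↔ (x : C) ∈ Z := by
    intro x
    rw [← Q.inv]
    constructor
    · intro h
      exact hinv _ (congrArg Subtype.val h)
    · intro h
      exact Subtype.ext (hsq _ h)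
  have hcardZ : Nat.card (center (T : Subgroup C)) = Nat.card Z := by
    refine Nat.card_congr ⟨fun x => ⟨x.1, (hZcen x.1).1 x.2⟩, fun z => ⟨⟨z.1, hZT z.2⟩, (hZcen _).2 z.2⟩, ?_, ?_⟩
    · intro x; rfl
    · intro x; rfl
  have hcases := Q.card_cases T.2 hna β htr (by rw [hcardZ]; exact h4) (by rw [hcardZ]; exact hp)
  have hsqZ : ∀ x ∈ (T : Subgroup C), x * x ∈ Z := fun x hx => (hZcen _).1 (Q.sq ⟨x, hx⟩)
  -- the quotient
  let f := QuotientGroup.mk' Z
  have hf : Function.Surjective f := QuotientGroup.mk'_surjective Z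
  have hker : ∀ x : C, f x = 1 ↔ x ∈ Z := fun x => QuotientGroup.eq_one_iff x
  let M : Sylow 2 (C ⧸ Z) := T.mapSurjective hf
  have hM : ∀ y, y ∈ (M : Subgroup (C ⧸ Z)) ↔ ∃ x ∈ (T : Subgroup C), f x = y := fun y => Iff.rfl
  have hMT : ∀ x, f x ∈ (M : Subgroup (C ⧸ Z)) → x ∈ (T : Subgroup C) := by
    intro x hx
    obtain ⟨y, hy, hyx⟩ := (hM _).1 hx
    have h1 : f (y⁻¹ * x) = 1 := by rw [map_mul, map_inv, hyx, inv_mul_cancel]
    have h2 : y⁻¹ * x ∈ (T : Subgroup C) := hZT ((hker _).1 h1)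
    have h3 : x = y * (y⁻¹ * x) := by group
    rw [h3]
    exact mul_mem hy h2
  have hMcomm : ∀ a ∈ (M : Subgroup (C ⧸ Z)), ∀ b ∈ (M : Subgroup (C ⧸ Z)), a * b = b * a := by
    intro a ha b hb
    obtain ⟨x, hx, rfl⟩ := (hM _).1 ha
    obtain ⟨y, hy, rfl⟩ := (hM _).1 hb
    have h1 : cm (⟨x, hx⟩ : (T : Subgroup C)) ⟨y, hy⟩ ∈ center (T : Subgroup C) := Q.cm_mem _ _
    have h2 : x * y * x⁻¹ * y⁻¹ ∈ Z := (hZcen _).1 h1
    have h3 := (hker _).2 h2
    rw [map_mul, map_mul, map_mul, map_inv, map_inv] at h3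
    have h4 : f x * f y = (f x * f y * (f x)⁻¹ * (f y)⁻¹) * (f y * f x) := by group
    rw [h4, h3, one_mul]
  have hMexp : ∀ a ∈ (M : Subgroup (C ⧸ Z)), a * a = 1 := by
    intro a ha
    obtain ⟨x, hx, rfl⟩ := (hM _).1 ha
    rw [← map_mul]
    exact (hker _).2 (hsqZ x hx)
  have hTM : Nat.card (T : Subgroup C) = Nat.card (M : Subgroup (C ⧸ Z)) * Nat.card Z := by
    let ψ : (T : Subgroup C) →* C ⧸ Z := f.comp (T : Subgroup C).subtype
    have h1 := ψ.ker.card_mul_index
    rw [Subgroup.index_ker] at h1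
    have h2 : ψ.ker = center (T : Subgroup C) := by
      ext x
      rw [MonoidHom.mem_ker, hZcen]
      exact hker _
    have h3 : ψ.range = (M : Subgroup (C ⧸ Z)) := by
      ext y
      constructor
      · rintro ⟨x, rfl⟩
        exact ⟨x, x.2, rfl⟩
      · rintro ⟨x, hx, rfl⟩
        exact ⟨⟨x, hx⟩, rfl⟩
    rw [h2, h3, hcardZ] at h1
    rw [← h1, mul_comm]
  have hZpos : 0 < Nat.card Z := Nat.card_pos
  -- lifting
  have lift : ∀ g ∈ normalizer ((M : Subgroup (C ⧸ Z)) : Set (C ⧸ Z)), Odd (orderOf g) →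
      ∃ h ∈ normalizer ((T : Subgroup C) : Set C), Odd (orderOf h) ∧ f h = g := by
    intro g hg hodd
    obtain ⟨h0, rfl⟩ := hf g
    obtain ⟨m, hm1, hm2⟩ := H59.GW4.exists_odd_lift f h0 hodd
    refine ⟨h0 ^ m, ?_, hm1, hm2⟩
    rw [← hm2] at hg
    rw [mem_normalizer_iff]
    intro x
    constructor
    · intro hx
      apply hMT
      rw [map_mul, map_mul, map_inv]
      exact (mem_normalizer_iff.1 hg (f x)).1 ((hM _).2 ⟨x, hx, rfl⟩)
    · intro hx
      apply hMT
      refine (mem_normalizer_iff.1 hg (f x)).2 ?_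
      rw [← map_inv, ← map_mul, ← map_mul]
      exact (hM _).2 ⟨_, hx, rfl⟩
  -- an odd element which fixes a coset
  have fixc : ∀ h : C, Odd (orderOf h) → ∀ x : C, x⁻¹ * (h * x * h⁻¹) ∈ Z → h * x = x * h := by
    intro h hodd x hx
    refine odd_trick hodd (hZc _ hx) (hsq _ hx) ?_
    group
  have hZsolv : Group.IsSolvable Z := solv_of_comm (fun a b => Subtype.ext (hZc _ a.2 _))
  refine solv_quot Z hZsolv ?_
  rcases hcases with hc | hc
  · -- `|T| = |Z| ^ 2`
    have hinj := Q.sq_inj hna β htr hc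
    refine solv_burn M hMcomm ?_
    intro g hg hodd a ha
    obtain ⟨h, hh, hodd', rfl⟩ := lift g hg hodd
    obtain ⟨x, hx, rfl⟩ := (hM _).1 ha
    have hx' : h * x * h⁻¹ ∈ (T : Subgroup C) := (mem_normalizer_iff.1 hh x).1 hx
    have h1 : x * x = (h * x * h⁻¹) * (h * x * h⁻¹) := by
      have h2 := hZc _ (hsqZ x hx) h
      calc x * x = x * x * h * h⁻¹ := by group
        _ = h * (x * x) * h⁻¹ := by rw [h2]
        _ = (h * x * h⁻¹) * (h * x * h⁻¹) := by group
    have h2 := hinj ⟨x, hx⟩ ⟨h * x * h⁻¹, hx'⟩ (Subtype.ext h1)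
    have h3 : x⁻¹ * (h * x * h⁻¹) ∈ Z := (hZcen _).1 h2
    rw [← map_mul, ← map_mul, fixc h hodd' x h3]
  · -- `|T| = |Z| ^ 3`
    have D : Cub (T : Subgroup C) := by
      refine { toQT := Q, card := hc, two := by rw [hcardZ]; omega, tr := ?_ }
      intro e he k hk he1 hk1
      obtain ⟨j, hj⟩ := htr e k he1 ((Q.inv _).2 he) hk1 ((Q.inv _).2 hk)
      exact ⟨β ^ j, hj⟩
    have hMcard : Nat.card (M : Subgroup (C ⧸ Z)) = Nat.card Z ^ 2 := by
      rw [hcardZ, hTM] at hc
      have h1 : Nat.card (M : Subgroup (C ⧸ Z)) * Nat.card Z = Nat.card Z ^ 2 * Nat.card Z := by rw [hc]; ring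
      exact Nat.eq_of_mul_eq_mul_right hZpos h1
    refine xsol M hMcomm hMexp (by rw [hMcard]; nlinarith) ?_ ?_
    · intro g hg hodd a ha ha1 hga
      obtain ⟨h, hh, hodd', rfl⟩ := lift g hg hodd
      obtain ⟨w, hw, rfl⟩ := (hM _).1 ha
      have hwZ : w ∉ Z := fun h0 => ha1 ((hker w).2 h0)
      have h1 : w⁻¹ * (h * w * h⁻¹) ∈ Z := by
        rw [← hker, map_mul, map_mul, map_mul, map_inv, map_inv, hga]; group
      have h2 : h * w = w * h := fixc h hodd' w h1
      let nT : normalizer ((T : Subgroup C) : Set C) := ⟨h, hh⟩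
      set α : MulAut (T : Subgroup C) := (T : Subgroup C).normalizerMonoidHom nT with hα
      have hαa : ∀ x : (T : Subgroup C), ((α x : (T : Subgroup C)) : C) = h * x * h⁻¹ := fun x => rfl
      have hαodd : Odd (orderOf α) := by
        have h3 : orderOf α ∣ orderOf nT := orderOf_map_dvd _ nT
        have h4 : orderOf nT = orderOf h := by rw [← Subgroup.orderOf_coe]
        rw [h4] at h3
        exact Odd.of_dvd_nat hodd' h3
      have hα1 : α = 1 := by
        refine D.aut_odd T.2 α hαodd ?_ (w := ⟨w, hw⟩) ?_ ?_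
        · intro z hz
          apply Subtype.ext
          rw [hαa]
          have h3 := hZc _ ((hZcen z).1 hz) h
          rw [← h3]; group
        · intro h0
          exact hwZ ((hZcen _).1 h0)
        · apply Subtype.ext
          rw [hαa]
          change h * w * h⁻¹ = w
          rw [h2]; group
      intro b hb
      obtain ⟨x, hx, rfl⟩ := (hM _).1 hb
      have h3 : ((α ⟨x, hx⟩ : (T : Subgroup C)) : C) = x := by rw [hα1]; rfl
      rw [hαa] at h3
      have h4 : h * x = x * h := by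
        have h5 : h * x = (h * x * h⁻¹) * h := by group
        have h6 : h * x * h⁻¹ = x := h3
        rw [h5, h6]
      rw [← map_mul, ← map_mul, h4]
    · -- two classes of involutions
      have hsz : ∃ x ∈ (T : Subgroup C), x ∉ Z := by
        refine ⟨u, hu, fun h => huv (hZc u h v)⟩
      obtain ⟨x, hx, hxZ⟩ := hsz
      have hxx : x * x ≠ 1 := fun h => hxZ (hinv x h)
      obtain ⟨z', hz', hz1, hz2⟩ : ∃ z' ∈ Z, z' ≠ 1 ∧ z' ≠ x * x := by
        by_contra hcon
        push Not at hcon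
        have h1 : Nat.card Z ≤ 2 := by
          have h2 : (Z : Set C) ⊆ {1, x * x} := by
            intro y hy
            by_cases hy1 : y = 1
            · left; exact hy1
            · right; exact hcon y hy hy1
          calc Nat.card Z = Set.ncard (Z : Set C) := rfl
            _ ≤ Set.ncard ({1, x * x} : Set C) := Set.ncard_le_ncard h2
            _ ≤ 2 := (Set.ncard_insert_le _ _).trans (by rw [Set.ncard_singleton])
        omega
      obtain ⟨k, hk⟩ := htr ⟨x * x, mul_mem hx hx⟩ ⟨z', hZT hz'⟩ (fun h => hxx (congrArg Subtype.val h))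
        (Subtype.ext (hsq _ (hsqZ x hx))) (fun h => hz1 (congrArg Subtype.val h)) (Subtype.ext (hsq _ hz'))
      set y : (T : Subgroup C) := (β ^ k) ⟨x, hx⟩ with hy
      have hyy : (y : C) * y = z' := by
        have h1 : y * y = (⟨z', hZT hz'⟩ : (T : Subgroup C)) := by
          rw [← hk, hy, ← map_mul]; rfl
        exact congrArg Subtype.val h1
      have hyZ : (y : C) ∉ Z := fun h => hz1 (by rw [← hyy]; exact hsq _ h)
      have ho : ∀ w ∈ (T : Subgroup C), w ∉ Z → orderOf (f w) = 2 := by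
        intro w hw hwZ
        apply orderOf_eq_prime
        · rw [pow_two]; exact hMexp _ ((hM _).2 ⟨w, hw, rfl⟩)
        · intro h; exact hwZ ((hker w).1 h)
      refine ⟨f x, f y, ho x hx hxZ, ho y y.2 hyZ, ?_⟩
      intro hconj
      obtain ⟨c, hcc⟩ := isConj_iff.1 hconj
      obtain ⟨d, rfl⟩ := hf c
      have h1 : (y : C)⁻¹ * (d * x * d⁻¹) ∈ Z := by
        rw [← hker, map_mul, map_mul, map_mul, map_inv, map_inv, hcc]; group
      set e := (y : C)⁻¹ * (d * x * d⁻¹) with he
      have h2 : d * x * d⁻¹ = y * e := by rw [he]; group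
      have h3 : d * (x * x) * d⁻¹ = z' := by
        calc d * (x * x) * d⁻¹ = (d * x * d⁻¹) * (d * x * d⁻¹) := by group
          _ = y * (e * y) * e := by rw [h2]; group
          _ = (y * y) * (e * e) := by rw [hZc e h1 y]; group
          _ = z' := by rw [hyy, hsq e h1, mul_one]
      have h4 := hZc _ (hsqZ x hx) d
      apply hz2
      rw [← h3, ← h4]; group

end H83.PyrF
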