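import Cfsg.Agent.Lib.H83.PyrF5
import Cfsg.Agent.Lib.H73.PyrDef

set_option autoImplicit false
set_option linter.unusedVariables false
set_option linter.unusedSectionVars false
set_option linter.style.haveILetI false

/-!
# S3930, piece F: `C_G(E)` is solvable
-/

namespace H83.PyrF

open Subgroup

/-- a group transitive on a set of prime size contains an element generating a transitive group -/
theorem trp {N Ω : Type*} [Group N] [Finite N] [Fintype Ω] [DecidableEq Ω] (f : N →* Equiv.Perm Ω)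
    (hp : (Fintype.card Ω).Prime) (ht : ∀ a b : Ω, ∃ n : N, f n a = b) :
    ∃ n : N, ∀ a b : Ω, ∃ k : ℤ, (f n ^ k) a = b := by
  classical
  haveI : Fact (Fintype.card Ω).Prime := ⟨hp⟩
  haveI : Nonempty Ω := Fintype.card_pos_iff.1 hp.pos
  let a : Ω := Classical.arbitrary Ω
  letI : MulAction N Ω := MulAction.compHom Ω f
  have hsm : ∀ (n : N) (x : Ω), n • x = f n x := fun n x => rfl
  haveI : MulAction.IsPretransitive N Ω := ⟨fun x y => by
    obtain ⟨n, hn⟩ := ht x y
    exact ⟨n, by rw [hsm]; exact hn⟩⟩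
  have h1 : (MulAction.stabilizer N a).index = Fintype.card Ω := by
    rw [MulAction.index_stabilizer_of_transitive, Nat.card_eq_fintype_card]
  have h2 : f.ker ≤ MulAction.stabilizer N a := by
    intro n hn
    rw [MulAction.mem_stabilizer_iff, hsm, MonoidHom.mem_ker.1 hn]; rfl
  have h3 : Fintype.card Ω ∣ Nat.card f.range := by
    rw [← Subgroup.index_ker, ← h1]
    exact Subgroup.index_dvd_of_le h2
  obtain ⟨⟨σ, hσ⟩, hord⟩ := exists_prime_orderOf_dvd_card' (Fintype.card Ω) h3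
  obtain ⟨n, rfl⟩ := hσ
  have hord' : orderOf (f n) = Fintype.card Ω := by
    rw [← hord, ← Subgroup.orderOf_coe]
  have hcyc : (f n).IsCycle := Equiv.Perm.isCycle_of_prime_order'' hp hord'
  have hsupp : (f n).support = Finset.univ := by
    rw [← Finset.card_eq_iff_eq_univ, ← hcyc.orderOf, hord']
  refine ⟨n, fun x y => ?_⟩
  have hx : f n x ≠ x := by rw [← Equiv.Perm.mem_support, hsupp]; exact Finset.mem_univ _
  have hy : f n y ≠ y := by rw [← Equiv.Perm.mem_support, hsupp]; exact Finset.mem_univ _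
  exact hcyc.sameCycle hx hy

variable {G : Type*} [Group G] [Finite G]

/-- conjugation on `E \ 1` -/
def conjAct (E : Subgroup G) (hn : E.Normal) (N : Subgroup G) :
    N →* Equiv.Perm {e : G // e ∈ E ∧ e ≠ 1} :=
  MonoidHom.mk' (fun n =>
    { toFun := fun e => ⟨n * e.1 * (n : G)⁻¹, hn.conj_mem _ e.2.1 _, fun h => e.2.2 (conj_eq_one_iff.1 h)⟩
      invFun := fun e => ⟨(n : G)⁻¹ * e.1 * n, by
        have := hn.conj_mem _ e.2.1 (n : G)⁻¹
        rwa [inv_inv] at this, fun h => e.2.2 (by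
        have h1 : (e.1 : G) = n * ((n : G)⁻¹ * e.1 * n) * (n : G)⁻¹ := by group
        rw [h1, h]; group)⟩
      left_inv := fun e => by
        apply Subtype.ext
        change (n : G)⁻¹ * (n * e.1 * (n : G)⁻¹) * n = e.1
        group
      right_inv := fun e => by
        apply Subtype.ext
        change n * ((n : G)⁻¹ * e.1 * n) * (n : G)⁻¹ = e.1
        group })
    (by
      intro a b
      ext e
      change ((a * b : N) : G) * e.1 * ((a * b : N) : G)⁻¹ = a * (b * e.1 * (b : G)⁻¹) * (a : G)⁻¹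
      rw [Subgroup.coe_mul]; group)

theorem conjAct_apply (E : Subgroup G) (hn : E.Normal) (N : Subgroup G) (n : N) (e : {e : G // e ∈ E ∧ e ≠ 1}) :
    (conjAct E hn N n e : G) = n * e.1 * (n : G)⁻¹ := rfl

/-- conjugation on a subgroup of a normal subgroup -/
def conjTwo (C : Subgroup G) (hC : C.Normal) (T : Subgroup C) (N : Subgroup G)
    (hN : ∀ n ∈ N, ∀ x : C, x ∈ T → (⟨n * x * n⁻¹, hC.conj_mem _ x.2 n⟩ : C) ∈ T) : N →* MulAut T :=
  MonoidHom.mk' (fun n =>
    { toFun := fun x => ⟨⟨n * x.1 * (n : G)⁻¹, hC.conj_mem _ x.1.2 n⟩, hN n n.2 x.1 x.2⟩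
      invFun := fun x => ⟨⟨(n : G)⁻¹ * x.1 * (n : G)⁻¹⁻¹, hC.conj_mem _ x.1.2 (n : G)⁻¹⟩,
        hN (n : G)⁻¹ (inv_mem n.2) x.1 x.2⟩
      left_inv := fun x => by
        apply Subtype.ext
        apply Subtype.ext
        change (n : G)⁻¹ * (n * x.1 * (n : G)⁻¹) * (n : G)⁻¹⁻¹ = x.1
        group
      right_inv := fun x => by
        apply Subtype.ext
        apply Subtype.ext
        change n * ((n : G)⁻¹ * x.1 * (n : G)⁻¹⁻¹) * (n : G)⁻¹ = x.1
        group
      map_mul' := fun x y => by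
        apply Subtype.ext
        apply Subtype.ext
        change n * (x.1 * y.1 : G) * (n : G)⁻¹ = (n * x.1 * (n : G)⁻¹) * (n * y.1 * (n : G)⁻¹)
        group })
    (by
      intro a b
      ext x
      change ((a * b : N) : G) * x.1 * ((a * b : N) : G)⁻¹ = a * (b * x.1 * (b : G)⁻¹) * (a : G)⁻¹
      rw [Subgroup.coe_mul]; group)

theorem conjTwo_apply (C : Subgroup G) (hC : C.Normal) (T : Subgroup C) (N : Subgroup G)
    (hN : ∀ n ∈ N, ∀ x : C, x ∈ T → (⟨n * x * n⁻¹, hC.conj_mem _ x.2 n⟩ : C) ∈ T) (n : N) (x : T) :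
    ((conjTwo C hC T N hN n x : C) : G) = n * x.1 * (n : G)⁻¹ := rfl

/-- piece F of S3930 -/
theorem csolv (E : Subgroup G) (hE : H73.Pyr.Big E) (h4 : 4 ≤ Nat.card E) (hp : (Nat.card E - 1).Prime)
    (ht : H73.Pyr.Tr E) : Group.IsSolvable (centralizer (E : Set G)) := by
  classical
  haveI : Fact (Nat.Prime 2) := ⟨Nat.prime_two⟩
  haveI := hE.nor
  set C := centralizer (E : Set G) with hCdef
  have hCn : C.Normal := by rw [hCdef]; infer_instance
  have hcomm : ∀ a ∈ E, ∀ b ∈ E, a * b = b * a := by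
    intro a ha b hb
    have h1 := hE.sq _ (mul_mem ha hb)
    have h2 := hE.sq a ha
    have h3 := hE.sq b hb
    calc a * b = a * (a * b * (a * b)) * b := by rw [h1, mul_one]
      _ = (a * a) * (b * a) * (b * b) := by group
      _ = b * a := by rw [h2, h3]; group
  have hEC : E ≤ C := by
    intro e he
    rw [hCdef, mem_centralizer_iff]
    intro f hf
    exact hcomm f hf e he
  obtain ⟨T⟩ : Nonempty (Sylow 2 C) := inferInstance
  set N := normalizer (((T : Subgroup C).map C.subtype : Subgroup G) : Set G) with hNdef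
  have hsup : N ⊔ C = ⊤ := T.normalizer_sup_eq_top
  -- `N` acts
  have hNT : ∀ n ∈ N, ∀ x : C, x ∈ (T : Subgroup C) →
      (⟨n * x * n⁻¹, hCn.conj_mem _ x.2 n⟩ : C) ∈ (T : Subgroup C) := by
    intro n hn x hx
    have h1 := (mem_normalizer_iff.1 hn (x : G)).1 ⟨x, hx, rfl⟩
    obtain ⟨y, hy, hyx⟩ := h1
    have h2 : y = (⟨n * x * n⁻¹, hCn.conj_mem _ x.2 n⟩ : C) := Subtype.ext hyx
    rw [← h2]; exact hy
  let Ω := {e : G // e ∈ E ∧ e ≠ 1}
  letI : Fintype Ω := Fintype.ofFinite Ω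
  have hΩ : Fintype.card Ω = Nat.card E - 1 := by
    rw [← Nat.card_eq_fintype_card]
    have h1 : Nat.card Ω = Set.ncard ((E : Set G) \ {1}) := by
      rw [← Nat.card_coe_set_eq]
      exact Nat.card_congr (Equiv.refl _)
    rw [h1, Set.ncard_sdiff_singleton_of_mem (one_mem E)]
    rfl
  obtain ⟨n, hn⟩ := trp (conjAct E hE.nor N) (by rw [hΩ]; exact hp) (by
    intro a b
    obtain ⟨g, hg⟩ := ht a a.2.1 b b.2.1 a.2.2 b.2.2
    have h1 : g ∈ N ⊔ C := hsup ▸ mem_top g
    rw [← SetLike.mem_coe, Subgroup.mul_normal, Set.mem_mul] at h1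
    obtain ⟨m, hm, c, hc, rfl⟩ := h1
    refine ⟨⟨m, hm⟩, ?_⟩
    apply Subtype.ext
    rw [conjAct_apply]
    change m * a.1 * m⁻¹ = b.1
    rw [← hg]
    have h2 : a.1 * c = c * a.1 := mem_centralizer_iff.1 hc a.1 a.2.1
    have h3 : c * a.1 * c⁻¹ = a.1 := by rw [← h2]; group
    calc m * a.1 * m⁻¹ = m * (c * a.1 * c⁻¹) * m⁻¹ := by rw [h3]
      _ = m * c * a.1 * (m * c)⁻¹ := by group)
  let φ := conjTwo C hCn (T : Subgroup C) N hNT
  have hEZ : Nat.card (E.subgroupOf C) = Nat.card E :=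
    Nat.card_congr (Subgroup.subgroupOfEquivOfLe hEC).toEquiv
  refine solv_central (E.subgroupOf C) ?_ ?_ ?_ (by rw [hEZ]; exact h4) (by rw [hEZ]; exact hp) T (φ n) ?_
  · intro z hz x
    apply Subtype.ext
    exact mem_centralizer_iff.1 x.2 z.1 (mem_subgroupOf.1 hz)
  · intro z hz
    exact Subtype.ext (hE.sq _ (mem_subgroupOf.1 hz))
  · intro x hx
    exact mem_subgroupOf.2 (hE.inv _ (congrArg Subtype.val hx))
  · intro x y hx hxx hy hyy
    have h1 : ∀ w : (T : Subgroup C), w ≠ 1 → w * w = 1 → ((w : C) : G) ∈ E ∧ ((w : C) : G) ≠ 1 := by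
      intro w hw hww
      refine ⟨hE.inv _ ?_, ?_⟩
      · exact congrArg (fun t : (T : Subgroup C) => ((t : C) : G)) hww
      · intro h
        apply hw
        apply Subtype.ext
        apply Subtype.ext
        exact h
    obtain ⟨k, hk⟩ := hn ⟨_, h1 x hx hxx⟩ ⟨_, h1 y hy hyy⟩
    refine ⟨k, ?_⟩
    rw [← map_zpow] at hk ⊢
    have h2 : ((n ^ k : N) : G) * ((x : C) : G) * ((n ^ k : N) : G)⁻¹ = ((y : C) : G) :=
      congrArg (fun t : Ω => (t : G)) hk
    apply Subtype.ext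
    apply Subtype.ext
    exact h2

end H83.PyrF
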